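import Cfsg.Agent.Bicyclic.Maximal

/-!
# Automorphisms of odd order of small `2`-groups

Restrictions to invariant subgroups and quotients, the subgroup generated by `x⁻¹ ω(x)`, and the
criteria used for essential subgroups of bicyclic groups.
-/

set_option autoImplicit false
set_option linter.style.haveILetI false
set_option linter.unusedSectionVars false

namespace CfsgLib.Bicyclic

open scoped commutatorElement

section basic

variable {G : Type*} [Group G]

theorem apply_three {ω : MulAut G} (h : ω ^ 3 = 1) (x : G) : ω (ω (ω x)) = x := by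
  have := DFunLike.congr_fun h x
  rwa [pow_succ, pow_succ, pow_one, MulAut.mul_apply, MulAut.mul_apply, MulAut.one_apply] at this

theorem odd_orderOf_of_cube {H : Type*} [Monoid H] {ω : H} (h : ω ^ 3 = 1) : Odd (orderOf ω) :=
  Odd.of_dvd_nat (by decide) (orderOf_dvd_of_pow_eq_one h)

theorem eq_self_of_apply_apply {ω : MulAut G} (hodd : Odd (orderOf ω)) {v : G} (h : ω (ω v) = v) :
    ω v = v := by
  obtain ⟨k, hk⟩ := hodd
  have hk2 : ∀ j : ℕ, (ω ^ (2 * j)) v = v := by
    intro j
    induction j with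
    | zero => rfl
    | succ j ih =>
      rw [show 2 * (j + 1) = 2 * j + 1 + 1 by ring, pow_succ, pow_succ, MulAut.mul_apply,
        MulAut.mul_apply, h, ih]
  have := DFunLike.congr_fun (pow_orderOf_eq_one ω) v
  rw [hk, pow_succ', MulAut.mul_apply, hk2, MulAut.one_apply] at this
  exact this

/-- Conjugation of `ω` into its inverse, evaluated. -/
theorem inverts_apply {ω σ : MulAut G} (h : σ * ω * σ⁻¹ = ω⁻¹) (x : G) :
    σ (ω x) = ω⁻¹ (σ x) := by
  have := DFunLike.congr_fun h (σ x)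
  simpa [MulAut.mul_apply] using this

variable [Finite G]

/-- The restriction of an automorphism to an invariant subgroup. -/
noncomputable def resAut (H : Subgroup G) (α : MulAut G) (h : ∀ x ∈ H, α x ∈ H) : MulAut H :=
  MulEquiv.ofBijective ((α.toMonoidHom.comp H.subtype).codRestrict H fun x => h x x.2)
    (Finite.injective_iff_bijective.1 fun a b hab =>
      Subtype.ext (α.injective (congrArg Subtype.val hab :)))

@[simp] theorem coe_resAut (H : Subgroup G) (α : MulAut G) (h : ∀ x ∈ H, α x ∈ H) (x : H) :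
    ((resAut H α h x : H) : G) = α x := rfl

theorem coe_resAut_pow (H : Subgroup G) (α : MulAut G) (h : ∀ x ∈ H, α x ∈ H) (k : ℕ) (x : H) :
    (((resAut H α h ^ k) x : H) : G) = (α ^ k) x := by
  induction k generalizing x with
  | zero => rfl
  | succ k ih => rw [pow_succ, pow_succ, MulAut.mul_apply, MulAut.mul_apply, ih, coe_resAut]

theorem resAut_pow_eq_one {H : Subgroup G} {α : MulAut G} {h : ∀ x ∈ H, α x ∈ H} {k : ℕ}
    (hk : α ^ k = 1) : resAut H α h ^ k = 1 :=
  MulEquiv.ext fun x => Subtype.ext (by rw [coe_resAut_pow, hk, MulAut.one_apply, MulAut.one_apply])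

/-- The action of an automorphism on an invariant quotient. -/
noncomputable def qAut (N : Subgroup G) [N.Normal] (α : MulAut G) (h : ∀ x ∈ N, α x ∈ N) :
    MulAut (G ⧸ N) :=
  MulEquiv.ofBijective (QuotientGroup.map N N α.toMonoidHom h)
    ((Finite.surjective_iff_bijective).1 fun q => by
      obtain ⟨g, rfl⟩ := QuotientGroup.mk_surjective q
      obtain ⟨g', rfl⟩ := α.surjective g
      exact ⟨(g' : G ⧸ N), rfl⟩)

@[simp] theorem qAut_mk (N : Subgroup G) [N.Normal] (α : MulAut G) (h : ∀ x ∈ N, α x ∈ N) (g : G) :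
    qAut N α h (g : G ⧸ N) = ((α g : G) : G ⧸ N) := rfl

theorem qAut_pow_eq_one {N : Subgroup G} [N.Normal] {α : MulAut G} {h : ∀ x ∈ N, α x ∈ N} {k : ℕ}
    (hk : α ^ k = 1) : qAut N α h ^ k = 1 := by
  have : ∀ (j : ℕ) (g : G), (qAut N α h ^ j) (g : G ⧸ N) = (((α ^ j) g : G) : G ⧸ N) := by
    intro j
    induction j with
    | zero => exact fun g => rfl
    | succ j ih =>
      intro g
      rw [pow_succ', pow_succ', MulAut.mul_apply, MulAut.mul_apply, ih, qAut_mk]
  refine MulEquiv.ext fun q => ?_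
  obtain ⟨g, rfl⟩ := QuotientGroup.mk_surjective q
  rw [this, hk]
  rfl

/-- An automorphism with `ω³ = 1` fixes a non-identity element if the order is not `1` modulo `3`. -/
theorem exists_fixed_ne_one {ω : MulAut G} (h : ω ^ 3 = 1) (hc : Nat.card G % 3 ≠ 1) :
    ∃ v : G, v ≠ 1 ∧ ω v = v := by
  haveI : Fact (Nat.Prime 3) := ⟨Nat.prime_three⟩
  have hp : IsPGroup 3 (Subgroup.zpowers ω) := by
    rintro ⟨_, k, rfl⟩
    refine ⟨1, Subtype.ext ?_⟩
    show (ω ^ k) ^ 3 ^ 1 = 1
    rw [pow_one, ← zpow_natCast, ← zpow_mul, mul_comm, zpow_mul, zpow_natCast, h, one_zpow]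
  by_contra hne
  push Not at hne
  refine hc ?_
  have h1 := hp.card_modEq_card_fixedPoints G
  haveI : Unique (MulAction.fixedPoints (Subgroup.zpowers ω) G) :=
    { default := ⟨1, fun g => map_one (g : MulAut G)⟩
      uniq := fun v => Subtype.ext (by
        by_contra hv
        exact hne v hv (v.2 ⟨ω, Subgroup.mem_zpowers ω⟩)) }
  rw [Nat.card_unique (α := ↑(MulAction.fixedPoints (Subgroup.zpowers ω) G))] at h1
  exact h1

/-- An automorphism with `ω³ = 1` fixes an element of every invariant coset of a `2`-subgroup. -/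
theorem exists_fixed_in_coset {ω : MulAut G} (h : ω ^ 3 = 1) (X : Subgroup G) (hX : IsPGroup 2 X)
    (hinv : ∀ x ∈ X, ω x ∈ X) (q : G) (hq : q⁻¹ * ω q ∈ X) :
    ∃ c, ω c = c ∧ q⁻¹ * c ∈ X := by
  classical
  haveI : Fact (Nat.Prime 3) := ⟨Nat.prime_three⟩
  let A := {y : G // q⁻¹ * y ∈ X}
  have hmem : ∀ y : A, q⁻¹ * ω y ∈ X := fun y => by
    have := mul_mem hq (hinv _ y.2)
    rwa [show q⁻¹ * ω q * ω (q⁻¹ * y) = q⁻¹ * ω y by rw [map_mul, map_inv]; group] at this
  let f : A → A := fun y => ⟨ω y, hmem y⟩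
  have hf3 : ∀ y : A, f (f (f y)) = y := fun y => Subtype.ext (apply_three h y)
  let σ : Equiv.Perm A := ⟨f, f ∘ f, hf3, hf3⟩
  haveI : Fintype A := Fintype.ofFinite A
  have hcard : Nat.card A = Nat.card X := Nat.card_congr
    { toFun := fun y => ⟨q⁻¹ * y, y.2⟩
      invFun := fun x => ⟨q * x, by rw [inv_mul_cancel_left]; exact x.2⟩
      left_inv := fun y => Subtype.ext (mul_inv_cancel_left q y)
      right_inv := fun x => Subtype.ext (inv_mul_cancel_left q x) }
  obtain ⟨c, hc⟩ := Equiv.Perm.exists_fixed_point_of_prime (p := 3) (n := 1) (σ := σ) (by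
    rw [← Nat.card_eq_fintype_card, hcard]
    haveI : Fact (Nat.Prime 2) := ⟨Nat.prime_two⟩
    obtain ⟨k, hk⟩ := IsPGroup.iff_card.1 hX
    rw [hk]
    intro hd
    have := Nat.prime_three.dvd_of_dvd_pow hd
    omega) (Equiv.ext fun y => hf3 y)
  exact ⟨c, congrArg Subtype.val hc, c.2⟩

end basic

section pgroup

variable {G : Type*} [Group G] [Finite G]

theorem frattini_invariant (α : MulAut G) : ∀ x ∈ frattini G, α x ∈ frattini G :=
  fun _ hx => FusionMetacyclic.apply_mem_frattini α hx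

/-- A metacyclic subgroup with two cosets bounds the Frattini index by eight. -/
theorem index_frattini_le_eight (hG : IsPGroup 2 G) (H : Subgroup G) (hH : Cfsg.IsMetacyclic H)
    (h2 : ∀ a b, a ∉ H → b ∉ H → a * b ∈ H) : (frattini G).index ≤ 8 := by
  classical
  haveI : Fact (Nat.Prime 2) := ⟨Nat.prime_two⟩
  have hle : frattini H ≤ (frattini G).subgroupOf H := by
    refine Solvable.frattini_le_of_elementary (p := 2) ?_ fun x =>
      Solvable.pow_mem_frattini hG (x : G)
    rw [commutator_def, Subgroup.commutator_le]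
    exact fun a _ b _ => Solvable.commutator_le_frattini hG
      (Subgroup.commutator_mem_commutator (Subgroup.mem_top (a : G)) (Subgroup.mem_top (b : G)))
  have hidx : (frattini G).relIndex H ≤ 4 :=
    (Nat.le_of_dvd (Nat.pos_of_ne_zero Subgroup.index_ne_zero_of_finite)
      (Subgroup.index_dvd_of_le hle)).trans
      (FusionMetacyclic.index_frattini_le (hG.to_subgroup H) hH)
  have hHi : H.index ≤ 2 := by
    rw [Subgroup.index_eq_card]
    by_contra hc
    obtain ⟨a, b, hab⟩ : ∃ a b : G, a ∉ H ∧ b ∉ H ∧ (a : G ⧸ H) ≠ (b : G ⧸ H) := by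
      haveI : Fintype (G ⧸ H) := Fintype.ofFinite _
      rw [not_le, Nat.card_eq_fintype_card] at hc
      obtain ⟨a, -, ha⟩ := Finset.exists_mem_ne (s := (Finset.univ : Finset (G ⧸ H)))
        (by rw [Finset.card_univ]; omega) ((1 : G) : G ⧸ H)
      have h3 : 1 < ((Finset.univ : Finset (G ⧸ H)).erase ((1 : G) : G ⧸ H)).card := by
        rw [Finset.card_erase_of_mem (Finset.mem_univ _), Finset.card_univ]; omega
      obtain ⟨b, hb, hba⟩ := Finset.exists_mem_ne h3 a
      obtain ⟨a, rfl⟩ := QuotientGroup.mk_surjective a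
      obtain ⟨b, rfl⟩ := QuotientGroup.mk_surjective b
      refine ⟨a, b, fun h => ha ?_, fun h => Finset.ne_of_mem_erase hb ?_, hba.symm⟩
      · exact QuotientGroup.eq.2 (by simpa using inv_mem h)
      · exact QuotientGroup.eq.2 (by simpa using inv_mem h)
    exact hab.2.2 (QuotientGroup.eq.2 (h2 _ _ (fun h => hab.1 (inv_mem_iff.1 h)) hab.2.1))
  have h1 := Subgroup.relIndex_mul_index (inf_le_right : frattini G ⊓ H ≤ H)
  rw [Subgroup.inf_relIndex_right] at h1
  refine (Nat.le_of_dvd (Nat.pos_of_ne_zero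
    (Subgroup.index_ne_zero_of_finite (H := frattini G ⊓ H)))
    (Subgroup.index_dvd_of_le inf_le_left)).trans ?_
  rw [← h1]
  calc (frattini G).relIndex H * H.index ≤ 4 * 2 := Nat.mul_le_mul hidx hHi
    _ = 8 := rfl

theorem sq_eq_one_quot (hG : IsPGroup 2 G) (v : G ⧸ frattini G) : v * v = 1 := by
  haveI : Fact (Nat.Prime 2) := ⟨Nat.prime_two⟩
  obtain ⟨g, rfl⟩ := QuotientGroup.mk_surjective v
  rw [← QuotientGroup.mk_mul, ← sq]
  exact (QuotientGroup.eq_one_iff _).2 (Solvable.pow_mem_frattini hG g)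

theorem comm_quot (hG : IsPGroup 2 G) (v w : G ⧸ frattini G) : v * w = w * v := by
  have hinv : ∀ u : G ⧸ frattini G, u⁻¹ = u := fun u =>
    inv_eq_of_mul_eq_one_right (sq_eq_one_quot hG u)
  calc v * w = (v * w)⁻¹ := (hinv _).symm
    _ = w * v := by rw [mul_inv_rev, hinv, hinv]

/-- An automorphism of odd order inverted by another one has order dividing three. -/
theorem pow_three_eq_one (hG : IsPGroup 2 G) (hidx : (frattini G).index ≤ 8) {ω σ : MulAut G}
    (hodd : Odd (orderOf ω)) (hinv : σ * ω * σ⁻¹ = ω⁻¹)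
    (hσ2 : ∀ x, σ (σ x) * x⁻¹ ∈ frattini G) : ω ^ 3 = 1 := by
  classical
  haveI : Fact (Nat.Prime 2) := ⟨Nat.prime_two⟩
  set V := G ⧸ frattini G with hV
  letI : CommGroup V := { (inferInstance : Group V) with mul_comm := comm_quot hG }
  set w := qAut (frattini G) ω (frattini_invariant ω) with hw
  set s := qAut (frattini G) σ (frattini_invariant σ) with hs
  have hwodd : Odd (orderOf w) :=
    Odd.of_dvd_nat hodd (orderOf_dvd_of_pow_eq_one (qAut_pow_eq_one (pow_orderOf_eq_one ω)))
  have hsw : ∀ v : V, s (w v) = w⁻¹ (s v) := by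
    intro v
    obtain ⟨g, rfl⟩ := QuotientGroup.mk_surjective v
    apply w.injective
    rw [MulAut.apply_inv_self, hw, hs, qAut_mk, qAut_mk, qAut_mk, qAut_mk, inverts_apply hinv,
      MulAut.apply_inv_self]
  have hcard : Nat.card V ≤ 8 := by rwa [hV, ← Subgroup.index_eq_card]
  -- a fixed element when `V` has order eight
  have hfix : Nat.card V = 8 → ∃ v : V, v ≠ 1 ∧ w v = v := by
    intro h8
    let D : V →* V :=
      { toFun := fun v => v * s v
        map_one' := by simp
        map_mul' := fun a b => by rw [map_mul, mul_mul_mul_comm] }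
    have hker : ∀ v, v ∈ D.ker ↔ s v = v := fun v => by
      rw [MonoidHom.mem_ker]
      show v * s v = 1 ↔ _
      rw [mul_eq_one_iff_eq_inv, inv_eq_of_mul_eq_one_right (sq_eq_one_quot hG _)]
      exact eq_comm
    have hss : ∀ v, v ∈ D.ker → w v ∈ D.ker → w v = v := by
      intro v hv hwv
      rw [hker] at hv hwv
      rw [hsw, hv] at hwv
      refine eq_self_of_apply_apply hwodd ?_
      conv_lhs => rw [← hwv, MulAut.apply_inv_self]
    have h4 : 4 ≤ Nat.card D.ker := by
      have h1 := Subgroup.card_eq_card_quotient_mul_card_subgroup D.ker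
      rw [h8, Nat.card_congr (QuotientGroup.quotientKerEquivRange D).toEquiv] at h1
      have hs2 : ∀ v, s (s v) = v := fun v => by
        obtain ⟨g, rfl⟩ := QuotientGroup.mk_surjective v
        rw [hs, qAut_mk, qAut_mk, ← mul_inv_eq_one, ← QuotientGroup.mk_inv, ← QuotientGroup.mk_mul,
          QuotientGroup.eq_one_iff]
        exact hσ2 g
      have hle : D.range ≤ D.ker := by
        rintro _ ⟨v, rfl⟩
        rw [hker]
        show s (v * s v) = v * s v
        rw [map_mul, hs2, mul_comm]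
      have h2 := Subgroup.card_le_of_le hle
      by_contra hlt
      have h3 : Nat.card D.range * Nat.card D.ker ≤ 3 * 3 :=
        Nat.mul_le_mul (by omega) (by omega)
      have hd : Nat.card D.ker ∣ 8 := ⟨Nat.card D.range, by rw [h1, mul_comm]⟩
      have hle2 : Nat.card D.ker ≤ 2 := by
        by_contra h5
        have h6 : Nat.card D.ker = 3 := by omega
        rw [h6] at hd
        omega
      have h4' : Nat.card D.range * Nat.card D.ker ≤ 2 * 2 :=
        Nat.mul_le_mul (by omega) hle2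
      omega
    -- two subgroups of order four meet
    have h4' : Nat.card (D.ker.comap w.toMonoidHom) = Nat.card D.ker :=
      Nat.card_congr (Equiv.subtypeEquiv w.toEquiv fun v => Iff.rfl)
    by_contra hne
    push Not at hne
    let f : D.ker × (D.ker.comap w.toMonoidHom) → V := fun p => p.1 * p.2
    have hf : Function.Injective f := by
      rintro ⟨a, b⟩ ⟨a', b'⟩ hab
      change (a : V) * b = a' * b' at hab
      have hm : (a' : V)⁻¹ * a = b' * (b : V)⁻¹ := by
        rw [eq_mul_inv_iff_mul_eq, mul_assoc, hab, inv_mul_cancel_left]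
      have hk := mul_mem (inv_mem a'.2) a.2
      have hk' : (a' : V)⁻¹ * a ∈ D.ker.comap w.toMonoidHom := hm ▸ mul_mem b'.2 (inv_mem b.2)
      have h1 : (a' : V)⁻¹ * a = 1 := by
        by_contra h1
        exact hne _ h1 (hss _ hk hk')
      exact Prod.ext (Subtype.ext (inv_mul_eq_one.1 h1).symm)
        (Subtype.ext (mul_inv_eq_one.1 (hm ▸ h1)).symm)
    have h5 := Nat.card_le_card_of_injective f hf
    rw [Nat.card_prod, h4', h8] at h5
    have := Nat.mul_le_mul h4 h4
    omega
  -- orbits on small groups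
  have hsmall : ∀ (W : Type _) [Group W] [Finite W], Nat.card W ≤ 4 → ∀ a : MulAut W,
      Odd (orderOf a) → ∀ q, (a ^ 3) q = q := by
    intro W _ _ hW a ha q
    have h2 : ∀ b : W, a (a b) = b → a b = b := fun b => eq_self_of_apply_apply ha
    rcases eq_or_ne q 1 with rfl | hq
    · rw [map_one]
    rw [pow_succ, pow_succ, pow_one, MulAut.mul_apply, MulAut.mul_apply]
    by_contra h3
    have d01 : a q ≠ q := fun e => h3 (by rw [e, e, e])
    have d02 : a (a q) ≠ q := fun e => d01 (h2 q e)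
    have hn1 : ∀ b, b ≠ 1 → a b ≠ 1 := fun b hb e => hb (a.map_eq_one_iff.1 e)
    let g : Fin 5 → W := ![1, q, a q, a (a q), a (a (a q))]
    have hg : Function.Injective g := by
      have i1 := hn1 _ hq
      have i2 := hn1 _ i1
      have i3 := hn1 _ i2
      have d12 : a (a q) ≠ a q := fun e => d01 (a.injective e)
      have d13 : a (a (a q)) ≠ a q := fun e => d02 (a.injective e)
      have d23 : a (a (a q)) ≠ a (a q) := fun e => d12 (a.injective e)
      intro i j hij
      fin_cases i <;> fin_cases j <;>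
        first
          | rfl
          | simp [g, hq, hq.symm, i1, i1.symm, i2, i2.symm, i3, i3.symm, d01, d01.symm, d02,
              d02.symm, h3, Ne.symm h3, d12, d12.symm, d13, d13.symm, d23, d23.symm] at hij
    have := Nat.card_le_card_of_injective g hg
    simp at this
    omega
  rcases le_or_gt (Nat.card V) 4 with h4 | h4
  · refine FusionMetacyclic.eq_one_of_trivial_frattini hG
      (Odd.of_dvd_nat hodd (orderOf_pow_dvd 3)) fun x => ?_
    have h := hsmall V h4 w hwodd (x : V)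
    rw [pow_succ, pow_succ, pow_one, MulAut.mul_apply, MulAut.mul_apply, hw, qAut_mk, qAut_mk,
      qAut_mk] at h
    rw [← QuotientGroup.eq_one_iff, QuotientGroup.mk_mul, QuotientGroup.mk_inv, mul_inv_eq_one, ← h,
      pow_succ, pow_succ, pow_one, MulAut.mul_apply, MulAut.mul_apply]
  · have h8 : Nat.card V = 8 := by
      obtain ⟨k, hk⟩ := IsPGroup.iff_card.1 (hG.to_quotient (frattini G) : IsPGroup 2 V)
      rw [hk] at hcard h4 ⊢
      have : k ≤ 3 := (Nat.pow_le_pow_iff_right one_lt_two).1 hcard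
      interval_cases k <;> simp at h4 ⊢
    obtain ⟨v₀, hv₀, hwv⟩ := hfix h8
    let N := Subgroup.zpowers v₀
    have hNinv : ∀ q ∈ N, w q ∈ N := by
      rintro _ ⟨k, rfl⟩
      exact ⟨k, by rw [map_zpow, hwv]⟩
    have hNfix : ∀ q ∈ N, w q = q := by
      rintro _ ⟨k, rfl⟩
      rw [map_zpow, hwv]
    have hN : Nat.card N = 2 := by
      rw [Nat.card_zpowers]
      exact orderOf_eq_prime (by rw [sq]; exact sq_eq_one_quot hG _) hv₀
    have hVN : Nat.card (V ⧸ N) ≤ 4 := by
      have h1 := Subgroup.card_eq_card_quotient_mul_card_subgroup N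
      rw [hN, h8] at h1
      omega
    have hwN : ∀ q : V, (w ^ 3) q * q⁻¹ ∈ N := fun q => by
      have h := hsmall (V ⧸ N) hVN (qAut N w hNinv)
        (Odd.of_dvd_nat hwodd (orderOf_dvd_of_pow_eq_one (qAut_pow_eq_one (pow_orderOf_eq_one w))))
        (q : V ⧸ N)
      rw [pow_succ, pow_succ, pow_one, MulAut.mul_apply, MulAut.mul_apply, qAut_mk, qAut_mk,
        qAut_mk] at h
      rw [← QuotientGroup.eq_one_iff, QuotientGroup.mk_mul, QuotientGroup.mk_inv, mul_inv_eq_one,
        pow_succ, pow_succ, pow_one, MulAut.mul_apply, MulAut.mul_apply, h]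
    have hwNfix : ∀ q ∈ N, (w ^ 3) q = q := fun q hq => by
      rw [pow_succ, pow_succ, pow_one, MulAut.mul_apply, MulAut.mul_apply, hNfix q hq, hNfix q hq,
        hNfix q hq]
    refine FusionMetacyclic.eq_one_of_sq_trivial_frattini hG
      (Odd.of_dvd_nat hodd (orderOf_pow_dvd 3)) fun x => ?_
    have hpw : ∀ (g : G), (w ^ 3) (g : V) = (((ω ^ 3) g : G) : V) := fun g => by
      rw [pow_succ, pow_succ, pow_one, MulAut.mul_apply, MulAut.mul_apply, pow_succ, pow_succ,
        pow_one, MulAut.mul_apply, MulAut.mul_apply, hw, qAut_mk, qAut_mk, qAut_mk]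
    rw [← QuotientGroup.eq_one_iff, QuotientGroup.mk_mul, QuotientGroup.mk_inv, sq,
      MulAut.mul_apply, ← hpw, ← hpw]
    set d := (w ^ 3) (x : V) * (x : V)⁻¹ with hd
    have e : (w ^ 3) (x : V) = d * x := by rw [hd, inv_mul_cancel_right]
    rw [e, map_mul, hwNfix d (hwN _), e, ← mul_assoc, mul_assoc, mul_inv_cancel, mul_one]
    exact sq_eq_one_quot hG d

end pgroup

/-! ### The subgroup generated by the `x⁻¹ ω(x)` -/

section com

variable {G : Type*} [Group G]

/-- `[G, ω]`. -/
def comSub (ω : MulAut G) : Subgroup G := Subgroup.closure (Set.range fun g => g⁻¹ * ω g)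

theorem mem_comSub (ω : MulAut G) (g : G) : g⁻¹ * ω g ∈ comSub ω :=
  Subgroup.subset_closure ⟨g, rfl⟩

theorem comSub_normal (ω : MulAut G) : (comSub ω).Normal := by
  have key : ∀ p, ∀ x ∈ comSub ω, p * x * p⁻¹ ∈ comSub ω := by
    intro p x hx
    induction hx using Subgroup.closure_induction with
    | mem s hs =>
      obtain ⟨q, rfl⟩ := hs
      have h := mul_mem (mem_comSub ω (q * p⁻¹)) (inv_mem (mem_comSub ω p⁻¹))
      rwa [map_mul, map_inv, show (q * p⁻¹)⁻¹ * (ω q * (ω p)⁻¹) * ((p⁻¹)⁻¹ * (ω p)⁻¹)⁻¹ =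
        p * (q⁻¹ * ω q) * p⁻¹ by group] at h
    | one => simp
    | mul a b _ _ ha hb =>
      rw [show p * (a * b) * p⁻¹ = p * a * p⁻¹ * (p * b * p⁻¹) by group]
      exact mul_mem ha hb
    | inv a _ ha =>
      rw [show p * a⁻¹ * p⁻¹ = (p * a * p⁻¹)⁻¹ by group]
      exact inv_mem ha
  exact ⟨fun x hx p => key p x hx⟩

theorem comSub_invariant (ω : MulAut G) : ∀ x ∈ comSub ω, ω x ∈ comSub ω := by
  intro x hx
  induction hx using Subgroup.closure_induction with
  | mem s hs =>
    obtain ⟨q, rfl⟩ := hs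
    rw [map_mul, map_inv]
    exact mem_comSub ω (ω q)
  | one => simp
  | mul a b _ _ ha hb => rw [map_mul]; exact mul_mem ha hb
  | inv a _ ha => rw [map_inv]; exact inv_mem ha

theorem comSub_map {ω σ : MulAut G} (hinv : σ * ω * σ⁻¹ = ω⁻¹) : ∀ x ∈ comSub ω, σ x ∈ comSub ω := by
  intro x hx
  induction hx using Subgroup.closure_induction with
  | mem s hs =>
    obtain ⟨q, rfl⟩ := hs
    rw [map_mul, map_inv, inverts_apply hinv]
    have h := inv_mem (mem_comSub ω (ω⁻¹ (σ q)))
    rw [MulAut.apply_inv_self, mul_inv_rev, inv_inv] at h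
    exact h
  | one => simp
  | mul a b _ _ ha hb => rw [map_mul]; exact mul_mem ha hb
  | inv a _ ha => rw [map_inv]; exact inv_mem ha

variable [Finite G]

theorem exists_fixed_mul (hG : IsPGroup 2 G) {ω : MulAut G} (h : ω ^ 3 = 1) (q : G) :
    ∃ c, ω c = c ∧ c⁻¹ * q ∈ comSub ω := by
  obtain ⟨c, hc, hm⟩ := exists_fixed_in_coset h (comSub ω) (hG.to_subgroup _) (comSub_invariant ω) q
    (mem_comSub ω q)
  exact ⟨c, hc, by simpa using inv_mem hm⟩

theorem comSub_resAut (hG : IsPGroup 2 G) {ω : MulAut G} (h : ω ^ 3 = 1) :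
    comSub (resAut (comSub ω) ω (comSub_invariant ω)) = ⊤ := by
  have hN := comSub_normal ω
  set X := comSub ω
  set r := resAut X ω (comSub_invariant ω) with hr
  have hle : X ≤ (comSub r).map X.subtype := by
    refine (Subgroup.closure_le _).2 ?_
    rintro _ ⟨q, rfl⟩
    obtain ⟨c, hc, hm⟩ := exists_fixed_mul hG h q
    have hx : q * c⁻¹ ∈ X := by
      have := hN.conj_mem _ hm c
      rwa [mul_inv_cancel_left] at this
    refine ⟨⟨c⁻¹ * q, hm⟩⁻¹ * r ⟨c⁻¹ * q, hm⟩, mem_comSub r _, ?_⟩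
    show ((⟨c⁻¹ * q, hm⟩⁻¹ * r ⟨c⁻¹ * q, hm⟩ : X) : G) = q⁻¹ * ω q
    rw [Subgroup.coe_mul, Subgroup.coe_inv, hr, coe_resAut, map_mul, map_inv, hc]
    group
  refine eq_top_iff.2 fun x _ => ?_
  obtain ⟨y, hy, hyx⟩ := hle x.2
  rwa [show x = y from Subtype.ext hyx.symm]

end com

section fpf

variable {G : Type*} [Group G] [Finite G]

theorem triple_mem_frattini (hG : IsPGroup 2 G) {ω : MulAut G} (h3 : ω ^ 3 = 1)
    (htop : comSub ω = ⊤) (x : G) : x * ω x * ω (ω x) ∈ frattini G := by
  letI : CommGroup (G ⧸ frattini G) :=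
    { (inferInstance : Group (G ⧸ frattini G)) with mul_comm := comm_quot hG }
  let f : G →* G ⧸ frattini G :=
    { toFun := fun x => (x : G ⧸ frattini G) * (ω x : G) * (ω (ω x) : G)
      map_one' := by simp
      map_mul' := fun a b => by
        simp only [map_mul, QuotientGroup.mk_mul]
        ac_rfl }
  have hle : comSub ω ≤ f.ker := by
    refine (Subgroup.closure_le _).2 ?_
    rintro _ ⟨q, rfl⟩
    rw [SetLike.mem_coe, MonoidHom.mem_ker, map_mul, map_inv, inv_mul_eq_one]
    show (q : G ⧸ frattini G) * (ω q : G) * (ω (ω q) : G) =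
      (ω q : G ⧸ frattini G) * (ω (ω q) : G) * (ω (ω (ω q)) : G)
    rw [apply_three h3]
    ac_rfl
  rw [← QuotientGroup.eq_one_iff, QuotientGroup.mk_mul, QuotientGroup.mk_mul]
  exact MonoidHom.mem_ker.1 (hle (htop ▸ Subgroup.mem_top x))

theorem mem_frattini_of_fixed (hG : IsPGroup 2 G) {ω : MulAut G} (h3 : ω ^ 3 = 1)
    (htop : comSub ω = ⊤) {x : G} (hx : x⁻¹ * ω x ∈ frattini G) : x ∈ frattini G := by
  have e1 : ((ω x : G) : G ⧸ frattini G) = x := (QuotientGroup.eq.2 hx).symm
  have e2 : ((ω (ω x) : G) : G ⧸ frattini G) = x := by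
    have h := frattini_invariant ω _ hx
    rw [map_mul, map_inv] at h
    rw [← e1]
    exact (QuotientGroup.eq.2 h).symm
  have h := triple_mem_frattini hG h3 htop x
  rw [← QuotientGroup.eq_one_iff, QuotientGroup.mk_mul, QuotientGroup.mk_mul, e1, e2,
    sq_eq_one_quot hG, one_mul] at h
  exact (QuotientGroup.eq_one_iff x).1 h

theorem index_frattini_eq_four (hG : IsPGroup 2 G) {ω : MulAut G} (h3 : ω ^ 3 = 1)
    (htop : comSub ω = ⊤) (hne : ω ≠ 1) (hidx : (frattini G).index ≤ 8) :
    (frattini G).index = 4 := by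
  haveI : Fact (Nat.Prime 2) := ⟨Nat.prime_two⟩
  obtain ⟨k, hk⟩ := IsPGroup.iff_card.1 (hG.to_quotient (frattini G))
  rw [Subgroup.index_eq_card] at hidx ⊢
  rw [hk] at hidx
  have hnone : Nat.card (G ⧸ frattini G) % 3 = 1 := by
    by_contra hc
    obtain ⟨v, hv, hfix⟩ :=
      exists_fixed_ne_one (qAut_pow_eq_one (h := frattini_invariant ω) h3) hc
    obtain ⟨x, rfl⟩ := QuotientGroup.mk_surjective v
    rw [qAut_mk] at hfix
    exact hv ((QuotientGroup.eq_one_iff x).2
      (mem_frattini_of_fixed hG h3 htop (QuotientGroup.eq.1 hfix.symm)))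
  have : k ≤ 3 := (Nat.pow_le_pow_iff_right one_lt_two).1 (by simpa using hidx)
  rw [hk] at hnone ⊢
  interval_cases k
  · exfalso
    haveI : Subsingleton (G ⧸ frattini G) := (Nat.card_eq_one_iff_unique.1 hk).1
    have htop' : frattini G = ⊤ := eq_top_iff.2 fun x _ =>
      (QuotientGroup.eq_one_iff x).1 (Subsingleton.elim _ _)
    refine hne (MulEquiv.ext fun x => ?_)
    haveI : Subsingleton G := by
      have := closure_eq_top_of_frattini (T := G) (S := ∅) (by rw [htop', sup_top_eq])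
      rw [Subgroup.closure_empty] at this
      exact Subgroup.subsingleton_iff.1 (subsingleton_iff_bot_eq_top.1 this)
    exact Subsingleton.elim _ _
  all_goals omega

theorem mem_of_frattini_invariant (hG : IsPGroup 2 G) {ω : MulAut G} (h3 : ω ^ 3 = 1)
    (hne : ω ≠ 1) (hidx : (frattini G).index = 4) {L : Subgroup G} (hL : frattini G ≤ L)
    (hinv : ∀ x ∈ L, ω x ∈ L) {x₀ : G} (hx₀ : x₀ ∈ L) (hx₀' : x₀ ∉ frattini G) (x : G) : x ∈ L := by
  rcases FusionMetacyclic.eq_frattini_or_top hG hidx.le (odd_orderOf_of_cube h3) hne hL hinv with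
    h | h
  · exact absurd (h ▸ hx₀) hx₀'
  · exact h ▸ Subgroup.mem_top x

/-- A `2`-automorphism commuting with `ω` is trivial on the Frattini quotient. -/
theorem trivial_quot_of_commute (hG : IsPGroup 2 G) {ω γ : MulAut G} (h3 : ω ^ 3 = 1) (hne : ω ≠ 1)
    (hidx : (frattini G).index = 4) (hγω : γ * ω = ω * γ) {k : ℕ} (hγ : γ ^ 2 ^ k = 1) (x : G) :
    γ x * x⁻¹ ∈ frattini G := by
  haveI : Fact (Nat.Prime 2) := ⟨Nat.prime_two⟩
  let L : Subgroup G :=
    { carrier := {y | γ y * y⁻¹ ∈ frattini G}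
      one_mem' := by simp
      mul_mem' := fun {a b} ha hb => by
        have h := mul_mem ((inferInstance : (frattini G).Normal).conj_mem _ hb (γ a)) ha
        show γ (a * b) * (a * b)⁻¹ ∈ frattini G
        rwa [show γ a * (γ b * b⁻¹) * (γ a)⁻¹ * (γ a * a⁻¹) = γ (a * b) * (a * b)⁻¹ by
          rw [map_mul]; group] at h
      inv_mem' := fun {a} ha => by
        have h := (inferInstance : (frattini G).Normal).conj_mem _ (inv_mem ha) a⁻¹
        show γ a⁻¹ * a⁻¹⁻¹ ∈ frattini G
        rwa [show a⁻¹ * (γ a * a⁻¹)⁻¹ * a⁻¹⁻¹ = γ a⁻¹ * a⁻¹⁻¹ by rw [map_inv]; group] at h }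
  have hL : frattini G ≤ L := fun y hy =>
    mul_mem (frattini_invariant γ _ hy) (inv_mem hy)
  have hinv : ∀ y ∈ L, ω y ∈ L := fun y (hy : γ y * y⁻¹ ∈ frattini G) => by
    show γ (ω y) * (ω y)⁻¹ ∈ frattini G
    have h := frattini_invariant ω _ hy
    rwa [map_mul, map_inv, ← MulAut.mul_apply, ← hγω, MulAut.mul_apply] at h
  have hγv : qAut (frattini G) γ (frattini_invariant γ) ^ 2 ^ k = 1 := qAut_pow_eq_one hγ
  set g := qAut (frattini G) γ (frattini_invariant γ) with hg
  have hp : IsPGroup 2 (Subgroup.zpowers g) := by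
    rintro ⟨_, j, rfl⟩
    refine ⟨k, Subtype.ext ?_⟩
    show (g ^ j) ^ 2 ^ k = 1
    rw [← zpow_natCast, ← zpow_mul, mul_comm, zpow_mul, zpow_natCast, hγv, one_zpow]
  obtain ⟨v, hv, hv1⟩ := hp.exists_fixed_point_of_prime_dvd_card_of_fixed_point (G ⧸ frattini G)
    (by rw [← Subgroup.index_eq_card, hidx]; norm_num) (a := 1)
    (fun h => show (h : MulAut (G ⧸ frattini G)) 1 = 1 from map_one _)
  obtain ⟨y, rfl⟩ := QuotientGroup.mk_surjective v
  have hy : γ y * y⁻¹ ∈ frattini G := by
    have h1 : g (y : G ⧸ frattini G) = y := hv ⟨g, Subgroup.mem_zpowers g⟩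
    rw [← QuotientGroup.eq_one_iff, QuotientGroup.mk_mul, QuotientGroup.mk_inv, ← qAut_mk _ γ
      (frattini_invariant γ), ← hg, h1, mul_inv_cancel]
  exact mem_of_frattini_invariant hG h3 hne hidx hL hinv (x₀ := y) hy
    (fun h => hv1 ((QuotientGroup.eq_one_iff y).2 h).symm) x

/-- It is trivial if the Frattini subgroup is central and fixed by `ω`. -/
theorem eq_one_of_commute (hG : IsPGroup 2 G) {ω γ : MulAut G} (h3 : ω ^ 3 = 1) (hne : ω ≠ 1)
    (htop : comSub ω = ⊤) (hidx : (frattini G).index = 4)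
    (hc : ∀ z ∈ frattini G, ∀ g : G, z * g = g * z) (hfix : ∀ z ∈ frattini G, ω z = z)
    (hγω : γ * ω = ω * γ) {k : ℕ} (hγ : γ ^ 2 ^ k = 1) (x : G) : γ x = x := by
  have hd := trivial_quot_of_commute hG h3 hne hidx hγω hγ
  let L : Subgroup G := MonoidHom.eqLocus γ.toMonoidHom (MonoidHom.id G)
  have hle : comSub ω ≤ L := by
    refine (Subgroup.closure_le _).2 ?_
    rintro _ ⟨q, rfl⟩
    show γ (q⁻¹ * ω q) = q⁻¹ * ω q
    obtain ⟨z, hz⟩ : ∃ z, z = γ q * q⁻¹ := ⟨_, rfl⟩
    have hzm : z ∈ frattini G := hz ▸ hd q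
    have e : γ q = z * q := by rw [hz, inv_mul_cancel_right]
    have e2 : γ (ω q) = z * ω q := by
      rw [← MulAut.mul_apply, hγω, MulAut.mul_apply, e, map_mul, hfix z hzm]
    rw [map_mul, map_inv, e, e2, mul_inv_rev, mul_assoc, inv_mul_cancel_left]
  exact hle (htop ▸ Subgroup.mem_top x)

end fpf

end CfsgLib.Bicyclic
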