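import Cfsg.Agent.Bicyclic.Metacyclic
import Cfsg.Agent.Factorizations.Abelian

/-!
# Products of two cyclic `2`-groups that are not metacyclic

Such a group has factors `x`, `y` with `(x y)² ∈ (T')² [T', T]`; the two maximal subgroups through
`x` and through `y` are metacyclic.
-/

set_option autoImplicit false
set_option linter.style.haveILetI false
set_option linter.unusedSectionVars false
set_option linter.unnecessarySeqFocus false

namespace CfsgLib.Bicyclic

open scoped commutatorElement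

variable {T : Type*} [Group T]

/-- `T = ⟨x⟩⟨y⟩` is a non-metacyclic `2`-group. -/
structure Pair (x y : T) : Prop where
  fac : ∀ g : T, ∃ i j : ℤ, g = x ^ i * y ^ j
  p2 : IsPGroup 2 T
  nm : ¬ Cfsg.IsMetacyclic T

theorem Pair.symm {x y : T} (h : Pair x y) : Pair y x :=
  ⟨fun g => by
    obtain ⟨i, j, e⟩ := h.fac g⁻¹
    exact ⟨-j, -i, by rw [← inv_inv g, e, mul_inv_rev, zpow_neg, zpow_neg]⟩, h.p2, h.nm⟩

theorem Pair.gen {x y : T} (h : Pair x y) : Subgroup.closure {x, y} = ⊤ := by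
  refine eq_top_iff.2 fun g _ => ?_
  obtain ⟨i, j, rfl⟩ := h.fac g
  exact mul_mem (zpow_mem (Subgroup.subset_closure (by simp)) i)
    (zpow_mem (Subgroup.subset_closure (by simp)) j)

theorem mem_zpowers_zpow_of_odd [Finite T] (hT : IsPGroup 2 T) (x : T) {p : ℤ} (hp : Odd p) :
    x ∈ Subgroup.zpowers (x ^ p) := by
  obtain ⟨k, hk⟩ := IsPGroup.iff_orderOf.1 hT x
  have hco : IsCoprime p ((2 : ℤ) ^ k) :=
    IsCoprime.pow_right (Int.isCoprime_iff_gcd_eq_one.2 (by
      obtain ⟨m, rfl⟩ := hp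
      simp [Int.gcd_comm]))
  obtain ⟨u, v, huv⟩ := hco
  refine ⟨u, ?_⟩
  show (x ^ p) ^ u = x
  have h1 : x ^ (((2 : ℤ) ^ k) * v) = 1 := by
    rw [zpow_mul, show ((2 : ℤ) ^ k) = ((2 ^ k : ℕ) : ℤ) by push_cast; rfl, zpow_natCast, ← hk,
      pow_orderOf_eq_one, one_zpow]
  conv_rhs => rw [← zpow_one x, ← huv, zpow_add, mul_comm u p, mul_comm v, h1, mul_one]
  rw [← zpow_mul]

theorem exists_two_pow_mul_odd {i : ℤ} (hi : i ≠ 0) :
    ∃ (α : ℕ) (p : ℤ), Odd p ∧ i = 2 ^ α * p := by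
  obtain ⟨α, p, hp, he⟩ := Nat.exists_eq_two_pow_mul_odd (Int.natAbs_pos.2 hi).ne'
  rcases Int.natAbs_eq i with h | h <;> rw [he] at h
  · exact ⟨α, p, Int.natCast_inj.2 rfl ▸ (Int.odd_coe_nat p).2 hp, by rw [h]; push_cast; ring⟩
  · exact ⟨α, -(p : ℤ), ((Int.odd_coe_nat p).2 hp).neg, by rw [h]; push_cast; ring⟩

/-- Class two with a derived group of order at most two. -/
theorem exists_sq_eq_one [Finite T] {x y : T} (h : Pair x y)
    (hc : ∀ g, Commute ⁅x, y⁆ g) (hc2 : ⁅x, y⁆ * ⁅x, y⁆ = 1) :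
    (∃ p q : ℤ, Odd p ∧ Odd q ∧ (x ^ p * y ^ q) ^ 2 = 1) ∧
      ⁅x, y⁆ ∉ Subgroup.zpowers x ∧ ⁅x, y⁆ ∉ Subgroup.zpowers y ∧
      x ^ 2 ∉ Subgroup.zpowers ⁅x, y⁆ ∧ y ^ 2 ∉ Subgroup.zpowers ⁅x, y⁆ := by
  set c := ⁅x, y⁆ with hcdef
  have hxy : x * y = c * (y * x) := by rw [hcdef, commutatorElement_def]; group
  have hcinv : c⁻¹ = c := inv_eq_of_mul_eq_one_right hc2
  -- normal cyclic subgroups containing `c`
  have hnc : ∀ {u v : T}, Subgroup.closure {u, v} = ⊤ → c ∉ Subgroup.zpowers u := by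
    intro u v hgen hu
    refine h.nm (isMetacyclic_of_normal_zpowers hgen ?_)
    have hder : ∀ g : T, ⁅g, u⁆ ∈ Subgroup.zpowers u := by
      intro g
      haveI : (Subgroup.zpowers c).Normal :=
        normal_zpowers_of_conj (Subgroup.closure_univ) fun s _ => by
          rw [(hc s).symm.eq, mul_inv_cancel_right]; exact Subgroup.mem_zpowers c
      have hle : commutator T ≤ Subgroup.zpowers c := commutator_le_of_gen h.gen (by
        rintro _ (rfl | rfl) _ (rfl | rfl)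
        · simp
        · exact Subgroup.mem_zpowers _
        · rw [← commutatorElement_inv]; exact inv_mem (Subgroup.mem_zpowers _)
        · simp)
      exact Subgroup.zpowers_le.2 hu (hle (Subgroup.commutator_mem_commutator
        (Subgroup.mem_top g) (Subgroup.mem_top u)))
    refine normal_zpowers_of_conj hgen fun g _ => ?_
    have := mul_mem (hder g) (Subgroup.mem_zpowers u)
    rwa [commutatorElement_def, inv_mul_cancel_right] at this
  have hcx : c ∉ Subgroup.zpowers x := hnc h.gen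
  have hcy : c ∉ Subgroup.zpowers y := hnc h.symm.gen
  have hc1 : c ≠ 1 := fun e => hcx (e ▸ one_mem _)
  have hx2 : ∀ g, Commute (x ^ 2) g := by
    have hy : Commute (x ^ 2) y := by
      show x ^ 2 * y = y * x ^ 2
      calc x ^ 2 * y = x * (x * y) := by rw [sq, mul_assoc]
        _ = x * (c * (y * x)) := by rw [hxy]
        _ = c * (x * y) * x := by simp only [← mul_assoc, (hc x).eq]
        _ = c * c * (y * (x * x)) := by rw [hxy]; simp only [mul_assoc]
        _ = y * x ^ 2 := by rw [hc2, one_mul, sq]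
    intro g
    obtain ⟨i, j, rfl⟩ := h.fac g
    exact (((Commute.refl x).pow_left 2).zpow_right i).mul_right (hy.zpow_right j)
  have hy2 : ∀ g, Commute (y ^ 2) g := by
    have hx : Commute (y ^ 2) x := by
      show y ^ 2 * x = x * y ^ 2
      have hyx : y * x = c * (x * y) := by rw [hxy, ← mul_assoc, hc2, one_mul]
      calc y ^ 2 * x = y * (y * x) := by rw [sq, mul_assoc]
        _ = y * (c * (x * y)) := by rw [hyx]
        _ = c * (y * x) * y := by simp only [← mul_assoc, (hc y).eq]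
        _ = c * c * (x * (y * y)) := by rw [hyx]; simp only [mul_assoc]
        _ = x * y ^ 2 := by rw [hc2, one_mul, sq]
    intro g
    obtain ⟨i, j, rfl⟩ := h.fac g
    exact (hx.zpow_right i).mul_right (((Commute.refl y).pow_left 2).zpow_right j)
  have hcz : ∀ k : ℤ, (Even k → c ^ k = 1) ∧ (Odd k → c ^ k = c) := by
    refine fun k => ⟨?_, ?_⟩
    · rintro ⟨m, rfl⟩
      rw [← two_mul, zpow_mul, zpow_ofNat, sq, hc2, one_zpow]
    · rintro ⟨m, rfl⟩
      rw [zpow_add, zpow_mul, zpow_ofNat, sq, hc2, one_zpow, one_mul, zpow_one]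
  -- `(x^a y^b)^2`
  have hsq : ∀ a b : ℤ, (x ^ a * y ^ b) ^ 2 = x ^ (2 * a) * y ^ (2 * b) * c ^ (a * b) := by
    intro a b
    have h1 : ∀ a : ℤ, y * x ^ a = x ^ a * (y * c ^ a) := by
      intro a
      have e1 : y * x * y⁻¹ = x * c := by
        rw [show y * x = c⁻¹ * (x * y) by rw [hxy, inv_mul_cancel_left], hcinv, ← mul_assoc,
          mul_inv_cancel_right, (hc x).eq]
      have e2 : y * x ^ a * y⁻¹ = x ^ a * c ^ a := by
        rw [← conj_zpow, e1, Commute.mul_zpow (hc x).symm]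
      rw [eq_comm, ← mul_assoc, mul_assoc (x ^ a), ((hc y).symm.zpow_right a).eq, ← mul_assoc, ← e2,
        inv_mul_cancel_right]
    have h2 : y ^ b * x ^ a = x ^ a * y ^ b * c ^ (a * b) := by
      have e : ((x ^ a)⁻¹) * y * ((x ^ a)⁻¹)⁻¹ = y * c ^ a := by
        rw [inv_inv, mul_assoc, h1, inv_mul_cancel_left]
      have e' : ((x ^ a)⁻¹) * y ^ b * ((x ^ a)⁻¹)⁻¹ = y ^ b * c ^ (a * b) := by
        rw [← conj_zpow, e, ((hc y).symm.zpow_right a).mul_zpow, ← zpow_mul]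
      rw [inv_inv] at e'
      calc y ^ b * x ^ a = x ^ a * ((x ^ a)⁻¹ * y ^ b * x ^ a) := by group
        _ = x ^ a * y ^ b * c ^ (a * b) := by rw [e', ← mul_assoc]
    calc (x ^ a * y ^ b) ^ 2 = x ^ a * (y ^ b * x ^ a) * y ^ b := by rw [sq]; simp only [mul_assoc]
      _ = x ^ a * x ^ a * (y ^ b * (c ^ (a * b) * y ^ b)) := by rw [h2]; simp only [mul_assoc]
      _ = x ^ a * x ^ a * (y ^ b * y ^ b) * c ^ (a * b) := by
        rw [((hc (y ^ b)).zpow_left (a * b)).eq]; simp only [mul_assoc]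
      _ = x ^ (2 * a) * y ^ (2 * b) * c ^ (a * b) := by
        rw [← zpow_add, ← zpow_add, two_mul, two_mul]
  have hpow : ∀ (α : ℕ) (a b : ℤ),
      (x ^ a * y ^ b) ^ (2 : ℕ) ^ (α + 2) = x ^ (a * 2 ^ (α + 2)) * y ^ (b * 2 ^ (α + 2)) := by
    intro α a b
    rw [pow_succ' 2 (α + 1), pow_mul, hsq, mul_assoc,
      (Commute.mul_pow (((Commute.mul_right (by
        rw [zpow_mul, zpow_ofNat]; exact ((hx2 _).zpow_left a))
        (by rw [zpow_mul, zpow_ofNat]; exact ((hx2 _).zpow_left a)) :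
          Commute (x ^ (2 * a)) (y ^ (2 * b) * c ^ (a * b))))) _),
      Commute.mul_pow ((hc _).zpow_left _).symm]
    have h3 : (c ^ (a * b)) ^ 2 ^ (α + 1) = 1 := by
      rw [← zpow_natCast, ← zpow_mul]
      exact (hcz _).1 ⟨a * b * (2 ^ α : ℕ), by push_cast; ring⟩
    rw [h3, mul_one, ← zpow_natCast, ← zpow_natCast (y ^ _), ← zpow_mul, ← zpow_mul]
    push_cast
    congr 2 <;> ring
  refine ⟨?_, hcx, hcy, ?_, ?_⟩
  · obtain ⟨i, j, hij⟩ := h.fac c
    have hi0 : i ≠ 0 := fun e => hcy ⟨j, by rw [hij, e, zpow_zero, one_mul]⟩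
    have hj0 : j ≠ 0 := fun e => hcx ⟨i, by rw [hij, e, zpow_zero, mul_one]⟩
    obtain ⟨α, p, hp, rfl⟩ := exists_two_pow_mul_odd hi0
    obtain ⟨β, q, hq, rfl⟩ := exists_two_pow_mul_odd hj0
    have hgenp : ∀ (e : ℤ) {r : ℤ}, Odd r → Subgroup.closure {x ^ r * y ^ e, y} = ⊤ := by
      intro e r hr
      refine eq_top_iff.2 (h.gen ▸ (Subgroup.closure_le _).2 ?_)
      have hy : y ∈ Subgroup.closure {x ^ r * y ^ e, y} := Subgroup.subset_closure (by simp)
      have hxr : x ^ r ∈ Subgroup.closure {x ^ r * y ^ e, y} := by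
        have hu : x ^ r * y ^ e ∈ Subgroup.closure {x ^ r * y ^ e, y} :=
          Subgroup.subset_closure (by simp)
        simpa using mul_mem hu (inv_mem (zpow_mem hy e))
      rintro _ (rfl | rfl)
      · exact Subgroup.zpowers_le.2 hxr (mem_zpowers_zpow_of_odd h.p2 _ hr)
      · exact hy
    have hgenq : ∀ (e : ℤ) {r : ℤ}, Odd r → Subgroup.closure {x ^ e * y ^ r, x} = ⊤ := by
      intro e r hr
      refine eq_top_iff.2 (h.gen ▸ (Subgroup.closure_le _).2 ?_)
      have hx : x ∈ Subgroup.closure {x ^ e * y ^ r, x} := Subgroup.subset_closure (by simp)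
      have hyr : y ^ r ∈ Subgroup.closure {x ^ e * y ^ r, x} := by
        have hu : x ^ e * y ^ r ∈ Subgroup.closure {x ^ e * y ^ r, x} :=
          Subgroup.subset_closure (by simp)
        simpa using mul_mem (inv_mem (zpow_mem hx e)) hu
      rintro _ (rfl | rfl)
      · exact hx
      · exact Subgroup.zpowers_le.2 hyr (mem_zpowers_zpow_of_odd h.p2 _ hr)
    have hodd_i : α ≠ 0 := by
      rintro rfl
      rw [pow_zero, one_mul] at hij
      refine hc1 ?_
      have hxp : Commute (x ^ p) y := by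
        have h1 : x ^ p = c * (y ^ (2 ^ β * q))⁻¹ := by rw [hij, mul_inv_cancel_right]
        rw [h1]
        exact (hc y).mul_left ((Commute.refl y).zpow_left _).inv_left
      obtain ⟨m, hm⟩ := mem_zpowers_zpow_of_odd h.p2 x hp
      rw [hcdef, commutatorElement_eq_one_iff_commute, ← hm]
      exact hxp.zpow_left m
    have hodd_j : β ≠ 0 := by
      rintro rfl
      rw [pow_zero, one_mul] at hij
      refine hc1 ?_
      have hyq : Commute x (y ^ q) := by
        have h1 : y ^ q = (x ^ (2 ^ α * p))⁻¹ * c := by rw [hij, inv_mul_cancel_left]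
        rw [h1]
        exact ((Commute.refl x).zpow_right _).inv_right.mul_right (hc x).symm
      obtain ⟨m, hm⟩ := mem_zpowers_zpow_of_odd h.p2 y hq
      rw [hcdef, commutatorElement_eq_one_iff_commute, ← hm]
      exact hyq.zpow_right m
    obtain ⟨α, rfl⟩ : ∃ α', α = α' + 1 := ⟨α - 1, by omega⟩
    obtain ⟨β, rfl⟩ : ∃ β', β = β' + 1 := ⟨β - 1, by omega⟩
    by_cases h11 : α = 0 ∧ β = 0
    · obtain ⟨rfl, rfl⟩ := h11
      refine ⟨p, q, hp, hq, ?_⟩
      rw [zero_add, pow_one] at hij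
      rw [hsq, (hcz _).2 (hp.mul hq), ← hij, hc2]
    exfalso
    rcases le_total α β with hle | hle
    · obtain ⟨d, rfl⟩ := Nat.exists_eq_add_of_le hle
      refine hnc (hgenp (q * 2 ^ d) hp) ⟨(2 : ℤ) ^ (α + 1), ?_⟩
      show (x ^ p * y ^ (q * 2 ^ d)) ^ ((2 : ℤ) ^ (α + 1)) = c
      rw [show ((2 : ℤ) ^ (α + 1)) = ((2 ^ (α + 1) : ℕ) : ℤ) by push_cast; rfl, zpow_natCast, hij]
      rcases α with _ | α
      · rw [zero_add, pow_one, hsq, (hcz _).1 ⟨p * (q * 2 ^ (d - 1)), ?_⟩, mul_one]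
        · congr 2 <;> ring
        · obtain ⟨d, rfl⟩ : ∃ d', d = d' + 1 := ⟨d - 1, by omega⟩
          rw [Nat.add_sub_cancel]; ring
      · rw [hpow]; congr 2 <;> ring
    · obtain ⟨d, rfl⟩ := Nat.exists_eq_add_of_le hle
      refine hnc (hgenq (p * 2 ^ d) hq) ⟨(2 : ℤ) ^ (β + 1), ?_⟩
      show (x ^ (p * 2 ^ d) * y ^ q) ^ ((2 : ℤ) ^ (β + 1)) = c
      rw [show ((2 : ℤ) ^ (β + 1)) = ((2 ^ (β + 1) : ℕ) : ℤ) by push_cast; rfl, zpow_natCast, hij]
      rcases β with _ | β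
      · rw [zero_add, pow_one, hsq, (hcz _).1 ⟨q * (p * 2 ^ (d - 1)), ?_⟩, mul_one]
        · congr 2 <;> ring
        · obtain ⟨d, rfl⟩ : ∃ d', d = d' + 1 := ⟨d - 1, by omega⟩
          rw [Nat.add_sub_cancel]; ring
      · rw [hpow]; congr 2 <;> ring
  · rintro ⟨k, hk⟩
    change c ^ k = x ^ 2 at hk
    rcases Int.even_or_odd k with hk' | hk'
    · rw [(hcz k).1 hk'] at hk
      obtain ⟨i, j, hij⟩ := h.fac c
      rcases Int.even_or_odd i with ⟨m, rfl⟩ | ⟨m, rfl⟩
      · exact hcy ⟨j, by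
          rw [hij, ← two_mul, zpow_mul, zpow_ofNat, ← hk, one_zpow, one_mul]⟩
      · rw [zpow_add, zpow_mul, zpow_ofNat, ← hk, one_zpow, one_mul, zpow_one] at hij
        refine hc1 (commutatorElement_eq_one_iff_commute.2 ?_)
        have h1 : x = c * (y ^ j)⁻¹ := by rw [hij, mul_inv_cancel_right]
        rw [h1]
        exact (hc y).mul_left ((Commute.refl y).zpow_left _).inv_left
    · rw [(hcz k).2 hk'] at hk
      exact hcx ⟨2, by show x ^ (2 : ℤ) = c; rw [zpow_ofNat, ← hk]⟩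
  · rintro ⟨k, hk⟩
    change c ^ k = y ^ 2 at hk
    rcases Int.even_or_odd k with hk' | hk'
    · rw [(hcz k).1 hk'] at hk
      obtain ⟨i, j, hij⟩ := h.fac c
      rcases Int.even_or_odd j with ⟨m, rfl⟩ | ⟨m, rfl⟩
      · exact hcx ⟨i, by
          rw [hij, ← two_mul, zpow_mul, zpow_ofNat, ← hk, one_zpow, mul_one]⟩
      · rw [zpow_add, zpow_mul, zpow_ofNat, ← hk, one_zpow, one_mul, zpow_one] at hij
        refine hc1 (commutatorElement_eq_one_iff_commute.2 ?_)
        have h1 : y = (x ^ i)⁻¹ * c := by rw [hij, inv_mul_cancel_left]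
        rw [h1]
        exact ((Commute.refl x).zpow_right _).inv_right.mul_right (hc x).symm
    · rw [(hcz k).2 hk'] at hk
      exact hcy ⟨2, by show y ^ (2 : ℤ) = c; rw [zpow_ofNat, ← hk]⟩

/-- The commutator of the generators, modulo `(T')² [T', T]`. -/
theorem Pair.quotient [Finite T] {x y : T} (h : Pair x y) :
    Pair (QuotientGroup.mk' (wGroup T) x) (QuotientGroup.mk' (wGroup T) y) ∧
      (∀ g, Commute ⁅QuotientGroup.mk' (wGroup T) x, QuotientGroup.mk' (wGroup T) y⁆ g) ∧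
      ⁅QuotientGroup.mk' (wGroup T) x, QuotientGroup.mk' (wGroup T) y⁆ *
        ⁅QuotientGroup.mk' (wGroup T) x, QuotientGroup.mk' (wGroup T) y⁆ = 1 := by
  have hc : ⁅x, y⁆ ∈ commutator T :=
    Subgroup.commutator_mem_commutator (Subgroup.mem_top x) (Subgroup.mem_top y)
  refine ⟨⟨fun g => ?_, h.p2.to_quotient _, fun hm => h.nm ?_⟩, fun g => ?_, ?_⟩
  · obtain ⟨g, rfl⟩ := QuotientGroup.mk'_surjective (wGroup T) g
    obtain ⟨i, j, rfl⟩ := h.fac g
    exact ⟨i, j, by rw [map_mul, map_zpow, map_zpow]⟩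
  · exact isMetacyclic_of_quotient _ rfl h.p2 ⟨x, y, h.gen⟩ (wGroup T) le_rfl hm
  · obtain ⟨g, rfl⟩ := QuotientGroup.mk'_surjective (wGroup T) g
    rw [← map_commutatorElement, ← commutatorElement_eq_one_iff_commute, ← map_commutatorElement]
    exact (QuotientGroup.eq_one_iff _).2 (commutator_mem_wGroup hc g)
  · rw [← map_commutatorElement, ← map_mul, ← sq]
    exact (QuotientGroup.eq_one_iff _).2 (sq_mem_wGroup hc)

/-- A pair in standard position. -/
structure Std (x y : T) : Prop extends Pair x y where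
  sqXY : (x * y) ^ 2 ∈ wGroup T
  notX : ⁅x, y⁆ ∉ Subgroup.zpowers x ⊔ wGroup T
  notY : ⁅x, y⁆ ∉ Subgroup.zpowers y ⊔ wGroup T
  sqX : x ^ 2 ∉ commutator T
  sqY : y ^ 2 ∉ commutator T

theorem commutator_le_zpowers_sup [Finite T] {x y : T} (h : Pair x y) :
    commutator T ≤ Subgroup.zpowers ⁅x, y⁆ ⊔ wGroup T := by
  set π := QuotientGroup.mk' (wGroup T) with hπ
  obtain ⟨hp, hc, -⟩ := h.quotient
  haveI : (Subgroup.zpowers ⁅π x, π y⁆).Normal :=
    normal_zpowers_of_conj Subgroup.closure_univ fun s _ => by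
      rw [(hc s).symm.eq, mul_inv_cancel_right]; exact Subgroup.mem_zpowers _
  have hle : commutator (T ⧸ wGroup T) ≤ Subgroup.zpowers ⁅π x, π y⁆ :=
    commutator_le_of_gen hp.gen (by
      rintro _ (rfl | rfl) _ (rfl | rfl)
      · simp
      · exact Subgroup.mem_zpowers _
      · have h1 := (Subgroup.zpowers ⁅π x, π y⁆).inv_mem (Subgroup.mem_zpowers _)
        rwa [commutatorElement_inv] at h1
      · simp)
  intro g hg
  obtain ⟨k, hk⟩ := hle (show π g ∈ commutator (T ⧸ wGroup T) from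
    map_commutator_surj π (QuotientGroup.mk'_surjective _) ▸ Subgroup.mem_map_of_mem π hg)
  change ⁅π x, π y⁆ ^ k = π g at hk
  rw [← map_commutatorElement, ← map_zpow] at hk
  exact Subgroup.mem_sup_of_normal_right.2 ⟨⁅x, y⁆ ^ k, ⟨k, rfl⟩, (⁅x, y⁆ ^ k)⁻¹ * g,
    QuotientGroup.eq.1 (show ((⁅x, y⁆ ^ k : T) : T ⧸ wGroup T) = g from hk),
    mul_inv_cancel_left _ _⟩

theorem exists_std [Finite T] {x y : T} (h : Pair x y) :
    ∃ p q : ℤ, Odd p ∧ Odd q ∧ Std (x ^ p) (y ^ q) := by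
  obtain ⟨hp, hc, hc2⟩ := h.quotient
  obtain ⟨⟨p, q, hp', hq', hpq⟩, -⟩ := exists_sq_eq_one hp hc hc2
  refine ⟨p, q, hp', hq', ?_⟩
  have hpair : Pair (x ^ p) (y ^ q) := ⟨fun g => by
    obtain ⟨i, j, rfl⟩ := h.fac g
    obtain ⟨k, hk⟩ := mem_zpowers_zpow_of_odd h.p2 x hp'
    obtain ⟨l, hl⟩ := mem_zpowers_zpow_of_odd h.p2 y hq'
    change (x ^ p) ^ k = x at hk
    change (y ^ q) ^ l = y at hl
    exact ⟨k * i, l * j, by rw [zpow_mul (x ^ p) k i, zpow_mul (y ^ q) l j, hk, hl]⟩, h.p2, h.nm⟩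
  obtain ⟨hpQ, hcQ, hc2Q⟩ := hpair.quotient
  obtain ⟨-, hx, hy, hx2, hy2⟩ := exists_sq_eq_one hpQ hcQ hc2Q
  have hnot : ∀ {a : T}, ⁅QuotientGroup.mk' (wGroup T) (x ^ p), QuotientGroup.mk' (wGroup T) (y ^ q)⁆ ∉
      Subgroup.zpowers (QuotientGroup.mk' (wGroup T) a) →
      ⁅x ^ p, y ^ q⁆ ∉ Subgroup.zpowers a ⊔ wGroup T := by
    intro a ha hm
    obtain ⟨_, ⟨k, rfl⟩, v, hv, e⟩ := Subgroup.mem_sup_of_normal_right.1 hm
    refine ha ⟨k, ?_⟩
    rw [← map_commutatorElement, ← e, map_mul,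
      show QuotientGroup.mk' (wGroup T) v = 1 from (QuotientGroup.eq_one_iff _).2 hv, mul_one,
      map_zpow]
  have hsq : ∀ {a : T}, QuotientGroup.mk' (wGroup T) a ^ 2 ∉ Subgroup.zpowers
      ⁅QuotientGroup.mk' (wGroup T) (x ^ p), QuotientGroup.mk' (wGroup T) (y ^ q)⁆ →
      a ^ 2 ∉ commutator T := by
    intro a ha hm
    obtain ⟨_, ⟨k, rfl⟩, v, hv, e⟩ :=
      Subgroup.mem_sup_of_normal_right.1 (commutator_le_zpowers_sup hpair hm)
    refine ha ⟨k, ?_⟩
    rw [← map_commutatorElement, ← map_pow, ← e, map_mul,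
      show QuotientGroup.mk' (wGroup T) v = 1 from (QuotientGroup.eq_one_iff _).2 hv, mul_one,
      map_zpow]
  refine ⟨hpair, ?_, hnot hx, hnot hy, hsq hx2, hsq hy2⟩
  rw [← QuotientGroup.eq_one_iff, ← QuotientGroup.mk'_apply, map_pow, map_mul, map_zpow, map_zpow]
  exact hpq

theorem Std.symm {x y : T} (h : Std x y) : Std y x := by
  refine ⟨h.toPair.symm, ?_, ?_, ?_, h.sqY, h.sqX⟩
  · have := (inferInstance : (wGroup T).Normal).conj_mem _ h.sqXY y
    rw [sq] at this ⊢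
    simpa [mul_assoc] using this
  · intro hm
    refine h.notY ?_
    rw [← commutatorElement_inv]
    exact inv_mem hm
  · intro hm
    refine h.notX ?_
    rw [← commutatorElement_inv]
    exact inv_mem hm

end CfsgLib.Bicyclic
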