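import Cfsg.Agent.Bicyclic.Maximal
import Mathlib.Algebra.Ring.GeomSum
import Mathlib.RingTheory.Coprime.Lemmas

/-!
# Bicyclic `2`-groups with cyclic derived group

Such a group is an extension of a dihedral or quaternion group `⟨c, t⟩` by a cyclic group, and the
parameters satisfy the congruences needed to realize it inside an automorphism group of
`SL(2, q)` or `PSL(2, q)`.
-/

set_option autoImplicit false
set_option linter.style.haveILetI false
set_option linter.unusedSectionVars false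

namespace CfsgLib.Bicyclic

open scoped commutatorElement

/-- `1 + u + ⋯ + u ^ (k - 1)`. -/
def geomS (u : ℤ) (k : ℕ) : ℤ := ∑ j ∈ Finset.range k, u ^ j

variable {T : Type*} [Group T]

/-- The data used by the model. -/
structure Data (c t a : T) (n v m : ℕ) (u i : ℤ) : Prop where
  one_le : 1 ≤ n
  two_le : 2 ≤ v
  order : orderOf c = 2 ^ n
  tnot : t ∉ Subgroup.zpowers c
  tc : t * c * t⁻¹ = c⁻¹
  ac : a⁻¹ * c * a = c ^ u
  at' : a⁻¹ * t * a = t * c
  am : a ^ m = c ^ i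
  mpos : ∃ r, m = 2 ^ r
  card : Nat.card T = 2 ^ (n + 1) * m
  gen : Subgroup.closure {c, t, a} = ⊤
  kind : (v = n ∧ t * t = c ^ 2 ^ (n - 1)) ∨ (v = n + 1 ∧ t * t = 1)
  u4 : (4 : ℤ) ∣ u - 1
  hS : (2 : ℤ) ^ v ∣ geomS u m - 2 * i
  hU : (2 : ℤ) ^ v ∣ u ^ m - 1

/-- The intermediate data. -/
structure Pre (c t a : T) (n : ℕ) (u : ℤ) : Prop where
  one_le : 1 ≤ n
  order : orderOf c = 2 ^ n
  tnot : t ∉ Subgroup.zpowers c
  tc : t * c * t⁻¹ = c⁻¹
  ac : a⁻¹ * c * a = c ^ u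
  at' : a⁻¹ * t * a = t * c
  gen : Subgroup.closure {t, a} = ⊤
  a2 : a ^ 2 ∉ Subgroup.zpowers c
  kind : t * t = 1 ∨ (2 ≤ n ∧ t * t = c ^ 2 ^ (n - 1))
  u4 : (4 : ℤ) ∣ u - 1

theorem zpow_eq_one_iff_dvd {g : T} {n : ℕ} (h : orderOf g = 2 ^ n) (k : ℤ) :
    g ^ k = 1 ↔ (2 : ℤ) ^ n ∣ k := by
  rw [← orderOf_dvd_iff_zpow_eq_one, h]
  push_cast
  rfl

theorem zpow_eq_zpow_iff_dvd {g : T} {n : ℕ} (h : orderOf g = 2 ^ n) (k l : ℤ) :
    g ^ k = g ^ l ↔ (2 : ℤ) ^ n ∣ k - l := by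
  rw [← zpow_eq_one_iff_dvd h, zpow_sub, mul_inv_eq_one]

theorem geomS_add (u : ℤ) (h k : ℕ) : geomS u (h + k) = geomS u h + u ^ h * geomS u k := by
  unfold geomS
  rw [Finset.sum_range_add, Finset.mul_sum]
  congr 1
  exact Finset.sum_congr rfl fun j _ => pow_add u h j

theorem geomS_mul (u : ℤ) (k : ℕ) : geomS u k * (u - 1) = u ^ k - 1 := geom_sum_mul u k

theorem even_geomS {u : ℤ} (hu : Odd u) {k : ℕ} (hk : Even k) : (2 : ℤ) ∣ geomS u k := by
  obtain ⟨h, rfl⟩ := hk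
  rw [geomS_add]
  obtain ⟨m, hm⟩ := hu.pow (n := h)
  exact ⟨geomS u h * (m + 1), by rw [hm]; ring⟩

variable [Finite T]

theorem Pre.conj_c {c t a : T} {n : ℕ} {u : ℤ} (P : Pre c t a n u) (k : ℕ) (j : ℤ) :
    (a ^ k)⁻¹ * c ^ j * a ^ k = c ^ (j * u ^ k) := by
  induction k with
  | zero => simp
  | succ k ih =>
    have h1 : ∀ e : ℤ, a⁻¹ * c ^ e * a = c ^ (e * u) := fun e => by
      have := P.ac
      rw [mul_comm e u, zpow_mul, ← this]
      simpa using (conj_zpow (i := e) (a := a⁻¹) (b := c)).symm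
    rw [pow_succ, mul_inv_rev, show a⁻¹ * (a ^ k)⁻¹ * c ^ j * (a ^ k * a) =
      a⁻¹ * ((a ^ k)⁻¹ * c ^ j * a ^ k) * a by group, ih, h1, pow_succ, mul_assoc]

theorem Pre.conj_t {c t a : T} {n : ℕ} {u : ℤ} (P : Pre c t a n u) (k : ℕ) :
    (a ^ k)⁻¹ * t * a ^ k = t * c ^ geomS u k := by
  induction k with
  | zero => simp [geomS]
  | succ k ih =>
    rw [pow_succ, mul_inv_rev, show a⁻¹ * (a ^ k)⁻¹ * t * (a ^ k * a) =
      a⁻¹ * ((a ^ k)⁻¹ * t * a ^ k) * a by group, ih,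
      show a⁻¹ * (t * c ^ geomS u k) * a = (a⁻¹ * t * a) * ((a ^ 1)⁻¹ * c ^ geomS u k * a ^ 1) by
        group, P.at', P.conj_c, pow_one, add_comm k 1, geomS_add, pow_one, mul_assoc, ← zpow_one_add,
      mul_comm (geomS u k)]
    congr 3
    simp [geomS]

theorem Pre.zpow_t {c t a : T} {n : ℕ} {u : ℤ} (P : Pre c t a n u) (k : ℤ) :
    t * c ^ k = c ^ (-k) * t := by
  have h := (conj_zpow (i := k) (a := t) (b := c)).symm
  rw [P.tc, inv_zpow, ← zpow_neg, mul_inv_eq_iff_eq_mul] at h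
  exact h

theorem Pre.conj_t_c {c t a : T} {n : ℕ} {u : ℤ} (P : Pre c t a n u) (k : ℤ) :
    (c ^ k)⁻¹ * t * c ^ k = t * c ^ (2 * k) := by
  rw [mul_assoc, P.zpow_t k, ← mul_assoc, ← zpow_neg, ← zpow_add, P.zpow_t (2 * k)]
  congr 2; ring

/-- `⟨c, t⟩`. -/
def Pre.dGroup {c t a : T} {n : ℕ} {u : ℤ} (P : Pre c t a n u) : Subgroup T where
  carrier := {g | g ∈ Subgroup.zpowers c ∨ g * t ∈ Subgroup.zpowers c}
  one_mem' := Or.inl (one_mem _)
  mul_mem' := by
    have hcomm : ∀ k : ℤ, t⁻¹ * c ^ k * t = c ^ (-k) := fun k => by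
      rw [mul_assoc, show c ^ k * t = t * c ^ (-k) by rw [P.zpow_t, neg_neg], inv_mul_cancel_left]
    rintro g h (⟨i, rfl⟩ | ⟨i, hi⟩) (⟨j, rfl⟩ | ⟨j, hj⟩)
    · exact Or.inl (mul_mem ⟨i, rfl⟩ ⟨j, rfl⟩)
    · refine Or.inr ?_
      rw [mul_assoc]
      exact mul_mem ⟨i, rfl⟩ ⟨j, hj⟩
    · refine Or.inr ?_
      change c ^ i = g * t at hi
      rw [show g * c ^ j * t = g * t * (t⁻¹ * c ^ j * t) by group, ← hi, hcomm]
      exact mul_mem ⟨i, rfl⟩ ⟨-j, rfl⟩
    · refine Or.inl ?_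
      change c ^ i = g * t at hi
      change c ^ j = h * t at hj
      rw [show g * h = g * t * (t⁻¹ * (h * t) * t) * (t * t)⁻¹ by group, ← hi, ← hj, hcomm]
      refine mul_mem (mul_mem ⟨i, rfl⟩ ⟨-j, rfl⟩) (inv_mem ?_)
      rcases P.kind with h1 | ⟨-, h1⟩ <;> rw [h1]
      · exact one_mem _
      · exact pow_mem (Subgroup.mem_zpowers c) _
  inv_mem' := by
    rintro g (⟨i, rfl⟩ | ⟨i, hi⟩)
    · exact Or.inl (inv_mem ⟨i, rfl⟩)
    · refine Or.inr ?_
      change c ^ i = g * t at hi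
      rw [show g⁻¹ * t = t * ((g * t)⁻¹ * t) by group, ← hi, ← zpow_neg, ← mul_assoc, P.zpow_t,
        neg_neg, mul_assoc]
      refine mul_mem ⟨i, rfl⟩ ?_
      rcases P.kind with h1 | ⟨-, h1⟩ <;> rw [h1]
      · exact one_mem _
      · exact pow_mem (Subgroup.mem_zpowers c) _

theorem Pre.mem_dGroup {c t a : T} {n : ℕ} {u : ℤ} (P : Pre c t a n u) {g : T} :
    g ∈ P.dGroup ↔ g ∈ Subgroup.zpowers c ∨ g * t ∈ Subgroup.zpowers c := Iff.rfl

theorem Pre.exists_parameters {c t a : T} {n : ℕ} {u : ℤ} (P : Pre c t a n u) (hT : IsPGroup 2 T) :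
    ∃ (m : ℕ) (i : ℤ), (∃ r, m = 2 ^ r) ∧ 4 ∣ m ∧ a ^ m = c ^ i ∧
      Nat.card T = 2 ^ (n + 1) * m ∧ (∀ k, a ^ k ∈ P.dGroup → m ∣ k) ∧
      (2 : ℤ) ^ n ∣ geomS u m - 2 * i ∧ (2 : ℤ) ^ n ∣ u ^ m - 1 ∧ (2 : ℤ) ^ n ∣ (u - 1) * i := by
  classical
  set D := P.dGroup with hD
  have htD : t ∈ D := Or.inr (by
    rcases P.kind with h1 | ⟨-, h1⟩ <;> rw [h1]
    · exact one_mem _
    · exact pow_mem (Subgroup.mem_zpowers c) _)
  have hcD : c ∈ D := Or.inl (Subgroup.mem_zpowers c)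
  haveI hDn : D.Normal := by
    have hmap : ∀ g ∈ ({t, a⁻¹} : Set T), ∀ d ∈ D, g * d * g⁻¹ ∈ D := by
      rintro _ (rfl | rfl) d hd
      · exact mul_mem (mul_mem htD hd) (inv_mem htD)
      · rw [inv_inv]
        have hc' : a⁻¹ * c * a ∈ D := by rw [P.ac]; exact zpow_mem hcD u
        have ht' : a⁻¹ * t * a ∈ D := by rw [P.at']; exact mul_mem htD hcD
        rcases hd with ⟨k, rfl⟩ | ⟨k, hk⟩
        · have := conj_zpow (i := k) (a := a⁻¹) (b := c)
          rw [inv_inv] at this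
          rw [← this]
          exact zpow_mem hc' k
        · change c ^ k = d * t at hk
          have := conj_zpow (i := k) (a := a⁻¹) (b := c)
          rw [inv_inv] at this
          rw [show a⁻¹ * d * a = (a⁻¹ * (d * t) * a) * (a⁻¹ * t * a)⁻¹ by group, ← hk, ← this]
          exact mul_mem (zpow_mem hc' k) (inv_mem ht')
    have hgen' : Subgroup.closure ({t, a⁻¹} : Set T) = ⊤ := by
      refine eq_top_iff.2 (P.gen ▸ (Subgroup.closure_le _).2 ?_)
      rw [Set.insert_subset_iff, Set.singleton_subset_iff]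
      exact ⟨Subgroup.subset_closure (by simp), by
        simpa using inv_mem (Subgroup.subset_closure (by simp) :
          a⁻¹ ∈ Subgroup.closure ({t, a⁻¹} : Set T))⟩
    refine Subgroup.normalizer_eq_top_iff.1 (eq_top_iff.2 (hgen' ▸ (Subgroup.closure_le _).2 ?_))
    intro g hg
    exact Subgroup.mem_normalizer_fintype (hmap g hg)
  let π := QuotientGroup.mk' D
  have htop : Subgroup.zpowers (π a) = ⊤ := by
    refine (Subgroup.eq_top_iff' _).2 fun q => ?_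
    obtain ⟨g, rfl⟩ := QuotientGroup.mk'_surjective D q
    have hg : g ∈ Subgroup.closure {t, a} := by rw [P.gen]; exact Subgroup.mem_top g
    induction hg using Subgroup.closure_induction with
    | mem s hs =>
      rcases hs with rfl | rfl
      · rw [show π s = 1 from (QuotientGroup.eq_one_iff _).2 htD]; exact one_mem _
      · exact Subgroup.mem_zpowers _
    | one => rw [map_one]; exact one_mem _
    | mul _ _ _ _ h1 h2 => rw [map_mul]; exact mul_mem h1 h2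
    | inv _ _ h1 => rw [map_inv]; exact inv_mem h1
  set m := orderOf (π a) with hm
  have hmk : ∀ k, a ^ k ∈ D → m ∣ k := fun k hk => orderOf_dvd_of_pow_eq_one
    (by rw [← map_pow]; exact (QuotientGroup.eq_one_iff _).2 hk)
  have hamD : a ^ m ∈ D := by
    rw [← QuotientGroup.eq_one_iff (N := D), ← QuotientGroup.mk'_apply, map_pow, hm,
      pow_orderOf_eq_one]
  have hodd : ∀ k : ℤ, ¬ (2 : ℤ) ^ n ∣ (u - 1) * k - 1 := fun k hk => by
    have h2 : (2 : ℤ) ∣ (u - 1) * k - 1 := (dvd_pow_self 2 (by have := P.one_le; omega)).trans hk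
    have h4 : (2 : ℤ) ∣ (u - 1) * k := (((by norm_num : (2 : ℤ) ∣ 4)).trans P.u4).mul_right k
    omega
  have hac : ∀ k : ℤ, a⁻¹ * c ^ k * a = c ^ (k * u) := fun k => by
    simpa using P.conj_c 1 k
  -- `a ^ k ∈ D` lies in `⟨c⟩`
  have hin : ∀ k : ℕ, a ^ k ∈ D → a ^ k ∈ Subgroup.zpowers c := by
    rintro k (h | ⟨j, hj⟩)
    · exact h
    exfalso
    change c ^ j = a ^ k * t at hj
    have hd : a⁻¹ * (c ^ j * t⁻¹) * a = c ^ j * t⁻¹ := by
      rw [hj, mul_inv_cancel_right]; group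
    rw [show a⁻¹ * (c ^ j * t⁻¹) * a = (a⁻¹ * c ^ j * a) * (a⁻¹ * t * a)⁻¹ by group, hac, P.at',
      mul_inv_rev, ← mul_assoc, mul_left_inj, ← zpow_neg_one, ← zpow_add,
      zpow_eq_zpow_iff_dvd P.order] at hd
    exact hodd j (by rwa [show (u - 1) * j - 1 = j * u + -1 - j by ring])
  obtain ⟨i, hi⟩ := hin m hamD
  change c ^ i = a ^ m at hi
  have hm0 : 0 < m := orderOf_pos _
  obtain ⟨r, hr⟩ := IsPGroup.iff_orderOf.1 (hT.to_quotient D) (π a)
  have h4 : 4 ∣ m := by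
    rw [hm, hr]
    rcases r with _ | _ | r
    · exfalso
      apply P.a2
      rw [pow_zero, orderOf_eq_one_iff] at hr
      have haD : a ^ 1 ∈ D := by rw [pow_one]; exact (QuotientGroup.eq_one_iff _).1 hr
      obtain ⟨j, hj⟩ := hin 1 haD
      refine ⟨j * 2, ?_⟩
      change c ^ j = a ^ 1 at hj
      show c ^ (j * 2) = a ^ 2
      rw [zpow_mul, hj, pow_one, zpow_ofNat]
    · exfalso
      apply P.a2
      refine hin 2 ?_
      rw [← QuotientGroup.eq_one_iff (N := D), ← QuotientGroup.mk'_apply, map_pow,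
        show (2 : ℕ) = orderOf (π a) by rw [hr]; rfl, pow_orderOf_eq_one]
    · exact ⟨2 ^ r, by rw [pow_succ, pow_succ]; ring⟩
  refine ⟨m, i, ⟨r, hr⟩, h4, hi.symm, ?_, hmk, ?_, ?_, ?_⟩
  · have hcardD : Nat.card D = 2 ^ (n + 1) := by
      have hle : Subgroup.zpowers c ≤ D := fun g hg => Or.inl hg
      have h2 : ((Subgroup.zpowers c).subgroupOf D).index = 2 := by
        refine Subgroup.index_eq_two_iff.2 ⟨⟨t, htD⟩, fun d => ?_⟩
        simp only [Subgroup.mem_subgroupOf, Subgroup.coe_mul]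
        rcases d.2 with h | h
        · refine Or.inr ⟨h, fun h' => P.tnot ?_⟩
          simpa using mul_mem (inv_mem h) h'
        · refine Or.inl ⟨h, fun h' => P.tnot ?_⟩
          simpa using mul_mem (inv_mem h') h
      have h := Subgroup.card_mul_index ((Subgroup.zpowers c).subgroupOf D)
      rw [h2, Nat.card_congr (Subgroup.subgroupOfEquivOfLe hle).toEquiv, Nat.card_zpowers,
        P.order] at h
      rw [← h, pow_succ]
    rw [Subgroup.card_eq_card_quotient_mul_card_subgroup D, hcardD, mul_comm,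
      show Nat.card (T ⧸ D) = m by rw [← Subgroup.card_top, ← htop, Nat.card_zpowers]]
  · rw [← zpow_eq_zpow_iff_dvd P.order]
    refine mul_left_cancel (a := t) ?_
    rw [← P.conj_t, ← P.conj_t_c, hi]
  · rw [← zpow_eq_zpow_iff_dvd P.order, zpow_one]
    have h := P.conj_c m 1
    rw [one_mul, zpow_one, ← hi] at h
    rw [← h]
    group
  · rw [show (u - 1) * i = i * u - i by ring, ← zpow_eq_zpow_iff_dvd P.order, ← hac, hi]
    rw [mul_assoc, ← pow_succ, pow_succ', inv_mul_cancel_left]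

theorem Pre.gen3 {c t a : T} {n : ℕ} {u : ℤ} (P : Pre c t a n u) :
    Subgroup.closure {c, t, a} = ⊤ :=
  eq_top_iff.2 (P.gen ▸ Subgroup.closure_mono (by
    intro g hg; rcases hg with rfl | rfl <;> simp))

/-- Data from the intermediate data. -/
theorem Pre.exists_data {c t a : T} {n : ℕ} {u : ℤ} (P : Pre c t a n u) (hT : IsPGroup 2 T)
    (hnm : ¬ Cfsg.IsMetacyclic T) :
    ∃ (c t a : T) (n v m : ℕ) (u i : ℤ), Data c t a n v m u i := by
  classical
  obtain ⟨m, i, hmr, h4, hi, hcard, hmk, hS, hU, hI⟩ := P.exists_parameters hT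
  rcases P.kind with ht2 | ⟨hn2, ht2⟩
  swap
  · exact ⟨c, t, a, n, n, m, u, i, P.one_le, hn2, P.order, P.tnot, P.tc, P.ac, P.at', hi, hmr, hcard,
      P.gen3, Or.inl ⟨rfl, ht2⟩, P.u4, hS, hU⟩
  obtain ⟨w2, hw2⟩ := P.u4
  have huodd : Odd u := ⟨2 * w2, by omega⟩
  have hU' : (2 : ℤ) ^ (n + 1) ∣ u ^ m - 1 := by
    rw [← geomS_mul, show geomS u m * (u - 1) =
      (geomS u m - 2 * i) * (4 * w2) + 2 * ((u - 1) * i) by rw [← hw2]; ring, pow_succ]
    refine dvd_add (mul_dvd_mul hS ⟨2 * w2, by ring⟩) ?_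
    rw [mul_comm]
    exact mul_dvd_mul_left 2 hI
  by_cases hS' : (2 : ℤ) ^ (n + 1) ∣ geomS u m - 2 * i
  · exact ⟨c, t, a, n, n + 1, m, u, i, P.one_le, by have := P.one_le; omega, P.order, P.tnot, P.tc,
      P.ac, P.at', hi, hmr, hcard, P.gen3, Or.inr ⟨rfl, ht2⟩, P.u4, hS', hU'⟩
  -- switch to a quaternion subgroup
  obtain ⟨h, rfl⟩ : ∃ h, m = 2 * h := (dvd_trans (by norm_num) h4)
  have hh : Even h := by obtain ⟨k, hk⟩ := h4; exact ⟨k, by omega⟩
  obtain ⟨e, he⟩ := even_geomS huodd hh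
  have huh : (2 : ℤ) ^ n ∣ u ^ h - 1 := by
    obtain ⟨k, hk⟩ := huodd.pow (n := h)
    obtain ⟨l, hl⟩ : (4 : ℤ) ∣ u ^ h - 1 :=
      P.u4.trans (sub_one_dvd_pow_sub_one u h)
    have h2 : u ^ (2 * h) - 1 = 2 * ((u ^ h - 1) * (2 * l + 1)) := by
      rw [show u ^ (2 * h) - 1 = (u ^ h - 1) * (u ^ h + 1) by ring,
        show u ^ h + 1 = 2 * (2 * l + 1) by linarith]
      ring
    rw [h2, pow_succ'] at hU'
    refine (IsCoprime.pow_left ?_).dvd_of_dvd_mul_right
      ((mul_dvd_mul_iff_left (two_ne_zero (α := ℤ))).1 hU')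
    exact ⟨-l, 1, by ring⟩
  have hSm : geomS u (2 * h) = geomS u h * (1 + u ^ h) := by rw [two_mul, geomS_add]; ring
  set w := a ^ h * c ^ (-e) with hw
  have hcw : Commute c w := by
    show c * (a ^ h * c ^ (-e)) = a ^ h * c ^ (-e) * c
    have h1 := P.conj_c h 1
    rw [one_mul, zpow_one, (zpow_eq_zpow_iff_dvd P.order _ 1).2 huh, zpow_one,
      mul_assoc, inv_mul_eq_iff_eq_mul] at h1
    rw [← mul_assoc, h1, mul_assoc, mul_assoc, (Commute.self_zpow c (-e)).eq]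
  have htw : Commute t w := by
    show t * (a ^ h * c ^ (-e)) = a ^ h * c ^ (-e) * t
    have h1 := P.conj_t h
    rw [mul_assoc, inv_mul_eq_iff_eq_mul] at h1
    rw [← mul_assoc, h1, mul_assoc, mul_assoc, ← zpow_add, mul_assoc, P.zpow_t]
    congr 3
    rw [he]; ring
  have hww : w * w = c ^ (i - 2 * e) := by
    have h1 := P.conj_c h (-e)
    rw [(zpow_eq_zpow_iff_dvd P.order (-e * u ^ h) (-e)).2 (by
      rw [show -e * u ^ h - -e = (u ^ h - 1) * -e by ring]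
      exact huh.mul_right _), mul_assoc, inv_mul_eq_iff_eq_mul] at h1
    rw [hw, mul_assoc, ← mul_assoc (c ^ (-e)), h1, ← mul_assoc, ← mul_assoc, ← pow_add, ← two_mul, hi,
      ← zpow_add, ← zpow_add]
    congr 1; ring
  have hex : geomS u (2 * h) - 2 * i = 2 * e * (u ^ h - 1) - 2 * (i - 2 * e) := by
    rw [hSm, he]; ring
  have hne : ¬ (2 : ℤ) ^ n ∣ i - 2 * e := fun hd => hS' (by
    rw [hex, pow_succ']
    exact dvd_sub (mul_dvd_mul (dvd_mul_right 2 e) huh) (mul_dvd_mul_left 2 hd))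
  have hw2' : (2 : ℤ) ^ n ∣ 2 * (i - 2 * e) := by
    have := dvd_sub (huh.mul_left (2 * e)) hS
    rwa [hex, sub_sub_cancel] at this
  obtain ⟨n', rfl⟩ : ∃ n', n = n' + 1 := ⟨n - 1, by have := P.one_le; omega⟩
  have hzz : w * w = c ^ 2 ^ n' := by
    rw [hww, ← zpow_natCast, zpow_eq_zpow_iff_dvd P.order]
    rw [pow_succ'] at hw2'
    obtain ⟨q, hq⟩ := (mul_dvd_mul_iff_left (two_ne_zero (α := ℤ))).1 hw2'
    rcases Int.even_or_odd q with ⟨q', rfl⟩ | ⟨q', rfl⟩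
    · exact absurd ⟨q', by rw [hq, pow_succ]; ring⟩ hne
    · exact ⟨q', by rw [hq, pow_succ]; push_cast; ring⟩
  set t' := t * w with ht'
  set l := 1 - e * (u - 1) with hl
  set c' := c ^ l with hc'
  have hlodd : Odd l := ⟨-(2 * e * w2), by rw [hl, hw2]; ring⟩
  obtain ⟨l', hl'⟩ := mem_zpowers_zpow_of_odd hT c hlodd
  change c' ^ l' = c at hl'
  have hat' : a⁻¹ * t' * a = t' * c' := by
    have h1 : a⁻¹ * w * a = w * c ^ (-e * (u - 1)) := by
      rw [hw, show a⁻¹ * (a ^ h * c ^ (-e)) * a =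
        a ^ h * ((a ^ 1)⁻¹ * c ^ (-e) * a ^ 1) by group, P.conj_c, pow_one, mul_assoc, ← zpow_add]
      congr 2; ring
    rw [ht', show a⁻¹ * (t * w) * a = (a⁻¹ * t * a) * (a⁻¹ * w * a) by group, P.at', h1,
      mul_assoc t c, ← mul_assoc c, hcw.eq, mul_assoc w, ← zpow_one_add, ← mul_assoc, hc', hl]
    congr 2; ring
  have htt : t' * t' = c ^ 2 ^ n' := by
    rw [ht', mul_assoc, ← mul_assoc w, ← htw.eq, mul_assoc t w, ← mul_assoc t t, ht2, one_mul, hzz]
  have htc' : t' * c' * t'⁻¹ = c'⁻¹ := by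
    rw [ht', hc', show t * w * c ^ l * (t * w)⁻¹ = t * (w * c ^ l * w⁻¹) * t⁻¹ by group,
      (hcw.symm.zpow_right l).eq, mul_inv_cancel_right, ← conj_zpow, P.tc, inv_zpow]
  have hgen' : Subgroup.closure {t', a} = ⊤ := by
    refine eq_top_iff.2 (P.gen ▸ (Subgroup.closure_le _).2 ?_)
    have hmt : t' ∈ Subgroup.closure {t', a} := Subgroup.subset_closure (by simp)
    have hma : a ∈ Subgroup.closure {t', a} := Subgroup.subset_closure (by simp)
    have hmc : c ∈ Subgroup.closure {t', a} := by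
      rw [← hl']
      refine zpow_mem ?_ l'
      rw [show c' = t'⁻¹ * (a⁻¹ * t' * a) by rw [hat']; group]
      exact mul_mem (inv_mem hmt) (mul_mem (mul_mem (inv_mem hma) hmt) hma)
    rw [Set.insert_subset_iff, Set.singleton_subset_iff]
    refine ⟨?_, hma⟩
    rw [show t = t' * w⁻¹ by rw [ht']; group, hw]
    exact mul_mem hmt (inv_mem (mul_mem (pow_mem hma h) (zpow_mem hmc _)))
  have hcc : Subgroup.zpowers c' = Subgroup.zpowers c := le_antisymm
    (Subgroup.zpowers_le.2 ⟨l, rfl⟩) (Subgroup.zpowers_le.2 ⟨l', hl'⟩)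
  have htn : t' ∉ Subgroup.zpowers c' := by
    rw [hcc]
    intro hm
    have h1 : a ^ h ∈ P.dGroup := by
      rw [show a ^ h = t⁻¹ * t' * (c ^ (-e))⁻¹ by rw [ht', hw]; group]
      have htD : t⁻¹ ∈ P.dGroup := Or.inr (by rw [inv_mul_cancel]; exact one_mem _)
      exact mul_mem (mul_mem htD (Or.inl hm)) (inv_mem (Or.inl ⟨_, rfl⟩))
    obtain ⟨r, hr⟩ := hmr
    have := Nat.two_pow_pos r
    have := Nat.le_of_dvd (by omega) (hmk h h1)
    omega
  rcases Nat.eq_zero_or_pos n' with rfl | hn'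
  · -- `⟨t'⟩` would be normal
    exfalso
    rw [pow_zero, pow_one] at htt
    refine hnm (isMetacyclic_of_normal_zpowers hgen' (normal_zpowers_of_conj
      (S := ({t', a⁻¹} : Set T)) ?_ ?_))
    · refine eq_top_iff.2 (hgen' ▸ (Subgroup.closure_le _).2 ?_)
      rw [Set.insert_subset_iff, Set.singleton_subset_iff]
      exact ⟨Subgroup.subset_closure (by simp), by
        simpa using inv_mem (Subgroup.subset_closure (by simp) :
          a⁻¹ ∈ Subgroup.closure ({t', a⁻¹} : Set T))⟩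
    · rintro _ (rfl | rfl)
      · rw [mul_inv_cancel_right]; exact Subgroup.mem_zpowers _
      · rw [inv_inv, hat', hc', ← htt]
        exact mul_mem (Subgroup.mem_zpowers _) (zpow_mem (mul_mem (Subgroup.mem_zpowers _)
          (Subgroup.mem_zpowers _)) _)
  have Q : Pre c' t' a (n' + 1) u := by
    refine ⟨by omega, ?_, htn, htc', ?_, hat', hgen', by rw [hcc]; exact P.a2,
      Or.inr ⟨by omega, ?_⟩, P.u4⟩
    · rw [← Nat.card_zpowers, hcc, Nat.card_zpowers, P.order]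
    · rw [hc', ← zpow_mul, show a⁻¹ * c ^ l * a = (a ^ 1)⁻¹ * c ^ l * a ^ 1 by rw [pow_one], P.conj_c,
        pow_one]
    · rw [Nat.add_sub_cancel, htt, hc', ← zpow_natCast, ← zpow_natCast, ← zpow_mul,
        zpow_eq_zpow_iff_dvd P.order]
      obtain ⟨q, hq⟩ := hlodd
      exact ⟨-q, by rw [hq, pow_succ]; push_cast; ring⟩
  obtain ⟨m', i', hmr', -, hi', hcard', -, hS'', hU'', -⟩ := Q.exists_parameters hT
  exact ⟨c', t', a, n' + 1, n' + 1, m', u, i', Q.one_le, by omega, Q.order, Q.tnot, Q.tc, Q.ac, Q.at',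
    hi', hmr', hcard', Q.gen3, Or.inl ⟨rfl, by
      rcases Q.kind with h1 | ⟨-, h1⟩
      · exfalso
        rw [htt, ← zpow_natCast, zpow_eq_one_iff_dvd P.order, pow_succ] at h1
        push_cast at h1
        obtain ⟨q, hq⟩ := h1
        have hp : (0 : ℤ) < 2 ^ n' := by positivity
        have h12 : (1 : ℤ) = 2 * q := mul_left_cancel₀ hp.ne' (by linarith)
        omega
      · exact h1⟩, Q.u4, hS'', hU''⟩

variable {x y : T}

theorem Std.exists_pre (h : Std x y) (hA : IsCyclic ↥(commutator T)) :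
    ∃ (c t a : T) (n : ℕ) (u : ℤ), Pre c t a n u := by
  set t := x * y with ht
  set c := t⁻¹ * x⁻¹ * t * x with hc
  have hgen : Subgroup.closure {t, x} = ⊤ := by
    refine eq_top_iff.2 (h.toPair.gen ▸ (Subgroup.closure_le _).2 ?_)
    have hmt : t ∈ Subgroup.closure {t, x} := Subgroup.subset_closure (by simp)
    have hmx : x ∈ Subgroup.closure {t, x} := Subgroup.subset_closure (by simp)
    rw [Set.insert_subset_iff, Set.singleton_subset_iff]
    exact ⟨hmx, by simpa [ht] using mul_mem (inv_mem hmx) hmt⟩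
  have hcA : c ∈ commutator T := by
    rw [show c = ⁅t⁻¹, x⁻¹⁆ by rw [hc, commutatorElement_def]; group]
    exact Subgroup.commutator_mem_commutator (Subgroup.mem_top _) (Subgroup.mem_top _)
  obtain ⟨⟨g, hgA⟩, hg⟩ := hA.exists_generator
  have hgz : ∀ a ∈ commutator T, ∃ k : ℤ, g ^ k = a := fun a ha => by
    obtain ⟨k, hk⟩ := hg ⟨a, ha⟩
    exact ⟨k, congrArg Subtype.val hk⟩
  have hnormC : ∀ b ∈ commutator T, (Subgroup.zpowers b).Normal := fun b hb => by
    refine normal_zpowers_of_conj Subgroup.closure_univ fun s _ => ?_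
    obtain ⟨k, rfl⟩ := hgz b hb
    obtain ⟨l, hl⟩ := hgz _ ((inferInstance : (commutator T).Normal).conj_mem g hgA s)
    rw [← conj_zpow, ← hl, ← zpow_mul, mul_comm, zpow_mul]
    exact ⟨l, rfl⟩
  haveI := hnormC c hcA
  have hAc : commutator T = Subgroup.zpowers c := by
    refine le_antisymm (commutator_le_of_gen hgen ?_) (Subgroup.zpowers_le.2 hcA)
    have h1 : ⁅x, t⁆ ∈ Subgroup.zpowers c := by
      have := (inferInstance : (Subgroup.zpowers c).Normal).conj_mem _ (Subgroup.mem_zpowers c) (x * t)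
      rw [show x * t * c * (x * t)⁻¹ = (⁅x, t⁆)⁻¹ by
        rw [hc, commutatorElement_inv, commutatorElement_def]; group] at this
      exact inv_mem_iff.1 this
    rintro _ (rfl | rfl) _ (rfl | rfl)
    · simp
    · have := (Subgroup.zpowers c).inv_mem h1
      rwa [commutatorElement_inv] at this
    · exact h1
    · simp
  obtain ⟨n, hn⟩ := IsPGroup.iff_orderOf.1 h.p2 c
  have hn1 : 1 ≤ n := by
    rcases n with _ | n
    · exfalso
      rw [pow_zero, orderOf_eq_one_iff] at hn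
      refine h.notX ?_
      have : ⁅x, y⁆ ∈ commutator T :=
        Subgroup.commutator_mem_commutator (Subgroup.mem_top _) (Subgroup.mem_top _)
      rw [hAc, hn, Subgroup.zpowers_one_eq_bot, Subgroup.mem_bot] at this
      rw [this]; exact one_mem _
    · omega
  -- automorphisms of `⟨c⟩`
  have hconj : ∀ s : T, ∃ r : ℤ, Odd r ∧ s⁻¹ * c * s = c ^ r := by
    intro s
    obtain ⟨r, hr⟩ := (inferInstance : (Subgroup.zpowers c).Normal).conj_mem c
      (Subgroup.mem_zpowers c) s⁻¹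
    change c ^ r = _ at hr
    rw [inv_inv] at hr
    refine ⟨r, ?_, hr.symm⟩
    rcases Int.even_or_odd r with ⟨k, rfl⟩ | h'
    · exfalso
      obtain ⟨n', rfl⟩ : ∃ n', n = n' + 1 := ⟨n - 1, by omega⟩
      have h1 : (s⁻¹ * c * s) ^ ((2 ^ n' : ℕ) : ℤ) = 1 := by
        rw [← hr, ← zpow_mul, zpow_eq_one_iff_dvd hn, pow_succ]
        exact ⟨k, by push_cast; ring⟩
      have h2 : c ^ ((2 ^ n' : ℕ) : ℤ) = 1 := by
        have := conj_zpow (i := ((2 ^ n' : ℕ) : ℤ)) (a := s⁻¹) (b := c)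
        rw [inv_inv, h1, eq_comm, mul_assoc, inv_mul_eq_one] at this
        exact right_eq_mul.1 this
      rw [zpow_eq_one_iff_dvd hn] at h2
      obtain ⟨q, hq⟩ := h2
      rw [pow_succ] at hq
      push_cast at hq
      have hp : (0 : ℤ) < 2 ^ n' := by positivity
      have h12 : (1 : ℤ) = 2 * q := mul_left_cancel₀ hp.ne' (by linarith)
      omega
    · exact h'
  have hW : wGroup T ≤ Subgroup.zpowers (c ^ (2 : ℤ)) := by
    refine sup_le ((Subgroup.closure_le _).2 ?_) ?_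
    · rintro _ ⟨a, ha, rfl⟩
      rw [hAc] at ha
      obtain ⟨k, rfl⟩ := ha
      exact ⟨k, by
        show (c ^ (2 : ℤ)) ^ k = (c ^ k) ^ 2
        rw [← zpow_natCast, ← zpow_mul, ← zpow_mul, mul_comm]; rfl⟩
    · rw [Subgroup.commutator_le]
      intro a ha s _
      rw [hAc] at ha
      obtain ⟨k, rfl⟩ := ha
      obtain ⟨r, ⟨r', hr'⟩, hr⟩ := hconj s⁻¹
      rw [inv_inv] at hr
      refine ⟨-(k * r'), ?_⟩
      show (c ^ (2 : ℤ)) ^ (-(k * r')) = ⁅c ^ k, s⁆
      rw [commutatorElement_def, show c ^ k * s * (c ^ k)⁻¹ * s⁻¹ =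
        c ^ k * (s * (c ^ k)⁻¹ * s⁻¹) by group, ← zpow_neg, ← conj_zpow, hr, hr', ← zpow_mul,
        ← zpow_mul, ← zpow_add]
      congr 1; ring
  obtain ⟨k, hk⟩ := hW h.sqXY
  change (c ^ (2 : ℤ)) ^ k = (x * y) ^ 2 at hk
  rw [← ht, ← zpow_mul, sq] at hk
  obtain ⟨u, hu, huc⟩ := hconj x
  obtain ⟨v, hv, hvc⟩ := hconj t
  have hat : x⁻¹ * t * x = t * c := by rw [hc]; group
  have hrel1 : (2 : ℤ) ^ n ∣ 2 * k * v - 2 * k := by
    rw [← zpow_eq_zpow_iff_dvd hn, mul_comm (2 * k), zpow_mul, ← hvc]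
    have := conj_zpow (i := 2 * k) (a := t⁻¹) (b := c)
    rw [inv_inv] at this
    rw [this, hk, inv_mul_cancel_left]
  have hrel2 : (2 : ℤ) ^ n ∣ 2 * k * u - (2 * k + v + 1) := by
    rw [← zpow_eq_zpow_iff_dvd hn, mul_comm (2 * k), zpow_mul, ← huc]
    have := conj_zpow (i := 2 * k) (a := x⁻¹) (b := c)
    rw [inv_inv] at this
    rw [this, hk, zpow_add_one, zpow_add, hk, ← hvc,
      show x⁻¹ * (t * t) * x = (x⁻¹ * t * x) * (x⁻¹ * t * x) by group, hat]
    group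
  obtain ⟨u', hu'⟩ := hu
  obtain ⟨v', hv'⟩ := hv
  obtain ⟨hv1, h4k⟩ : (2 : ℤ) ^ n ∣ v + 1 ∧ (2 : ℤ) ^ n ∣ 4 * k := by
    rcases (show n = 1 ∨ 2 ≤ n by omega) with rfl | hn2
    · exact ⟨⟨v' + 1, by rw [hv']; ring⟩, ⟨2 * k, by ring⟩⟩
    · obtain ⟨p, hp⟩ := (pow_dvd_pow (2 : ℤ) hn2).trans hrel2
      have hh4k : (2 : ℤ) ^ n ∣ 4 * k * v' := by
        rwa [show 2 * k * v - 2 * k = 4 * k * v' by rw [hv']; ring] at hrel1
      obtain ⟨q, hq⟩ : (2 : ℤ) ∣ v' + 1 := by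
        rw [hu', hv', show (2 : ℤ) * k * (2 * u' + 1) - (2 * k + (2 * v' + 1) + 1) =
          4 * (k * u') - 2 * (v' + 1) by ring] at hp
        norm_num at hp
        exact ⟨k * u' - p, by linarith⟩
      have h4k : (2 : ℤ) ^ n ∣ 4 * k :=
        (IsCoprime.pow_left (by exact ⟨q, -1, by linarith⟩)).dvd_of_dvd_mul_right hh4k
      refine ⟨?_, h4k⟩
      have := dvd_sub (h4k.mul_right u') hrel2
      rwa [show 4 * k * u' - (2 * k * u - (2 * k + v + 1)) = v + 1 by rw [hu']; ring] at this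
  have htc : t * c * t⁻¹ = c⁻¹ := by
    have h1 : t⁻¹ * c * t = c⁻¹ := by
      rw [hvc, ← zpow_neg_one, zpow_eq_zpow_iff_dvd hn, sub_neg_eq_add]; exact hv1
    have h2 : t⁻¹ * c⁻¹ * t = c := by
      rw [show t⁻¹ * c⁻¹ * t = (t⁻¹ * c * t)⁻¹ by group, h1, inv_inv]
    calc t * c * t⁻¹ = t * (t⁻¹ * c⁻¹ * t) * t⁻¹ := by rw [h2]
      _ = c⁻¹ := by group
  have htc_not : t ∉ Subgroup.zpowers c := by
    intro hm
    have hm' : t ∈ frattini T := h.toPair.commutator_le (hAc ▸ hm)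
    exact h.toPair.notMem_mul (by
      have := mSub_ne_top h.toPair x
      exfalso
      refine this (eq_top_iff.2 (hgen ▸ (Subgroup.closure_le _).2 ?_))
      rw [Set.insert_subset_iff, Set.singleton_subset_iff]
      exact ⟨frattini_le_mSub x hm', self_mem_mSub x⟩)
  have hkind : t * t = 1 ∨ (2 ≤ n ∧ t * t = c ^ 2 ^ (n - 1)) := by
    rcases (show n = 1 ∨ 2 ≤ n by omega) with rfl | hn2
    · left
      rw [← hk, zpow_eq_one_iff_dvd hn, pow_one]
      exact dvd_mul_right 2 k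
    · obtain ⟨n', rfl⟩ : ∃ n', n = n' + 1 := ⟨n - 1, by omega⟩
      rw [pow_succ', show (4 : ℤ) * k = 2 * (2 * k) by ring] at h4k
      obtain ⟨q, hq⟩ := (mul_dvd_mul_iff_left (two_ne_zero (α := ℤ))).1 h4k
      rcases Int.even_or_odd q with ⟨q', rfl⟩ | ⟨q', rfl⟩
      · left
        rw [← hk, zpow_eq_one_iff_dvd hn]
        exact ⟨q', by rw [hq, pow_succ]; ring⟩
      · refine Or.inr ⟨hn2, ?_⟩
        rw [← hk, Nat.add_sub_cancel, ← zpow_natCast, zpow_eq_zpow_iff_dvd hn]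
        exact ⟨q', by rw [hq, pow_succ]; push_cast; ring⟩
  have hx2 : x ^ 2 ∉ Subgroup.zpowers c := hAc ▸ h.sqX
  rcases (show n = 1 ∨ 2 ≤ n by omega) with rfl | hn2
  · exact ⟨c, t, x, 1, 1, le_rfl, hn, htc_not, htc, by
      rw [huc, zpow_eq_zpow_iff_dvd hn]; exact ⟨u', by rw [hu']; ring⟩, hat, hgen, hx2, hkind, by simp⟩
  rcases Int.even_or_odd u' with ⟨q, rfl⟩ | ⟨q, rfl⟩
  · exact ⟨c, t, x, n, u, hn1, hn, htc_not, htc, huc, hat, hgen, hx2, hkind, ⟨q, by rw [hu']; ring⟩⟩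
  · -- replace `x` by `x t`
    have hzc : Subgroup.zpowers c⁻¹ = Subgroup.zpowers c := Subgroup.zpowers_inv
    refine ⟨c⁻¹, t, x * t, n, -u, hn1, by rw [orderOf_inv]; exact hn, hzc ▸ htc_not, ?_, ?_, ?_, ?_,
      ?_, ?_, ⟨-(q + 1), by rw [hu']; ring⟩⟩
    · rw [← conj_inv, htc]
    · have h1 : t⁻¹ * c * t = c⁻¹ := by
        calc t⁻¹ * c * t = t⁻¹ * (t * c * t⁻¹)⁻¹ * t := by rw [htc, inv_inv]
          _ = c⁻¹ := by group
      rw [show (x * t)⁻¹ * c⁻¹ * (x * t) = t⁻¹ * (x⁻¹ * c * x)⁻¹ * t by group, huc, ← zpow_neg,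
        show t⁻¹ * c ^ (-u) * t = t⁻¹ * c ^ (-u) * t⁻¹⁻¹ by rw [inv_inv], ← conj_zpow, inv_inv, h1]
    · calc (x * t)⁻¹ * t * (x * t) = t⁻¹ * (x⁻¹ * t * x) * t := by group
        _ = c * t := by rw [hat]; group
        _ = t * c⁻¹ := by
          calc c * t = t * (t⁻¹ * c * t) := by group
            _ = t * c⁻¹ := by rw [hvc, (zpow_eq_zpow_iff_dvd hn v (-1)).2 (by
              rw [sub_neg_eq_add]; exact hv1), zpow_neg_one]
    · refine eq_top_iff.2 (hgen ▸ (Subgroup.closure_le _).2 ?_)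
      rw [Set.insert_subset_iff, Set.singleton_subset_iff]
      have hmt : t ∈ Subgroup.closure {t, x * t} := Subgroup.subset_closure (by simp)
      have hma : x * t ∈ Subgroup.closure {t, x * t} := Subgroup.subset_closure (by simp)
      exact ⟨hmt, by simpa using mul_mem hma (inv_mem hmt)⟩
    · rw [hzc]
      intro hm
      refine hx2 ?_
      haveI : (Subgroup.zpowers c).Normal := inferInstance
      have htt : t * t ∈ Subgroup.zpowers c := hk ▸ ⟨_, rfl⟩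
      have e : (x * t) ^ 2 = x ^ 2 * (x⁻¹ * t * x * t⁻¹) * (t * t) := by rw [sq, sq]; group
      have hcom : x⁻¹ * t * x * t⁻¹ ∈ Subgroup.zpowers c := by
        rw [hat, htc]; exact inv_mem (Subgroup.mem_zpowers c)
      rw [e, mul_assoc, Subgroup.mul_mem_cancel_right _ (mul_mem hcom htt)] at hm
      exact hm
    · rcases hkind with h1 | ⟨-, h1⟩
      · exact Or.inl h1
      · refine Or.inr ⟨hn2, ?_⟩
        rw [h1, inv_pow, eq_inv_iff_mul_eq_one, ← pow_add, ← two_mul, ← pow_succ',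
          Nat.sub_add_cancel hn1, ← hn, pow_orderOf_eq_one]

theorem Std.exists_data (h : Std x y) (hA : IsCyclic ↥(commutator T)) :
    ∃ (c t a : T) (n v m : ℕ) (u i : ℤ), Data c t a n v m u i := by
  obtain ⟨c, t, a, n, u, P⟩ := h.exists_pre hA
  exact P.exists_data h.p2 h.nm

end CfsgLib.Bicyclic
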