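import Cfsg.Agent.Bicyclic.Small

/-!
# With a non-cyclic derived group there is no essential subgroup
-/

set_option autoImplicit false
set_option linter.style.haveILetI false
set_option linter.unusedSectionVars false

namespace CfsgLib.Bicyclic

open scoped commutatorElement

variable {T : Type*} [Group T] [Finite T] {x y : T}

/-- A non-metacyclic bicyclic `2`-group with non-cyclic derived group has no essential subgroup. -/
theorem Ess.false (h : Std x y) (hA : ¬ IsCyclic ↥(commutator T)) {P : Subgroup T}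
    {𝒜 Y : Subgroup (MulAut P)} (E : Ess P 𝒜 Y) : False := by
  classical
  haveI : Fact (Nat.Prime 2) := ⟨Nat.prime_two⟩
  have hU := E.uSub_le h hA
  obtain ⟨g, hgΦ, hgP⟩ := SetLike.not_le_iff_exists.1 (E.not_frattini_le h hA)
  obtain ⟨t, htK, htN, htP, ht2⟩ := exists_normalizer_step h.p2
    (le_sup_left : P ≤ P ⊔ frattini T) (Subgroup.mem_sup_right hgΦ) hgP
  obtain ⟨p, hp, f, hf, rfl⟩ := Subgroup.mem_sup_of_normal_right.1 htK
  have hfN : f ∈ Subgroup.normalizer (P : Set T) := by
    simpa using mul_mem (inv_mem (Subgroup.le_normalizer hp)) htN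
  have hfP : f ∉ P := fun h' => htP (mul_mem hp h')
  have hff : f * f ∈ P := by
    rw [show f * f = p⁻¹ * (p * f * p⁻¹ * (p * f)⁻¹) * (p * f * (p * f)) by group]
    exact mul_mem (mul_mem (inv_mem hp)
      ((Subgroup.mem_normalizer_iff.1 htN _).1 (inv_mem hp))) ht2
  obtain ⟨ω, n, S⟩ := Sit.exists (h := h) E hfN hfP hff
  have hcen : ∀ u ∈ uSub h.toPair, f * u = u * f := fun u hu => (h.uSub_central hA u hu f hf).symm
  rcases S.comm_or_quat with hc | ⟨z, hQ⟩
  · rcases S.elem_or_frattini hc with hE | hI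
    swap
    · exact S.false_of_central hA hc hI hcen
    by_cases hX : xs ω ≤ frattini T
    · exact S.false_of_central hA hc (fun v hv _ => hX hv) hcen
    obtain ⟨a, ha, haΦ⟩ := SetLike.not_le_iff_exists.1 hX
    -- the involution of `[P, ω]` in the Frattini subgroup
    obtain ⟨z, hz, hzΦ, hz1⟩ : ∃ z ∈ xs ω, z ∈ frattini T ∧ z ≠ 1 := by
      obtain ⟨b, hb, hb1, hba⟩ : ∃ b ∈ xs ω, b ≠ 1 ∧ b ≠ a := by
        by_contra hcon
        push Not at hcon
        have hle : xs ω ≤ Subgroup.zpowers a := fun v hv => by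
          by_cases h1 : v = 1
          · rw [h1]; exact one_mem _
          · rw [hcon v hv h1]; exact Subgroup.mem_zpowers _
        have h2 := (Subgroup.card_le_of_le hle).trans_eq (Nat.card_zpowers a)
        rw [hE.card] at h2
        have := Nat.le_of_dvd two_pos (orderOf_dvd_of_pow_eq_one (show a ^ 2 = 1 by
          rw [sq]; exact hE.sq a ha))
        omega
      by_cases hbΦ : b ∈ frattini T
      · exact ⟨b, hb, hbΦ, hb1⟩
      · refine ⟨a * b, mul_mem ha hb,
          E.mul_mem_frattini h.toPair (S.xs_le ha) (S.xs_le hb) haΦ hbΦ, fun e => hba ?_⟩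
        rw [eq_inv_of_mul_eq_one_right e, inv_eq_of_mul_eq_one_right (hE.sq a ha)]
    have huniq : ∀ v ∈ xs ω, v ∈ frattini T → v * v = 1 → v = 1 ∨ v = z := by
      intro v hv hvΦ hv2
      by_contra hne
      push Not at hne
      refine haΦ ?_
      rcases mem_four hE.card hz hv ha hz1 hne.1 (Ne.symm hne.2) (fun e => hne.2 (by
        rw [eq_inv_of_mul_eq_one_right e, inv_eq_of_mul_eq_one_right (hE.sq z hz)]))
        with e | e | e | e <;> rw [e]
      · exact one_mem _
      · exact hzΦ
      · exact hvΦ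
      · exact mul_mem hzΦ hvΦ
    have hzP : z ∈ P := S.xs_le hz
    have hτX : (ω ⟨z, hzP⟩ : T) ∈ xs ω := by
      obtain ⟨_, hzm⟩ := mem_xs.1 hz
      exact mem_xs.2 ⟨_, comSub_invariant ω _ hzm⟩
    exact Small.false (τ := (ω ⟨z, hzP⟩ : T)) (z := z)
      { sit := S
        nc := hA
        shape := Or.inl hE
        uP := hU
        sΦ := hf
        τX := hτX
        τΦ := fun h' => by
          rcases huniq _ hτX h' (hE.sq _ hτX) with e | e
          · exact hz1 (congrArg Subtype.val (ω.map_eq_one_iff.1 (Subtype.ext e) :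
              (⟨z, hzP⟩ : P) = 1))
          · exact hz1 (S.eq_one_of_mem hc hz (mem_cs.2 ⟨hzP, Subtype.ext e⟩))
        zX := hz
        z1 := hz1
        zU := h.mem_uSub hA hzΦ (by rw [sq]; exact hE.sq z hz)
        unique := huniq
        zsz := fun v hv => Or.inl (Subgroup.mem_bot.1 (hE.frat ▸ hv))
        zc := fun b hb => hc z hz b hb
        τω := fun _ _ => rfl }
  · have hzz := S.quat_mem_zs hQ
    by_cases hX : xs ω ≤ frattini T
    · exact h.false_of_quaternion_frattini hA hX hQ.unique (fun v hv => hQ.frat (S.sq_mem_zs hv))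
        (fun v hv v' hv' => hQ.frat (S.commutator_mem_zs hv hv')) hQ.noncomm hQ.mem hQ.zz
    obtain ⟨τ, hτ, hτΦ⟩ := SetLike.not_le_iff_exists.1 hX
    exact Small.false (τ := τ) (z := z)
      { sit := S
        nc := hA
        shape := Or.inr ⟨z, hQ⟩
        uP := hU
        sΦ := hf
        τX := hτ
        τΦ := hτΦ
        zX := hQ.mem
        z1 := hQ.ne_one
        zU := h.mem_uSub hA (S.zs_le_frattini hzz) (by rw [sq]; exact hQ.zz)
        unique := fun v hv _ hv2 => hQ.unique v hv hv2
        zsz := fun v hv => hQ.unique v (zs_le_xs ω hv) (by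
          obtain ⟨k, rfl⟩ := hQ.frat hv
          show z ^ k * z ^ k = 1
          rw [← zpow_add, ← two_mul, zpow_mul, zpow_ofNat, sq, hQ.zz, one_zpow])
        zc := hQ.central
        τω := fun hE _ => by
          obtain ⟨a, ha, b, hb, hab⟩ := hQ.noncomm
          exact absurd (hE.comm a ha b hb) hab }

end CfsgLib.Bicyclic
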