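import Cfsg.Agent.Bicyclic.Essential

/-!
# An elementary abelian essential subgroup of order eight

An automorphism `ω` of order three outside `Y` is incompatible with the transvection `t ↦ t c` and with a
single Jordan block in `Y`.
-/

set_option autoImplicit false
set_option linter.style.haveILetI false
set_option linter.unusedSectionVars false

namespace CfsgLib.Bicyclic

variable {T : Type*} [Group T] {P : Subgroup T} {𝒜 Y : Subgroup (MulAut P)}

/-- A basis adapted to `ω`. -/
structure Eight (ω : MulAut P) (t c z : P) : Prop where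
  comm : ∀ p q : P, p * q = q * p
  sq : ∀ p : P, p * p = 1
  gen : ∀ p : P, p ∈ Subgroup.closure {t, c, z}
  ωt : ω t = t * z
  ωc : ω c = c
  ωz : ω z = t
  c1 : c ≠ 1
  z1 : z ≠ 1
  cz : c ≠ z

variable {ω : MulAut P} {t c z : P}

theorem Eight.ext (B : Eight ω t c z) {α β : MulAut P} (ht : α t = β t) (hc : α c = β c)
    (hz : α z = β z) : α = β := by
  refine MulEquiv.ext fun p => ?_
  refine MonoidHom.eqOn_closure (f := α.toMonoidHom) (g := β.toMonoidHom) ?_ (B.gen p)
  rintro q (rfl | rfl | rfl)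
  exacts [ht, hc, hz]

theorem Eight.notMem_inn (B : Eight ω t c z) {α : MulAut P} (h : α ≠ 1) :
    α ∉ (MulAut.conj : P →* MulAut P).range := by
  rintro ⟨q, rfl⟩
  exact h (MulEquiv.ext fun r => by
    rw [MulAut.conj_apply, B.comm q r, mul_inv_cancel_right, MulAut.one_apply])

/-- The transvection with centre `c` and axis `⟨c, z⟩` lies outside `Y`. -/
theorem Eight.mem_of_transvection (B : Eight ω t c z) (E : Ess P 𝒜 Y) (hω : ω ∈ 𝒜) {J : MulAut P}
    (hJ : J ∈ Y) (hJp : ∃ k, J ^ 2 ^ k = 1) (Jt : J t = t * c) (Jc : J c = c) (Jz : J z = z) :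
    ω ∈ Y := by
  have hl : ∀ p q r : P, p * (q * r) = q * (p * r) := fun p q r => by
    rw [← mul_assoc, B.comm p q, mul_assoc]
  have hd : ∀ p q : P, p * (p * q) = q := fun p q => by rw [← mul_assoc, B.sq, one_mul]
  have hJ1 : J ≠ 1 := fun e => B.c1 (by
    rw [e, MulAut.one_apply] at Jt
    exact left_eq_mul.1 Jt)
  set j := ω * J * ω⁻¹ with hj
  have happ : ∀ p, j (ω p) = ω (J p) := fun p => by
    rw [hj, MulAut.mul_apply, MulAut.mul_apply, MulAut.inv_apply_self]
  have jt : j t = t := by rw [← B.ωz, happ, Jz]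
  have jc : j c = c := by
    have h1 := happ c
    rwa [B.ωc, Jc, B.ωc] at h1
  have jz : j z = c * z := by
    have h1 := happ t
    rw [B.ωt, map_mul, jt, Jt, map_mul, B.ωt, B.ωc, mul_assoc] at h1
    rw [mul_left_cancel h1, B.comm]
  have hcomm : j * J * j⁻¹ = J := by
    rw [mul_inv_eq_iff_eq_mul]
    refine B.ext ?_ ?_ ?_ <;> simp only [MulAut.mul_apply, map_mul, Jt, Jc, Jz, jt, jc, jz]
  exact E.key ω hω J hJ (B.notMem_inn hJ1) hJp
    (E.key j (mul_mem (mul_mem hω (E.le hJ)) (inv_mem hω)) J hJ (B.notMem_inn hJ1) hJp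
      (by rwa [hcomm]))

/-- A single Jordan block lies outside `Y`. -/
theorem Eight.mem_of_jordan (B : Eight ω t c z) (E : Ess P 𝒜 Y) (hω : ω ∈ 𝒜) {J : MulAut P}
    (hJ : J ∈ Y) (hJp : ∃ k, J ^ 2 ^ k = 1) (Jt : J t = t * c) (Jc : J c = c * z) (Jz : J z = z) :
    ω ∈ Y := by
  have hl : ∀ p q r : P, p * (q * r) = q * (p * r) := fun p q r => by
    rw [← mul_assoc, B.comm p q, mul_assoc]
  have hd : ∀ p q : P, p * (p * q) = q := fun p q => by rw [← mul_assoc, B.sq, one_mul]
  have hzz : ∀ p : P, p⁻¹ = p := fun p => inv_eq_of_mul_eq_one_right (B.sq p)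
  set i := J * J with hi
  have hiY : i ∈ Y := mul_mem hJ hJ
  have it : i t = t * z := by
    simp only [hi, MulAut.mul_apply, map_mul, Jt, Jc, mul_assoc, hd]
  have ic : i c = c := by
    simp only [hi, MulAut.mul_apply, map_mul, Jc, Jz, mul_assoc, B.sq, mul_one]
  have iz : i z = z := by simp only [hi, MulAut.mul_apply, Jz]
  have hi1 : i ≠ 1 := fun e => B.z1 (by
    rw [e, MulAut.one_apply] at it
    exact left_eq_mul.1 it)
  have hip : ∃ k, i ^ 2 ^ k = 1 := by
    obtain ⟨k, hk⟩ := hJp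
    exact ⟨k, by rw [hi, (Commute.refl J).mul_pow, hk, one_mul]⟩
  set g := ω⁻¹ * J * ω with hg
  have hgA : g ∈ 𝒜 := mul_mem (mul_mem (inv_mem hω) (E.le hJ)) hω
  have hωg : ∀ p, ω (g p) = J (ω p) := fun p => by
    rw [hg, MulAut.mul_apply, MulAut.mul_apply, MulAut.apply_inv_self]
  have gt : g t = t * c := ω.injective (by
    rw [hωg]
    simp only [map_mul, B.ωt, B.ωc, Jt, Jz, mul_assoc, B.comm, hl])
  have gc : g c = t * (c * z) := ω.injective (by
    rw [hωg]
    simp only [map_mul, B.ωt, B.ωc, B.ωz, Jc, mul_assoc, B.comm, hl, hd, B.sq, mul_one])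
  have gz : g z = c * z := ω.injective (by
    rw [hωg]
    simp only [map_mul, B.ωc, B.ωz, Jt, B.comm])
  set b := g * i * g⁻¹ with hb
  have happ : ∀ p, b (g p) = g (i p) := fun p => by
    rw [hb, MulAut.mul_apply, MulAut.mul_apply, MulAut.inv_apply_self]
  have bt : b t = t := by
    have h1 := happ (c * z)
    simp only [map_mul, gc, gz, ic, iz, mul_assoc, B.comm, hl, hd, B.sq, mul_one] at h1
    exact h1
  have bc : b c = z := by
    have h1 := happ t
    rw [it, map_mul, gt, map_mul, bt, gz] at h1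
    simp only [mul_assoc, hd] at h1
    exact mul_left_cancel h1
  have bz : b z = c := by
    have h1 := happ z
    simp only [iz, gz, map_mul, bc] at h1
    rw [B.comm c z] at h1
    exact mul_left_cancel h1
  set k := i * b * (i * b) with hk
  have kt : k t = t * (c * z) := by
    simp only [hk, MulAut.mul_apply, map_mul, it, ic, iz, bt, bc, bz, mul_assoc, B.comm, hl]
  have kc : k c = c := by simp only [hk, MulAut.mul_apply, ic, iz, bc, bz]
  have kz : k z = z := by simp only [hk, MulAut.mul_apply, ic, iz, bc, bz]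
  have hk1 : k ≠ 1 := fun e => B.cz (by
    rw [e, MulAut.one_apply] at kt
    exact (inv_eq_of_mul_eq_one_right (left_eq_mul.1 kt)).symm.trans (hzz c) |>.symm)
  have hki : k * i * k⁻¹ = i := by
    rw [mul_inv_eq_iff_eq_mul]
    refine B.ext ?_ ?_ ?_ <;>
      simp only [MulAut.mul_apply, map_mul, it, ic, iz, kt, kc, kz, mul_assoc, B.comm, hl]
  have hbk : b * k * b⁻¹ = k := by
    rw [mul_inv_eq_iff_eq_mul]
    refine B.ext ?_ ?_ ?_ <;>
      simp only [MulAut.mul_apply, map_mul, bt, bc, bz, kt, kc, kz, mul_assoc, B.comm, hl]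
  have hkp : ∃ e, k ^ 2 ^ e = 1 := ⟨1, by
    rw [pow_one, pow_two]
    refine B.ext ?_ ?_ ?_ <;>
      simp only [MulAut.mul_apply, MulAut.one_apply, map_mul, kt, kc, kz, mul_assoc, B.sq, mul_one]⟩
  have hbA : b ∈ 𝒜 := mul_mem (mul_mem hgA (E.le hiY)) (inv_mem hgA)
  have hiA := E.le hiY
  have hkY : k ∈ Y := E.key k (mul_mem (mul_mem hiA hbA) (mul_mem hiA hbA)) i hiY
    (B.notMem_inn hi1) hip (by rwa [hki])
  have hbY : b ∈ Y := E.key b hbA k hkY (B.notMem_inn hk1) hkp (by rwa [hbk])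
  have hgY : g ∈ Y := E.key g hgA i hiY (B.notMem_inn hi1) hip hbY
  have hJ1 : J ≠ 1 := fun e => hi1 (by rw [hi, e, mul_one])
  exact (inv_mem_iff (H := Y)).1 (E.key ω⁻¹ (inv_mem hω) J hJ (B.notMem_inn hJ1) hJp
    (by rwa [inv_inv]))

end CfsgLib.Bicyclic
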