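import Cfsg.Agent.Bicyclic.Shape
import Cfsg.Agent.Fusion.Alperin
import Cfsg.Agent.FusionSub.Essential
import Cfsg.Agent.FusionSub.PSLTwo
import Cfsg.Agent.FusionEssential.Basic

/-!
# What an essential subgroup of a bicyclic `2`-group provides

`Ess P 𝒜 Y`: the automorphism group `𝒜` of `P` with a proper subgroup `Y` containing the automizer in `T`
and controlling the conjugates of its non-inner `2`-elements.
-/

set_option autoImplicit false
set_option linter.style.haveILetI false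
set_option linter.unusedSectionVars false

namespace CfsgLib.Bicyclic

open Cfsg Cfsg.FusionSystem CfsgLib.Fusion
open scoped commutatorElement

variable {T : Type*} [Group T]

/-- The data of an essential subgroup. -/
structure Ess (P : Subgroup T) (𝒜 Y : Subgroup (MulAut P)) : Prop where
  ne_top : P ≠ ⊤
  cent : ∀ g : T, (∀ q ∈ P, g * q = q * g) → g ∈ P
  conj_mem : ∀ n : Subgroup.normalizer (P : Set T), P.normalizerMonoidHom n ∈ Y
  le : Y ≤ 𝒜
  lt : ∃ g ∈ 𝒜, g ∉ Y
  key : ∀ g ∈ 𝒜, ∀ β ∈ Y, β ∉ (MulAut.conj : P →* MulAut P).range → (∃ k, β ^ 2 ^ k = 1) →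
    g * β * g⁻¹ ∈ Y → g ∈ Y
  core : ∀ N : Subgroup (MulAut P), N ≤ 𝒜 → (∀ g ∈ 𝒜, ∀ β ∈ N, g * β * g⁻¹ ∈ N) → IsPGroup 2 N →
    N ≤ (MulAut.conj : P →* MulAut P).range

theorem coe_normalizerMonoidHom (P : Subgroup T) (n : Subgroup.normalizer (P : Set T)) (x : P) :
    ((P.normalizerMonoidHom n x : P) : T) = n * x * (n : T)⁻¹ := rfl

theorem Ess.conj_notMem {P : Subgroup T} {𝒜 Y : Subgroup (MulAut P)} (E : Ess P 𝒜 Y)
    (n : Subgroup.normalizer (P : Set T)) (hn : (n : T) ∉ P) :
    P.normalizerMonoidHom n ∉ (MulAut.conj : P →* MulAut P).range := by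
  rintro ⟨q, hq⟩
  refine hn ?_
  have h : (q : T)⁻¹ * n ∈ P := E.cent _ fun r hr => by
    have h1 : (q : T) * r * (q : T)⁻¹ = n * r * (n : T)⁻¹ :=
      congrArg (fun f : MulAut P => ((f ⟨r, hr⟩ : P) : T)) hq
    calc (q : T)⁻¹ * n * r = (q : T)⁻¹ * (n * r * (n : T)⁻¹) * n := by group
      _ = r * ((q : T)⁻¹ * n) := by rw [← h1]; group
  simpa using mul_mem q.2 h

variable [Finite T] {x y : T}

theorem Pair.index_frattini_le_four (h : Pair x y) : (frattini T).index ≤ 4 := by
  rw [Subgroup.index_eq_card]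
  refine (Nat.card_le_card_of_surjective
    (fun e : Fin 2 × Fin 2 => ((x ^ (e.1 : ℕ) * y ^ (e.2 : ℕ) : T) : T ⧸ frattini T)) ?_).trans
    (by simp)
  intro q
  obtain ⟨g, rfl⟩ := QuotientGroup.mk_surjective q
  obtain ⟨i, j, rfl⟩ := h.fac g
  have hpar : ∀ (z : T) (k : ℤ), ∃ e : Fin 2,
      ((z ^ (e : ℕ) : T) : T ⧸ frattini T) = ((z ^ k : T) : T ⧸ frattini T) := by
    intro z k
    rcases Int.even_or_odd k with hk | ⟨m, rfl⟩
    · refine ⟨0, ?_⟩
      rw [(QuotientGroup.eq_one_iff _).2 (h.zpow_even_mem z hk)]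
      simp
    · refine ⟨1, QuotientGroup.eq.2 ?_⟩
      simp only [Fin.val_one, pow_one]
      rw [show z⁻¹ * z ^ (2 * m + 1) = z ^ (2 * m) by rw [zpow_add_one]; group]
      exact h.zpow_even_mem z (even_two_mul m)
  obtain ⟨e, he⟩ := hpar x i
  obtain ⟨e', he'⟩ := hpar y j
  exact ⟨(e, e'), by simp only [QuotientGroup.mk_mul, he, he']⟩

theorem closure_eq_top_of_index (hT : IsPGroup 2 T) (hidx : (frattini T).index ≤ 4) {a b : T}
    (ha : a ∉ frattini T) (hb : b ∉ frattini T) (hab : a * b ∉ frattini T) :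
    Subgroup.closure {a, b} = ⊤ := by
  classical
  haveI : Fact (Nat.Prime 2) := ⟨Nat.prime_two⟩
  refine closure_eq_top_of_frattini (eq_top_iff.2 fun g _ => ?_)
  by_contra hg
  let π := QuotientGroup.mk' (frattini T)
  have hz : ∀ z, π z = 1 ↔ z ∈ frattini T := fun z => QuotientGroup.eq_one_iff z
  have hmem : ∀ z, (π z = 1 ∨ π z = π a ∨ π z = π b ∨ π z = π (a * b)) →
      z ∈ Subgroup.closure {a, b} ⊔ frattini T := by
    have hsub : ∀ w ∈ Subgroup.closure {a, b}, ∀ z, π z = π w →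
        z ∈ Subgroup.closure {a, b} ⊔ frattini T := fun w hw z hz' => by
      rw [← mul_inv_cancel_left w z]
      exact mul_mem (Subgroup.mem_sup_left hw)
        (Subgroup.mem_sup_right (QuotientGroup.eq.1 hz'.symm))
    rintro z (h1 | h1 | h1 | h1)
    · exact Subgroup.mem_sup_right ((hz z).1 h1)
    · exact hsub a (Subgroup.subset_closure (by simp)) z h1
    · exact hsub b (Subgroup.subset_closure (by simp)) z h1
    · exact hsub _ (mul_mem (Subgroup.subset_closure (by simp)) (Subgroup.subset_closure (by simp)))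
        z h1
  have d1 : π a ≠ 1 := fun e => ha ((hz a).1 e)
  have d2 : π b ≠ 1 := fun e => hb ((hz b).1 e)
  have d3 : π (a * b) ≠ 1 := fun e => hab ((hz _).1 e)
  have d4 : π a ≠ π b := fun e => d3 (by
    rw [map_mul, e, ← map_mul, hz, ← sq]
    exact Solvable.pow_mem_frattini hT b)
  have d5 : π a ≠ π (a * b) := fun e => d2 (by
    rw [map_mul] at e
    exact left_eq_mul.1 e)
  have d6 : π b ≠ π (a * b) := fun e => d1 (by
    rw [map_mul] at e
    exact right_eq_mul.1 e)
  have g0 : π g ≠ 1 := fun e => hg (hmem g (Or.inl e))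
  have g1 : π g ≠ π a := fun e => hg (hmem g (Or.inr (Or.inl e)))
  have g2 : π g ≠ π b := fun e => hg (hmem g (Or.inr (Or.inr (Or.inl e))))
  have g3 : π g ≠ π (a * b) := fun e => hg (hmem g (Or.inr (Or.inr (Or.inr e))))
  let f : Fin 5 → T ⧸ frattini T := ![1, π a, π b, π (a * b), π g]
  have hf : Function.Injective f := by
    intro i j hij
    fin_cases i <;> fin_cases j <;>
      first
        | rfl
        | exact absurd hij d1 | exact absurd hij.symm d1 | exact absurd hij d2
        | exact absurd hij.symm d2 | exact absurd hij d3 | exact absurd hij.symm d3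
        | exact absurd hij d4 | exact absurd hij.symm d4 | exact absurd hij d5
        | exact absurd hij.symm d5 | exact absurd hij d6 | exact absurd hij.symm d6
        | exact absurd hij g0 | exact absurd hij.symm g0 | exact absurd hij g1
        | exact absurd hij.symm g1 | exact absurd hij g2 | exact absurd hij.symm g2
        | exact absurd hij g3 | exact absurd hij.symm g3
  have := (Nat.card_le_card_of_injective f hf).trans
    ((Subgroup.index_eq_card _).symm.le.trans hidx)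
  simp at this

theorem Pair.closure_eq_top (h : Pair x y) {a b : T} (ha : a ∉ frattini T) (hb : b ∉ frattini T)
    (hab : a * b ∉ frattini T) : Subgroup.closure {a, b} = ⊤ :=
  closure_eq_top_of_index h.p2 h.index_frattini_le_four ha hb hab

/-- The automorphism group of `T` is a `2`-group. -/
theorem Std.isPGroup_mulAut (h : Std x y) : IsPGroup 2 (MulAut T) := by
  haveI : Fact (Nat.Prime 2) := ⟨Nat.prime_two⟩
  let π := QuotientGroup.mk' (commutator T)
  have hcom : ∀ a b : T, π a * π b = π b * π a := fun a b => by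
    rw [← commutatorElement_eq_one_iff_mul_comm, ← map_commutatorElement]
    exact (QuotientGroup.eq_one_iff _).2
      (Subgroup.commutator_mem_commutator (Subgroup.mem_top a) (Subgroup.mem_top b))
  let L0 : Subgroup T :=
    { carrier := {g | π g * π g = 1}
      one_mem' := by simp
      mul_mem' := fun {a b} ha hb => by
        show π (a * b) * π (a * b) = 1
        rw [map_mul, show π a * π b * (π a * π b) = π a * (π b * π a) * π b by group, ← hcom a b,
          show π a * (π a * π b) * π b = π a * π a * (π b * π b) by group, ha, hb, one_mul]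
      inv_mem' := fun {a} (ha : π a * π a = 1) => by
        show π a⁻¹ * π a⁻¹ = 1
        rw [map_inv, ← mul_inv_rev, ha, inv_one] }
  let L := L0 ⊔ frattini T
  have hLinv : ∀ α : MulAut T, ∀ g ∈ L, α g ∈ L := by
    intro α g hg
    have hle : L ≤ L.comap α.toMonoidHom := sup_le (fun z (hz : π z * π z = 1) => by
      refine Subgroup.mem_sup_left (show π (α z) * π (α z) = 1 from ?_)
      rw [← map_mul, ← map_mul]
      refine (QuotientGroup.eq_one_iff _).2 ?_
      rw [← map_commutator_surj α.toMonoidHom α.surjective]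
      refine Subgroup.mem_map_of_mem α.toMonoidHom ?_
      rw [← map_mul] at hz
      exact (QuotientGroup.eq_one_iff _).1 hz)
      fun z hz => Subgroup.mem_sup_right (frattini_invariant α z hz)
    exact hle hg
  have hxy : x * y ∈ L := Subgroup.mem_sup_left (show π (x * y) * π (x * y) = 1 by
    rw [← map_mul, ← sq]
    exact (QuotientGroup.eq_one_iff _).2 (wGroup_le_commutator h.sqXY))
  have hne : L ≠ frattini T := fun e =>
    h.toPair.notMem_mul (by
      have h1 : x * y ∈ frattini T := e ▸ hxy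
      have h2 : x⁻¹ * (x * y) = y := inv_mul_cancel_left x y
      exfalso
      exact h.toPair.y_notMem (h2 ▸ mul_mem (inv_mem (self_mem_mSub x)) (frattini_le_mSub x h1)))
  have htop : L ≠ ⊤ := by
    intro e
    have hle : L0 ≤ mSub (x * y) := by
      intro g hg
      change π g * π g = 1 at hg
      rcases h.toPair.cases g with hc | hc | hc | hc
      · exact frattini_le_mSub _ hc
      · exfalso
        obtain ⟨i, j, rfl⟩ := h.fac g
        obtain ⟨j', rfl⟩ := h.toPair.even_of_mem hc.1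
        have hi : Odd i := by
          rcases Int.even_or_odd i with he | ho
          · exact absurd (mul_mem (frattini_le_mSub y (h.toPair.zpow_even_mem x he))
              (zpow_mem (self_mem_mSub y) _)) hc.2.1
          · exact ho
        have hxy2 : π x * π x = (π y * π y)⁻¹ := by
          have h1 : π (x * y) * π (x * y) = 1 := by
            rw [← map_mul, ← sq]
            exact (QuotientGroup.eq_one_iff _).2 (wGroup_le_commutator h.sqXY)
          rw [map_mul, show π x * π y * (π x * π y) = π x * (π y * π x) * π y by group,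
            ← hcom x y, show π x * (π x * π y) * π y = π x * π x * (π y * π y) by group] at h1
          exact eq_inv_of_mul_eq_one_left h1
        have hcx : Commute (π x) (π y) := hcom x y
        rw [map_mul, map_zpow, map_zpow, (hcx.zpow_zpow i (j' + j')).symm.mul_mul_mul_comm,
          ← zpow_add, ← zpow_add] at hg
        have e2 : (π x * π x) ^ (i - (j' + j')) = 1 := by
          rw [zpow_sub, hxy2, inv_zpow (π y * π y) (j' + j'), inv_inv, ← hxy2,
            (Commute.refl (π x)).mul_zpow, (Commute.refl (π y)).mul_zpow, ← zpow_add, ← zpow_add]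
          exact hg
        obtain ⟨k, hk⟩ := mem_zpowers_zpow_of_odd (h.p2.to_quotient (commutator T)) (π x * π x)
          (show Odd (i - (j' + j')) from hi.sub_even (Even.add_self j'))
        change ((π x * π x) ^ (i - (j' + j'))) ^ k = _ at hk
        rw [e2, one_zpow] at hk
        refine h.sqX ?_
        rw [sq, ← QuotientGroup.eq_one_iff]
        exact (map_mul π x x).trans hk.symm
      · exfalso
        obtain ⟨i, j, rfl⟩ := h.fac g
        have hi : Even i := by
          rcases Int.even_or_odd i with he | ho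
          · exact he
          · refine absurd (Subgroup.zpowers_le.2 ?_ (mem_zpowers_zpow_of_odd h.p2 x ho))
              h.toPair.x_notMem
            simpa using mul_mem hc.1 (inv_mem (zpow_mem (self_mem_mSub y) j))
        have hj : Odd j := by
          rcases Int.even_or_odd j with he | ho
          · exact absurd (mul_mem (zpow_mem (self_mem_mSub x) i)
              (frattini_le_mSub x (h.toPair.zpow_even_mem y he))) hc.2.1
          · exact ho
        obtain ⟨i', rfl⟩ := hi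
        have hxy2 : π x * π x = (π y * π y)⁻¹ := by
          have h1 : π (x * y) * π (x * y) = 1 := by
            rw [← map_mul, ← sq]
            exact (QuotientGroup.eq_one_iff _).2 (wGroup_le_commutator h.sqXY)
          rw [map_mul, show π x * π y * (π x * π y) = π x * (π y * π x) * π y by group,
            ← hcom x y, show π x * (π x * π y) * π y = π x * π x * (π y * π y) by group] at h1
          exact eq_inv_of_mul_eq_one_left h1
        have hcx : Commute (π x) (π y) := hcom x y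
        rw [map_mul, map_zpow, map_zpow, (hcx.zpow_zpow (i' + i') j).symm.mul_mul_mul_comm,
          ← zpow_add, ← zpow_add] at hg
        have e2 : (π x * π x) ^ ((i' + i') - j) = 1 := by
          rw [zpow_sub, hxy2, inv_zpow (π y * π y) j, inv_inv, ← hxy2,
            (Commute.refl (π x)).mul_zpow, (Commute.refl (π y)).mul_zpow, ← zpow_add, ← zpow_add]
          exact hg
        obtain ⟨k, hk⟩ := mem_zpowers_zpow_of_odd (h.p2.to_quotient (commutator T)) (π x * π x)
          (show Odd ((i' + i') - j) from (Even.add_self i').sub_odd hj)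
        change ((π x * π x) ^ ((i' + i') - j)) ^ k = _ at hk
        rw [e2, one_zpow] at hk
        refine h.sqX ?_
        rw [sq, ← QuotientGroup.eq_one_iff]
        exact (map_mul π x x).trans hk.symm
      · exact hc.1
    exact mSub_ne_top h.toPair (x * y)
      (eq_top_iff.2 (e ▸ sup_le hle (frattini_le_mSub _)))
  intro α
  obtain ⟨k, m, hm, hord⟩ := Nat.exists_eq_two_pow_mul_odd (orderOf_pos α).ne'
  refine ⟨k, ?_⟩
  by_contra hne'
  have hodd : Odd (orderOf (α ^ 2 ^ k)) := by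
    rw [orderOf_pow, hord, Nat.gcd_eq_right (dvd_mul_right _ _),
      Nat.mul_div_cancel_left _ (Nat.two_pow_pos k)]
    exact hm
  rcases FusionMetacyclic.eq_frattini_or_top h.p2 h.toPair.index_frattini_le_four hodd hne'
    (le_sup_right : frattini T ≤ L) (hLinv _) with h1 | h1
  · exact hne h1
  · exact htop h1

/-- Any subgroup meets the cosets of the Frattini subgroup in at most two of them. -/
theorem Ess.mul_mem_frattini (h : Pair x y) {P : Subgroup T} {𝒜 Y : Subgroup (MulAut P)}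
    (E : Ess P 𝒜 Y) {a b : T} (ha : a ∈ P) (hb : b ∈ P) (ha' : a ∉ frattini T)
    (hb' : b ∉ frattini T) : a * b ∈ frattini T := by
  by_contra hc
  refine E.ne_top (eq_top_iff.2 ?_)
  rw [← h.closure_eq_top ha' hb' hc, Subgroup.closure_le, Set.insert_subset_iff,
    Set.singleton_subset_iff]
  exact ⟨ha, hb⟩

theorem Ess.index_frattini_le (h : Std x y) {P : Subgroup T} {𝒜 Y : Subgroup (MulAut P)}
    (E : Ess P 𝒜 Y) : (frattini P).index ≤ 8 :=
  index_frattini_le_eight (h.p2.to_subgroup P) ((frattini T).subgroupOf P)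
    (isMetacyclic_of_injective
      (((P.subtype).comp ((frattini T).subgroupOf P).subtype).codRestrict (frattini T) fun a => a.2)
      (fun _ _ hab => Subtype.ext (Subtype.ext (congrArg Subtype.val hab :)))
      h.isMetacyclic_frattini)
    fun a b ha hb => E.mul_mem_frattini h.toPair a.2 b.2 ha hb

/-- An automorphism of order three inverted by a given involution of the outer automizer. -/
theorem Ess.exists_omega (h : Std x y) {P : Subgroup T} {𝒜 Y : Subgroup (MulAut P)}
    (E : Ess P 𝒜 Y) {s : T} (hs : s ∈ Subgroup.normalizer (P : Set T)) (hsP : s ∉ P)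
    (hs2 : s * s ∈ P) :
    ∃ (ω : MulAut P) (n : Subgroup.normalizer (P : Set T)), (n : T) * s⁻¹ ∈ P ∧ ω ∈ 𝒜 ∧ ω ∉ Y ∧
      ω ^ 3 = 1 ∧ P.normalizerMonoidHom n * ω * (P.normalizerMonoidHom n)⁻¹ = ω⁻¹ := by
  classical
  haveI : Fact (Nat.Prime 2) := ⟨Nat.prime_two⟩
  set I : Subgroup (MulAut P) := (MulAut.conj : P →* MulAut P).range with hI
  haveI hIn : I.Normal := Cfsg.innNormal P
  have hIY : I ≤ Y := by
    rintro _ ⟨q, rfl⟩
    have hq : (q : T) ∈ Subgroup.normalizer (P : Set T) := Subgroup.le_normalizer q.2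
    convert E.conj_mem ⟨q, hq⟩ using 1
    exact MulEquiv.ext fun r => Subtype.ext rfl
  set c := P.normalizerMonoidHom ⟨s, hs⟩ with hc
  have hcY : c ∈ Y := E.conj_mem _
  have hcI : c ∉ I := E.conj_notMem _ hsP
  have hcc : c * c ∈ I := ⟨⟨s * s, hs2⟩, MulEquiv.ext fun r => Subtype.ext (by
    show s * s * r * (s * s)⁻¹ = s * (s * r * s⁻¹) * s⁻¹
    group)⟩
  have hc2 : ∃ k, c ^ 2 ^ k = 1 := by
    obtain ⟨k, hk⟩ := h.p2 s
    refine ⟨k, ?_⟩
    rw [hc, ← map_pow, show (⟨s, hs⟩ : Subgroup.normalizer (P : Set T)) ^ 2 ^ k = 1 from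
      Subtype.ext hk, map_one]
  let q := QuotientGroup.mk' I
  have hq : ∀ z, q z = 1 ↔ z ∈ I := fun z => QuotientGroup.eq_one_iff z
  have hqc : q c * q c = 1 := by rw [← map_mul, hq]; exact hcc
  have hqci : (q c)⁻¹ = q c := inv_eq_of_mul_eq_one_right hqc
  have hmemY : ∀ z w, q z = q w → z ∈ Y → w ∈ Y := fun z w hzw hz => by
    rw [← mul_inv_cancel_left z w]
    exact mul_mem hz (hIY (QuotientGroup.eq.1 hzw))
  obtain ⟨g, hgA, hgY⟩ := E.lt
  set c' := g * c * g⁻¹ with hc'
  have hc'A : c' ∈ 𝒜 := mul_mem (mul_mem hgA (E.le hcY)) (inv_mem hgA)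
  set D := c * c' with hD
  have hDA : D ∈ 𝒜 := mul_mem (E.le hcY) hc'A
  have hqc' : q c' * q c' = 1 := by
    rw [hc', map_mul, map_mul, map_inv,
      show q g * q c * (q g)⁻¹ * (q g * q c * (q g)⁻¹) = q g * (q c * q c) * (q g)⁻¹ by group, hqc,
      mul_one, mul_inv_cancel]
  have hinvD : q c * q D * (q c)⁻¹ = (q D)⁻¹ := by
    rw [hD, map_mul, mul_inv_rev, inv_eq_of_mul_eq_one_right hqc', hqci, ← mul_assoc (q c), hqc,
      one_mul]
  obtain ⟨a, b, hb, hab⟩ := Nat.exists_eq_two_pow_mul_odd (orderOf_pos D).ne'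
  -- the even part is inner
  have hD0 : D ^ b ∈ I := by
    by_contra hD0
    have hex : ∃ j, (D ^ b) ^ 2 ^ j ∈ I :=
      ⟨a, by rw [← pow_mul, mul_comm, ← hab, pow_orderOf_eq_one]; exact one_mem _⟩
    rcases hf : Nat.find hex with _ | j
    · have h0 := Nat.find_spec hex
      rw [hf, pow_zero, pow_one] at h0
      exact hD0 h0
    set K := (D ^ b) ^ 2 ^ j with hK
    have hKI : K ∉ I := Nat.find_min hex (by omega)
    have hKK : q K * q K = 1 := by
      rw [← map_mul, hq, ← sq, hK, ← pow_mul, ← pow_succ, ← hf]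
      exact Nat.find_spec hex
    have hKinv : q c * q K * (q c)⁻¹ = q K := by
      rw [hK, map_pow, map_pow, ← conj_pow, ← conj_pow, hinvD, inv_pow, inv_pow, ← map_pow, ← map_pow,
        ← hK]
      exact inv_eq_of_mul_eq_one_right hKK
    have hKA : K ∈ 𝒜 := pow_mem (pow_mem hDA _) _
    have hKY : K ∈ Y := by
      refine E.key K hKA c hcY hcI hc2 (hmemY c _ ?_ hcY)
      rw [map_mul, map_mul, map_inv]
      have h1 : q c * q K = q K * q c := mul_inv_eq_iff_eq_mul.1 hKinv
      rw [← h1, mul_inv_cancel_right]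
    have hc'K : q c' * q K * (q c')⁻¹ = q K := by
      have e : q c' = q c * q D := by
        conv_rhs => rw [hD, map_mul q c c', ← mul_assoc (q c) (q c) (q c'), hqc, one_mul]
      have hcD : Commute (q D) (q K) := by
        rw [hK, map_pow, map_pow]; exact ((Commute.refl _).pow_right _).pow_right _
      rw [e, show q c * q D * q K * (q c * q D)⁻¹ = q c * (q D * q K * (q D)⁻¹) * (q c)⁻¹ by group,
        hcD.eq, mul_inv_cancel_right, hKinv]
    have hc'Y : c' ∈ Y := by
      refine E.key c' hc'A K hKY hKI ⟨a, ?_⟩ (hmemY K _ ?_ hKY)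
      · rw [hK, ← pow_mul, ← pow_mul,
          show b * (2 ^ j * 2 ^ a) = (2 ^ a * b) * 2 ^ j by ring, ← hab, pow_mul, pow_orderOf_eq_one,
          one_pow]
      · rw [map_mul, map_mul, map_inv, hc'K]
    exact hgY (E.key g hgA c hcY hcI hc2 hc'Y)
  set ω₀ := D ^ 2 ^ a with hω₀
  have hω₀A : ω₀ ∈ 𝒜 := pow_mem hDA _
  have hω₀Y : ω₀ ∉ Y := fun hY => by
    obtain ⟨r, t, hrt⟩ : IsCoprime ((2 : ℤ) ^ a) (b : ℤ) := by
      refine IsCoprime.pow_left ?_
      obtain ⟨k, rfl⟩ := hb
      exact ⟨-k, 1, by push_cast; ring⟩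
    have hDY : D ∈ Y := by
      rw [← zpow_one D, ← hrt, zpow_add, mul_comm r, mul_comm t, zpow_mul, zpow_mul,
        show ((2 : ℤ) ^ a) = ((2 ^ a : ℕ) : ℤ) by push_cast; rfl, zpow_natCast, zpow_natCast]
      exact mul_mem (zpow_mem hY r) (zpow_mem (hIY hD0) t)
    exact hgY (E.key g hgA c hcY hcI hc2 (by
      rw [← hc', show c' = c⁻¹ * D by rw [hD, inv_mul_cancel_left]]
      exact mul_mem (inv_mem hcY) hDY))
  have hω₀inv : q c * q ω₀ * (q c)⁻¹ = (q ω₀)⁻¹ := by
    rw [hω₀, map_pow, ← conj_pow, hinvD, inv_pow]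
  have hω₀odd : Odd (orderOf ω₀) := by
    rw [hω₀, orderOf_pow, hab, Nat.gcd_eq_right (dvd_mul_right _ _),
      Nat.mul_div_cancel_left _ (Nat.two_pow_pos a)]
    exact hb
  -- a power of prime power order
  have hex : ∃ N, ∃ k : ℕ, ω₀ ^ k ∉ Y ∧ orderOf (ω₀ ^ k) = N :=
    ⟨_, 1, by rwa [pow_one], rfl⟩
  obtain ⟨k, hkY, hkN⟩ := Nat.find_spec hex
  set N := Nat.find hex with hNdef
  set ω := ω₀ ^ k with hω
  have hωodd : Odd N := by
    rw [← hkN]
    exact Odd.of_dvd_nat hω₀odd (orderOf_pow_dvd k)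
  have hN1 : N ≠ 1 := fun e => hkY (by
    rw [orderOf_eq_one_iff.1 (hkN.trans e)]; exact one_mem _)
  obtain ⟨r, hr, hrN⟩ := Nat.exists_prime_and_dvd hN1
  haveI : Fact r.Prime := ⟨hr⟩
  have hr2 : r ≠ 2 := fun e => by
    obtain ⟨w, hw⟩ := hωodd
    obtain ⟨v, hv⟩ := e ▸ hrN
    omega
  have hN0 : N ≠ 0 := by
    obtain ⟨w, hw⟩ := hωodd
    omega
  obtain ⟨e, b', hb', hNe⟩ := Nat.exists_eq_pow_mul_and_not_dvd hN0 r hr.ne_one
  have hb1 : b' = 1 := by
    by_contra hne
    have he0 : e ≠ 0 := fun e0 => by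
      rw [e0, pow_zero, one_mul] at hNe
      exact hb' (hNe ▸ hrN)
    have hb0 : 0 < b' := Nat.pos_of_ne_zero fun e0 => hN0 (by rw [hNe, e0, mul_zero])
    have hre : 1 < r ^ e := Nat.one_lt_pow he0 hr.one_lt
    have hlt : ∀ d, d ∣ N → 1 < d → ω ^ d ∈ Y := by
      intro d hd hd1
      by_contra hdY
      have h1 : orderOf (ω ^ d) = N / d := by
        rw [orderOf_pow, hkN, Nat.gcd_eq_right hd]
      have h2 : Nat.find hex ≤ N / d :=
        Nat.find_min' hex ⟨k * d, by rwa [pow_mul], by rw [pow_mul]; exact h1⟩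
      have h3 := Nat.div_lt_self (Nat.pos_of_ne_zero hN0) hd1
      rw [← hNdef] at h2
      omega
    obtain ⟨u, w, huw⟩ : IsCoprime ((r ^ e : ℕ) : ℤ) (b' : ℤ) :=
      Nat.isCoprime_iff_coprime.2 (((Nat.Prime.coprime_iff_not_dvd hr).2 hb').pow_left e)
    refine hkY ?_
    rw [← zpow_one ω, ← huw, zpow_add, mul_comm u, mul_comm w, zpow_mul, zpow_mul, zpow_natCast,
      zpow_natCast]
    exact mul_mem (zpow_mem (hlt _ ⟨b', hNe⟩ hre) u)
      (zpow_mem (hlt _ ⟨r ^ e, by rw [hNe, mul_comm]⟩ (by omega)) w)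
  rw [hb1, mul_one] at hNe
  have hωinv : q c * q ω * (q c)⁻¹ = (q ω)⁻¹ := by
    rw [hω, map_pow, ← conj_pow, hω₀inv, inv_pow]
  -- conjugacy of Sylow subgroups
  set ω' := c * ω * c⁻¹ with hω'
  set H := I ⊔ Subgroup.zpowers ω with hH
  have hω'H : ω' ∈ H := by
    have h1 : ω * ω' ∈ I := by
      rw [← hq, map_mul, hω', map_mul, map_mul, map_inv, hωinv, mul_inv_cancel]
    rw [← inv_mul_cancel_left ω ω']
    exact mul_mem (inv_mem (Subgroup.mem_sup_right (Subgroup.mem_zpowers ω)))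
      (Subgroup.mem_sup_left h1)
  have hordω' : orderOf ω' = orderOf ω := by
    rw [hω', ← MulAut.conj_apply, MulEquiv.orderOf_eq]
  have hidx : ((Subgroup.zpowers ω).subgroupOf H).index ∣ Nat.card I := by
    have hcard : Nat.card H * Nat.card ↥(I ⊓ Subgroup.zpowers ω) =
        Nat.card I * Nat.card (Subgroup.zpowers ω) := by
      have h1 := Subgroup.card_mul_index (I.subgroupOf H)
      have h2 := Subgroup.card_mul_index (I.subgroupOf (Subgroup.zpowers ω))
      rw [Nat.card_congr (Subgroup.subgroupOfEquivOfLe (le_sup_left : I ≤ H)).toEquiv] at h1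
      have h3 : I.relIndex H = I.relIndex (Subgroup.zpowers ω) := by
        rw [hH, sup_comm]; exact Subgroup.relIndex_sup_right _ _
      have h4 : Nat.card (I.subgroupOf (Subgroup.zpowers ω)) = Nat.card ↥(I ⊓ Subgroup.zpowers ω) := by
        rw [← Subgroup.inf_subgroupOf_right]
        exact Nat.card_congr (Subgroup.subgroupOfEquivOfLe inf_le_right).toEquiv
      rw [← h1, ← h2, h4]
      rw [show (I.subgroupOf H).index = (I.subgroupOf (Subgroup.zpowers ω)).index from h3]
      ring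
    have h5 := Subgroup.card_mul_index ((Subgroup.zpowers ω).subgroupOf H)
    rw [Nat.card_congr (Subgroup.subgroupOfEquivOfLe (le_sup_right : Subgroup.zpowers ω ≤ H)).toEquiv]
      at h5
    rw [← h5] at hcard
    refine ⟨Nat.card ↥(I ⊓ Subgroup.zpowers ω), ?_⟩
    exact (Nat.eq_of_mul_eq_mul_left (Nat.card_pos (α := Subgroup.zpowers ω))
      (by rw [← mul_assoc, hcard, mul_comm])).symm
  have hidx' : ¬ r ∣ ((Subgroup.zpowers ω).subgroupOf H).index := fun hd => by
    obtain ⟨v, hv⟩ := IsPGroup.iff_card.1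
      ((h.p2.to_subgroup P).of_surjective (MulAut.conj : P →* MulAut P).rangeRestrict
        (MonoidHom.rangeRestrict_surjective _) : IsPGroup 2 I)
    have h1 := hd.trans hidx
    rw [hv] at h1
    exact hr2 ((Nat.prime_dvd_prime_iff_eq hr Nat.prime_two).1 (hr.dvd_of_dvd_pow h1))
  have hP1 : IsPGroup r ((Subgroup.zpowers ω).subgroupOf H) :=
    IsPGroup.of_card (n := e) (by
      rw [Nat.card_congr (Subgroup.subgroupOfEquivOfLe (le_sup_right : Subgroup.zpowers ω ≤ H)).toEquiv,
        Nat.card_zpowers, hkN, hNe])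
  let P1 : Sylow r H := hP1.toSylow hidx'
  have hω'le : Subgroup.zpowers ω' ≤ H := Subgroup.zpowers_le.2 hω'H
  have hP2 : IsPGroup r ((Subgroup.zpowers ω').subgroupOf H) :=
    IsPGroup.of_card (n := e) (by
      rw [Nat.card_congr (Subgroup.subgroupOfEquivOfLe hω'le).toEquiv, Nat.card_zpowers, hordω', hkN,
        hNe])
  obtain ⟨Q, hQ⟩ := hP2.exists_le_sylow
  obtain ⟨⟨hh, hhH⟩, hhQ⟩ := MulAction.exists_smul_eq H Q P1
  have hconj : hh * ω' * hh⁻¹ ∈ Subgroup.zpowers ω := by
    have h1 : (MulAut.conj (⟨hh, hhH⟩ : H)) ⟨ω', hω'H⟩ ∈ (P1 : Subgroup H) := by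
      rw [← hhQ, Sylow.coe_subgroup_smul]
      exact ⟨⟨ω', hω'H⟩, hQ (Subgroup.mem_subgroupOf.2 (Subgroup.mem_zpowers ω')), rfl⟩
    exact Subgroup.mem_subgroupOf.1 h1
  obtain ⟨i0, hi0, w0, hw0, hsplit⟩ := Subgroup.mem_sup_of_normal_left.1
    (show hh⁻¹ ∈ I ⊔ Subgroup.zpowers ω from inv_mem hhH)
  -- `hh = w0⁻¹ i0⁻¹`
  have hconj2 : i0⁻¹ * ω' * i0⁻¹⁻¹ ∈ Subgroup.zpowers ω := by
    have h1 := mul_mem (mul_mem hw0 hconj) (inv_mem hw0)
    rwa [show w0 * (hh * ω' * hh⁻¹) * w0⁻¹ = i0⁻¹ * ω' * i0⁻¹⁻¹ by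
      rw [← inv_inv hh, ← hsplit]; group] at h1
  obtain ⟨⟨p, hp⟩, hpc⟩ := inv_mem hi0
  obtain ⟨l, hl⟩ := hconj2
  change ω ^ l = _ at hl
  -- the corrected element
  have hp' : p ∈ Subgroup.normalizer (P : Set T) := Subgroup.le_normalizer hp
  let n : Subgroup.normalizer (P : Set T) := ⟨p, hp'⟩ * ⟨s, hs⟩
  have hn : P.normalizerMonoidHom n = i0⁻¹ * c := by
    rw [map_mul, ← hpc, hc]
    congr 1
    exact MulEquiv.ext fun z => Subtype.ext rfl
  have hωl : ω ^ l = ω⁻¹ := by
    have h1 : ω ^ (l + 1) ∈ I := by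
      rw [← hq, zpow_add_one, map_mul, hl, map_mul, map_mul, map_inv q i0⁻¹, map_inv,
        (hq i0).2 hi0, inv_one, one_mul, inv_one, mul_one, hω', map_mul, map_mul, map_inv, hωinv,
        inv_mul_cancel]
    have h2 : orderOf (ω ^ (l + 1)) = 1 := by
      obtain ⟨v, hv⟩ := IsPGroup.iff_orderOf.1
        ((h.p2.to_subgroup P).of_surjective (MulAut.conj : P →* MulAut P).rangeRestrict
          (MonoidHom.rangeRestrict_surjective _) : IsPGroup 2 I) ⟨_, h1⟩
      rw [Subgroup.orderOf_mk] at hv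
      refine Nat.eq_one_of_dvd_coprimes ?_ (dvd_refl _)
        (orderOf_dvd_of_mem_zpowers (Subgroup.zpow_mem_zpowers ω (l + 1)))
      rw [hv, hkN]
      exact ((Nat.coprime_two_left.2 hωodd).pow_left v)
    rw [orderOf_eq_one_iff, zpow_add_one] at h2
    exact eq_inv_of_mul_eq_one_left h2
  have hinv : P.normalizerMonoidHom n * ω * (P.normalizerMonoidHom n)⁻¹ = ω⁻¹ := by
    rw [← hωl, hl, hn, hω']
    group
  refine ⟨ω, n, ?_, pow_mem hω₀A _, hkY, ?_, hinv⟩
  · show p * s * s⁻¹ ∈ P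
    rwa [mul_inv_cancel_right]
  · refine pow_three_eq_one (h.p2.to_subgroup P) (E.index_frattini_le h)
      (hkN.symm ▸ hωodd) hinv fun z => ?_
    have hnn : (n : T) * n ∈ P := by
      show p * s * (p * s) ∈ P
      rw [show p * s * (p * s) = p * (s * p * s⁻¹) * (s * s) by group]
      exact mul_mem (mul_mem hp ((Subgroup.mem_normalizer_iff.1 hs p).1 hp)) hs2
    have e1 : P.normalizerMonoidHom n (P.normalizerMonoidHom n z) * z⁻¹ =
        ⁅(⟨(n : T) * n, hnn⟩ : P), z⁆ := Subtype.ext (by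
      show (n : T) * ((n : T) * z * (n : T)⁻¹) * (n : T)⁻¹ * (z : T)⁻¹ =
        (n : T) * n * z * ((n : T) * n)⁻¹ * (z : T)⁻¹
      group)
    rw [e1]
    exact Solvable.commutator_le_frattini (h.p2.to_subgroup P)
      (Subgroup.commutator_mem_commutator (Subgroup.mem_top _) (Subgroup.mem_top _))

/-! ### From a fusion system -/

section fusion

universe u

variable {Ω : Type u} [Group Ω] {S : Subgroup Ω} [Finite S] {F : FusionSystem S} {x y : S}

/-- An essential subgroup of the system gives the data. -/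
theorem exists_ess (h : Std x y) (hF : F.IsSaturated 2) {P : Subgroup Ω} (hP : F.IsEssential 2 P) :
    ∃ (𝒜 Y : Subgroup (MulAut (P.subgroupOf S))), Ess (P.subgroupOf S) 𝒜 Y := by
  classical
  haveI : Fact (Nat.Prime 2) := ⟨Nat.prime_two⟩
  have hPS : P ≤ S := hP.1.1
  haveI := finite_of_le hPS
  obtain ⟨hQa, -⟩ := automized_receptive h.p2 hF hP.2.1
  obtain ⟨R, hR⟩ := hQa.2
  obtain ⟨hnorm, E₁, hE₁⟩ := hP.2.2
  let Out₀ := F.autGroup P ⧸ (Inn P).subgroupOf (F.autGroup P)
  let mkQ : F.autGroup P →* Out₀ := QuotientGroup.mk' _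
  obtain ⟨R₀, -, hR₀Y, -⟩ := EvenType.exists_sylow_le_of_isStronglyPEmbedded hE₁
  obtain ⟨a, ha⟩ := Fusion.exists_conj_mem_sylow R₀ (R.isPGroup'.map mkQ)
  let h₀ : F.autGroup P →* Out₀ := (MulAut.conj a).toMonoidHom.comp mkQ
  let e : P.subgroupOf S ≃* P := Subgroup.subgroupOfEquivOfLe hPS
  let Φe : MulAut (P.subgroupOf S) ≃* MulAut P := MulAut.congr e
  refine ⟨(F.autGroup P).comap Φe.toMonoidHom,
    ((E₁.comap h₀).map (F.autGroup P).subtype).comap Φe.toMonoidHom, ?_⟩
  have hmemY : ∀ {β : MulAut (P.subgroupOf S)},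
      β ∈ ((E₁.comap h₀).map (F.autGroup P).subtype).comap Φe.toMonoidHom ↔
        ∃ hm : Φe β ∈ F.autGroup P, h₀ ⟨Φe β, hm⟩ ∈ E₁ := by
    intro β
    constructor
    · rintro ⟨⟨w, hw⟩, hwE, hwe⟩
      change w = Φe β at hwe
      subst hwe
      exact ⟨hw, hwE⟩
    · rintro ⟨hm, hE⟩
      exact ⟨⟨Φe β, hm⟩, hE, rfl⟩
  have hinn : ∀ β : MulAut (P.subgroupOf S),
      Φe β ∈ Inn P ↔ β ∈ (MulAut.conj : P.subgroupOf S →* _).range := by
    intro β
    constructor
    · rintro ⟨q, hq⟩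
      refine ⟨e.symm q, Φe.injective ?_⟩
      rw [← hq]
      refine MulEquiv.ext fun z => ?_
      show e (e.symm q * e.symm z * (e.symm q)⁻¹) = q * z * q⁻¹
      rw [map_mul, map_mul, map_inv, e.apply_symm_apply, e.apply_symm_apply]
    · rintro ⟨q, rfl⟩
      refine ⟨e q, MulEquiv.ext fun z => ?_⟩
      show e q * z * (e q)⁻¹ = e (q * e.symm z * q⁻¹)
      rw [map_mul, map_mul, map_inv, e.apply_symm_apply]
  have hne : P ≠ S := by
    rintro rfl
    have hA : F.autGroup P = Inn P :=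
      FusionSub.autGroup_eq_Inn_of_isPGroup h.p2 hF h.isPGroup_mulAut
    obtain ⟨α, -, hout⟩ := FusionEssential.exists_pElement_not_inn hP
    exact hout (hA ▸ α.2)
  refine ⟨fun htop => hne (le_antisymm hPS fun z hz => ?_), fun g hg => ?_, fun n => ?_,
    fun β hβ => (hmemY.1 hβ).1, ?_, ?_, ?_⟩
  · exact (htop ▸ Subgroup.mem_top (⟨z, hz⟩ : S) : (⟨z, hz⟩ : S) ∈ P.subgroupOf S)
  · exact centralizerIn_le_of_centric hP.1 ⟨g.2, fun q hq =>
      (congrArg Subtype.val (hg ⟨q, hPS hq⟩ (Subgroup.mem_subgroupOf.2 hq))).symm⟩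
  · have hind : Φe ((P.subgroupOf S).normalizerMonoidHom n) ∈ autInducedBy S P := by
      refine mem_autInducedBy_iff.2 ⟨((n : S) : Ω), (n : S).2, Subgroup.mem_normalizer_iff.2
        fun z => ?_, fun z => rfl⟩
      have hn := Subgroup.mem_normalizer_iff.1 n.2
      constructor
      · intro hz
        exact Subgroup.mem_subgroupOf.1 ((hn ⟨z, hPS hz⟩).1 (Subgroup.mem_subgroupOf.2 hz))
      · intro hz
        have hzS : z ∈ S := by
          have h1 := S.mul_mem (S.mul_mem (S.inv_mem (n : S).2) (hPS hz)) (n : S).2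
          simpa [mul_assoc] using h1
        exact Subgroup.mem_subgroupOf.1 ((hn ⟨z, hzS⟩).2 (Subgroup.mem_subgroupOf.2 hz))
    refine hmemY.2 ⟨autInducedBy_le_autGroup hPS hind, hR₀Y ?_⟩
    exact ha _ ⟨_, hR.symm ▸ hind, rfl⟩
  · obtain ⟨w, hw⟩ : ∃ w : F.autGroup P, h₀ w ∉ E₁ := by
      by_contra hc
      push Not at hc
      refine hE₁.2.1 (eq_top_iff.2 fun z _ => ?_)
      obtain ⟨w, hw⟩ := QuotientGroup.mk'_surjective _ (a⁻¹ * z * a)
      have h1 := hc w
      rwa [show h₀ w = z by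
        show a * mkQ w * a⁻¹ = z
        rw [show mkQ w = a⁻¹ * z * a from hw]; group] at h1
    refine ⟨Φe.symm w, ?_, fun hY => ?_⟩
    · show Φe (Φe.symm (w : MulAut P)) ∈ F.autGroup P
      rw [Φe.apply_symm_apply]; exact w.2
    · obtain ⟨hm, hE⟩ := hmemY.1 hY
      refine hw ?_
      have e1 : (⟨Φe (Φe.symm (w : MulAut P)), hm⟩ : F.autGroup P) = w :=
        Subtype.ext (Φe.apply_symm_apply _)
      rwa [e1] at hE
  · intro g hg β hβ hout ⟨k, hk⟩ hgβ
    obtain ⟨hm, hE⟩ := hmemY.1 hβ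
    obtain ⟨hm', hE'⟩ := hmemY.1 hgβ
    refine hmemY.2 ⟨hg, ?_⟩
    have hne1 : h₀ ⟨Φe β, hm⟩ ≠ 1 := by
      intro h1
      refine hout ((hinn β).1 ?_)
      have h2 : mkQ ⟨Φe β, hm⟩ = 1 := (MulAut.conj a).map_eq_one_iff.1 h1
      exact Subgroup.mem_subgroupOf.1 ((QuotientGroup.eq_one_iff (⟨Φe β, hm⟩ : F.autGroup P)).1 h2)
    refine FusionSub.mem_of_conj_le_stronglyPEmbedded hE₁ (X := Subgroup.zpowers (h₀ ⟨Φe β, hm⟩))
      (Subgroup.zpowers_le.2 hE) ?_ (by rwa [ne_eq, Subgroup.zpowers_eq_bot]) ?_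
    · refine isPGroup_zpowers_of_pow_eq_one (k := k) ?_
      rw [← map_pow, show (⟨Φe β, hm⟩ : F.autGroup P) ^ 2 ^ k = 1 from Subtype.ext (by
        show (Φe β) ^ 2 ^ k = 1
        rw [← map_pow, hk, map_one]), map_one]
    · rintro _ ⟨l, rfl⟩
      show h₀ ⟨Φe g, hg⟩ * h₀ ⟨Φe β, hm⟩ ^ l * (h₀ ⟨Φe g, hg⟩)⁻¹ ∈ E₁
      rw [← conj_zpow]
      refine zpow_mem ?_ l
      rw [← map_inv, ← map_mul, ← map_mul]
      convert hE' using 2
      exact Subtype.ext (by simp)
  · intro N hN hnorm' hNp β hβ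
    let K : Subgroup (F.autGroup P) := (N.map Φe.toMonoidHom).subgroupOf (F.autGroup P)
    have hK : K.Normal := by
      refine ⟨fun z hz w => ?_⟩
      obtain ⟨β', hβ', hz'⟩ := hz
      refine ⟨Φe.symm w * β' * (Φe.symm w)⁻¹, hnorm' _ ?_ β' hβ', ?_⟩
      · show Φe (Φe.symm (w : MulAut P)) ∈ F.autGroup P
        rw [Φe.apply_symm_apply]; exact w.2
      · have hz'' : Φe β' = (z : MulAut P) := hz'
        show Φe (Φe.symm (w : MulAut P) * β' * (Φe.symm (w : MulAut P))⁻¹) = w * z * (w : MulAut P)⁻¹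
        rw [map_mul, map_mul, map_inv, Φe.apply_symm_apply, hz'']
    have hKp : IsPGroup 2 K := (hNp.map Φe.toMonoidHom).comap_subtype
    exact (hinn β).1 (FusionEssential.map_le_Inn hP hK hKp
      ⟨⟨Φe β, hN hβ⟩, ⟨β, hβ, rfl⟩, rfl⟩)

/-- A system other than the inner one has an essential subgroup. -/
theorem exists_essential (h : Std x y) (hF : F.IsSaturated 2)
    (hne : ¬ ∀ P : Subgroup Ω, F.Hom P = (innerFusionSystem S).Hom P) :
    ∃ P, F.IsEssential 2 P := by
  haveI : Fact (Nat.Prime 2) := ⟨Nat.prime_two⟩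
  by_contra hc
  push Not at hc
  refine hne fun P => Set.Subset.antisymm ?_ ?_
  · refine le_of_essential h.p2 hF (E := innerFusionSystem S) (fun Q hQ => ?_) P
    rcases hQ with rfl | hQ
    · rw [FusionSub.autGroup_eq_Inn_of_isPGroup h.p2 hF h.isPGroup_mulAut]
      exact Inn_le_autGroup le_rfl
    · exact absurd hQ (hc Q)
  · rintro φ ⟨hPS, g, hg, hφ⟩
    rw [show φ = conjHom P g from MonoidHom.ext hφ]
    exact F.conj_mem hPS hg

end fusion

end CfsgLib.Bicyclic
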