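import Cfsg.Agent.Bicyclic.Cyclic
import Mathlib.GroupTheory.SemidirectProduct
import Mathlib.Algebra.Group.TypeTags.Finite
import Mathlib.Data.Int.Cast.Lemmas

/-!
# Cyclic extensions and homomorphisms out of a group with given data
-/

set_option autoImplicit false
set_option linter.style.haveILetI false
set_option linter.unusedSectionVars false

namespace CfsgLib.Bicyclic

/-- The extension of `L` by a cyclic group acting through `α`, with `A ^ m = g₀`. -/
theorem exists_cyclicExtension {L : Type} [Group L] [Finite L] (α : MulAut L) (g₀ : L) {m : ℕ}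
    (hm : 0 < m) (hfix : α g₀ = g₀) (hpow : ∀ l, (α ^ m) l = g₀⁻¹ * l * g₀) :
    ∃ (G : Type) (_ : Group G) (_ : Finite G) (j : L →* G) (A : G), Function.Injective j ∧
      (∀ l, A⁻¹ * j l * A = j (α l)) ∧ A ^ m = j g₀ ∧ Nat.card G = Nat.card L * m ∧
      ∀ r : ℕ, A ^ r ∈ j.range → m ∣ r := by
  classical
  let φ : Multiplicative ℤ →* MulAut L := zpowersHom (MulAut L) α⁻¹
  let one' : Multiplicative ℤ := Multiplicative.ofAdd 1
  have hφ : φ one' = α⁻¹ := by simp [φ, one', zpowersHom_apply]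
  let A₀ : L ⋊[φ] Multiplicative ℤ := SemidirectProduct.inr one'
  have hA₀ : ∀ l : L, A₀⁻¹ * SemidirectProduct.inl l * A₀ = SemidirectProduct.inl (α l) := by
    intro l
    have h := SemidirectProduct.inl_aut (φ := φ) one'⁻¹ l
    rw [map_inv, hφ, inv_inv, inv_inv] at h
    simpa [A₀] using h.symm
  have hA₀p : ∀ (k : ℕ) (l : L),
      (A₀ ^ k)⁻¹ * SemidirectProduct.inl l * A₀ ^ k = SemidirectProduct.inl ((α ^ k) l) := by
    intro k
    induction k with
    | zero => simp
    | succ k ih =>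
      intro l
      rw [pow_succ, pow_succ', MulAut.mul_apply, ← hA₀, ← ih]
      group
  -- the central element
  let z : L ⋊[φ] Multiplicative ℤ := SemidirectProduct.inl g₀⁻¹ * A₀ ^ m
  have hzA : Commute z A₀ := by
    refine Commute.mul_left ?_ ((Commute.refl A₀).pow_left m)
    have h : A₀⁻¹ * SemidirectProduct.inl g₀⁻¹ * A₀ = SemidirectProduct.inl g₀⁻¹ := by
      rw [hA₀, map_inv, hfix]
    rw [mul_assoc, inv_mul_eq_iff_eq_mul] at h
    exact h
  have hzl : ∀ l : L, Commute z (SemidirectProduct.inl l) := by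
    intro l
    have h := hA₀p m (g₀ * l * g₀⁻¹)
    rw [hpow, mul_assoc, inv_mul_eq_iff_eq_mul,
      show g₀⁻¹ * (g₀ * l * g₀⁻¹) * g₀ = l by group] at h
    show SemidirectProduct.inl g₀⁻¹ * A₀ ^ m * SemidirectProduct.inl l =
      SemidirectProduct.inl l * (SemidirectProduct.inl g₀⁻¹ * A₀ ^ m)
    rw [mul_assoc, ← h, ← mul_assoc, ← mul_assoc, ← map_mul, ← map_mul]
    congr 2; group
  have hzall : ∀ g, Commute z g := by
    intro g
    rw [← SemidirectProduct.inl_left_mul_inr_right g]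
    refine (hzl _).mul_right ?_
    rw [show (SemidirectProduct.inr g.right : L ⋊[φ] Multiplicative ℤ) =
      A₀ ^ (Multiplicative.toAdd g.right) by
        rw [← map_zpow]; congr 1
        exact Multiplicative.toAdd.injective (by simp [one'])]
    exact hzA.zpow_right _
  haveI hN : (Subgroup.zpowers z).Normal := ⟨fun n hn g => by
    obtain ⟨k, rfl⟩ := hn
    show g * z ^ k * g⁻¹ ∈ _
    rw [((hzall g).zpow_left k).symm.eq, mul_inv_cancel_right]
    exact ⟨k, rfl⟩⟩
  let π := QuotientGroup.mk' (Subgroup.zpowers z)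
  let j : L →* (L ⋊[φ] Multiplicative ℤ) ⧸ Subgroup.zpowers z := π.comp SemidirectProduct.inl
  let A := π A₀
  have hrA : ∀ k : ℤ, Multiplicative.toAdd (A₀ ^ k).right = k := fun k => by
    rw [show (A₀ ^ k).right = one' ^ k from map_zpow SemidirectProduct.rightHom A₀ k]
    simp [one']
  have hrz : ∀ k : ℤ, Multiplicative.toAdd (z ^ k).right = m * k := fun k => by
    rw [show (z ^ k).right = z.right ^ k from map_zpow SemidirectProduct.rightHom z k, toAdd_zpow,
      show z.right = (SemidirectProduct.inl g₀⁻¹ : L ⋊[φ] Multiplicative ℤ).right * (A₀ ^ (m : ℤ)).right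
        by rw [zpow_natCast]; rfl,
      SemidirectProduct.right_inl, one_mul, hrA, smul_eq_mul, mul_comm]
  have hker : ∀ (l : L) (r : ℤ), π (SemidirectProduct.inl l * A₀ ^ r) = 1 →
      (m : ℤ) ∣ r ∧ (r = 0 → l = 1) := by
    intro l r h
    obtain ⟨k, hk⟩ := (QuotientGroup.eq_one_iff _).1 h
    change z ^ k = _ at hk
    have h1 := congrArg (fun x => Multiplicative.toAdd x.right) hk
    simp only [SemidirectProduct.mul_right, SemidirectProduct.right_inl, one_mul, hrz, hrA] at h1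
    refine ⟨⟨k, h1.symm⟩, fun hr => ?_⟩
    subst hr
    have hk0 : k = 0 := by
      rcases mul_eq_zero.1 h1 with h2 | h2
      · omega
      · exact h2
    rw [hk0, zpow_zero, zpow_zero, mul_one] at hk
    exact SemidirectProduct.inl_injective (φ := φ) (by rw [map_one]; exact hk.symm)
  have hjinj : Function.Injective j := (injective_iff_map_eq_one j).2 fun l hl =>
    (hker l 0 (by simpa [j] using hl)).2 rfl
  have hAm : A ^ m = j g₀ := by
    show (π A₀) ^ m = π (SemidirectProduct.inl g₀)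
    rw [← map_pow]
    refine QuotientGroup.eq.2 ⟨-1, ?_⟩
    show z ^ (-1 : ℤ) = (A₀ ^ m)⁻¹ * SemidirectProduct.inl g₀
    rw [zpow_neg_one, show z⁻¹ = (A₀ ^ m)⁻¹ * (SemidirectProduct.inl g₀⁻¹)⁻¹ from mul_inv_rev _ _,
      ← map_inv, inv_inv]
  let F : L × Fin m → (L ⋊[φ] Multiplicative ℤ) ⧸ Subgroup.zpowers z := fun p => j p.1 * A ^ (p.2 : ℕ)
  have hF : Function.Bijective F := by
    refine ⟨?_, ?_⟩
    · rintro ⟨l, r⟩ ⟨l', r'⟩ h
      change j l * A ^ (r : ℕ) = j l' * A ^ (r' : ℕ) at h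
      have h1 : π (SemidirectProduct.inl (l'⁻¹ * l) * A₀ ^ ((r : ℤ) - r')) = 1 := by
        rw [map_mul, map_zpow, zpow_sub, zpow_natCast, zpow_natCast]
        show j (l'⁻¹ * l) * (A ^ (r : ℕ) * (A ^ (r' : ℕ))⁻¹) = 1
        rw [map_mul, map_inv, ← mul_assoc, mul_assoc (j l')⁻¹, h, inv_mul_cancel_left,
          mul_inv_cancel]
      obtain ⟨hd, hl⟩ := hker _ _ h1
      have hrr : (r : ℕ) = r' := by
        have := Int.eq_zero_of_dvd_of_natAbs_lt_natAbs hd (by omega)
        omega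
      exact Prod.ext (inv_mul_eq_one.1 (hl (by omega))).symm (Fin.ext hrr)
    · intro g
      obtain ⟨g, rfl⟩ := QuotientGroup.mk'_surjective (Subgroup.zpowers z) g
      obtain ⟨k, hk⟩ : ∃ k : ℤ, (SemidirectProduct.inr g.right : L ⋊[φ] Multiplicative ℤ) = A₀ ^ k :=
        ⟨Multiplicative.toAdd g.right, by
          rw [← map_zpow]; congr 1
          exact Multiplicative.toAdd.injective (by simp [one'])⟩
      have hmz : (0 : ℤ) < m := by exact_mod_cast hm
      have hr0 := Int.emod_nonneg k hmz.ne'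
      have hr1 := Int.emod_lt_of_pos k hmz
      refine ⟨(g.left * g₀ ^ (k / m), ⟨(k % m).toNat, by omega⟩), ?_⟩
      have h1 : π g = j g.left * A ^ k := by
        conv_lhs => rw [← SemidirectProduct.inl_left_mul_inr_right g, hk]
        rw [map_mul, map_zpow]; rfl
      show j (g.left * g₀ ^ (k / m)) * A ^ (k % m).toNat = π g
      rw [h1, map_mul, map_zpow, ← hAm, mul_assoc]
      congr 1
      rw [← zpow_natCast, ← zpow_natCast, Int.toNat_of_nonneg hr0, ← zpow_mul, ← zpow_add,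
        Int.mul_ediv_add_emod]
  haveI : Finite ((L ⋊[φ] Multiplicative ℤ) ⧸ Subgroup.zpowers z) :=
    Finite.of_surjective F hF.2
  refine ⟨_, inferInstance, inferInstance, j, A, hjinj, fun l => ?_, hAm, ?_, ?_⟩
  · show (π A₀)⁻¹ * π (SemidirectProduct.inl l) * π A₀ = π (SemidirectProduct.inl (α l))
    rw [← map_inv, ← map_mul, ← map_mul, hA₀]
  · rw [← Nat.card_congr (Equiv.ofBijective F hF), Nat.card_prod, Nat.card_fin]
  · rintro r ⟨l, hl⟩
    have h1 : π (SemidirectProduct.inl l⁻¹ * A₀ ^ (r : ℤ)) = 1 := by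
      rw [map_mul, map_zpow, zpow_natCast]
      show j l⁻¹ * A ^ r = 1
      rw [map_inv, hl, inv_mul_cancel]
    exact Int.natCast_dvd_natCast.1 (hker _ _ h1).1

/-- The relations shared by a `Data` group and its models. -/
structure Rels {H : Type*} [Group H] (C B A : H) (n m e : ℕ) (u i : ℤ) : Prop where
  pow : C ^ 2 ^ n = 1
  bc : B * C * B⁻¹ = C⁻¹
  ac : A⁻¹ * C * A = C ^ u
  ab : A⁻¹ * B * A = B * C
  am : A ^ m = C ^ i
  bb : B * B = C ^ e

section

variable {H : Type*} [Group H] {C B A : H} {n m e : ℕ} {u i : ℤ}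

/-- The normal form `A ^ r B ^ ε C ^ k`. -/
def NF (C B A : H) (m : ℕ) : Set H :=
  {h | ∃ r < m, ∃ k : ℤ, h = A ^ r * C ^ k ∨ h = A ^ r * (B * C ^ k)}

theorem Rels.mul_mem_nf (R : Rels C B A n m e u i) (hm : 0 < m) {x : H} (hx : x ∈ NF C B A m) :
    x * C ∈ NF C B A m ∧ x * B ∈ NF C B A m ∧ x * A ∈ NF C B A m := by
  have hcb : ∀ k : ℤ, C ^ k * B = B * C ^ (-k) := fun k => by
    have h := conj_zpow (i := -k) (a := B) (b := C)
    rw [R.bc, zpow_neg, inv_zpow, inv_inv] at h
    rw [h, inv_mul_cancel_right]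
  have hca : ∀ k : ℤ, C ^ k * A = A * C ^ (u * k) := fun k => by
    have h := conj_zpow (i := k) (a := A⁻¹) (b := C)
    rw [inv_inv, R.ac, ← zpow_mul] at h
    rw [h, mul_assoc, mul_inv_cancel_left]
  have hba : B * A = A * (B * C) := by
    rw [← R.ab, mul_assoc, mul_inv_cancel_left]
  obtain ⟨r, hr, k, rfl | rfl⟩ := hx
  · refine ⟨⟨r, hr, k + 1, Or.inl (by rw [zpow_add_one, mul_assoc])⟩,
      ⟨r, hr, -k, Or.inr (by rw [mul_assoc, hcb])⟩, ?_⟩
    rw [mul_assoc, hca, ← mul_assoc, ← pow_succ]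
    rcases Nat.lt_or_ge (r + 1) m with h | h
    · exact ⟨r + 1, h, u * k, Or.inl rfl⟩
    · rw [show r + 1 = m by omega, R.am, ← zpow_add]
      exact ⟨0, hm, _, Or.inl (by rw [pow_zero, one_mul])⟩
  · refine ⟨⟨r, hr, k + 1, Or.inr (by rw [zpow_add_one, mul_assoc, mul_assoc])⟩,
      ⟨r, hr, (e : ℤ) + -k, Or.inl (by
        rw [mul_assoc (A ^ r), mul_assoc B, hcb, ← mul_assoc B, R.bb, zpow_add, zpow_natCast])⟩, ?_⟩
    rw [mul_assoc (A ^ r), mul_assoc B, hca, ← mul_assoc B, hba, mul_assoc A, ← mul_assoc (A ^ r),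
      ← pow_succ, mul_assoc B C, ← zpow_one_add]
    rcases Nat.lt_or_ge (r + 1) m with h | h
    · exact ⟨r + 1, h, 1 + u * k, Or.inr rfl⟩
    · rw [show r + 1 = m by omega, R.am, ← mul_assoc, hcb, mul_assoc, ← zpow_add]
      exact ⟨0, hm, _, Or.inr (by rw [pow_zero, one_mul])⟩

theorem Rels.closure_le_nf [Finite H] (R : Rels C B A n m e u i) (hm : 0 < m) {h : H}
    (hh : h ∈ Subgroup.closure {C, B, A}) : h ∈ NF C B A m := by
  let K : Subgroup H :=
    { carrier := {g | ∀ x ∈ NF C B A m, x * g ∈ NF C B A m}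
      one_mem' := fun x hx => by rwa [mul_one]
      mul_mem' := fun {a b} ha hb x hx => by rw [← mul_assoc]; exact hb _ (ha x hx)
      inv_mem' := fun {a} ha => by
        have hp : ∀ l : ℕ, ∀ x ∈ NF C B A m, x * a ^ l ∈ NF C B A m := by
          intro l
          induction l with
          | zero => exact fun x hx => by rwa [pow_zero, mul_one]
          | succ l ih => exact fun x hx => by rw [pow_succ, ← mul_assoc]; exact ha _ (ih x hx)
        intro x hx
        rw [show a⁻¹ = a ^ (orderOf a - 1) from inv_eq_of_mul_eq_one_right (by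
          rw [← pow_succ', Nat.sub_add_cancel (orderOf_pos a), pow_orderOf_eq_one])]
        exact hp _ x hx }
  have hle : Subgroup.closure {C, B, A} ≤ K := (Subgroup.closure_le K).2 (by
    rintro g (rfl | rfl | rfl) x hx
    · exact (R.mul_mem_nf hm hx).1
    · exact (R.mul_mem_nf hm hx).2.1
    · exact (R.mul_mem_nf hm hx).2.2)
  have h1 : (1 : H) ∈ NF C B A m := ⟨0, hm, 0, Or.inl (by simp)⟩
  simpa using hle hh 1 h1

theorem Rels.ncard_nf [Finite H] (R : Rels C B A n m e u i) :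
    (NF C B A m).ncard ≤ 2 ^ (n + 1) * m := by
  classical
  let f : Fin m × Bool × Subgroup.zpowers C → H := fun p =>
    A ^ (p.1 : ℕ) * (if p.2.1 then B * p.2.2 else p.2.2)
  have hsub : NF C B A m ⊆ Set.range f := by
    rintro h ⟨r, hr, k, rfl | rfl⟩
    · exact ⟨(⟨r, hr⟩, false, ⟨C ^ k, k, rfl⟩), rfl⟩
    · exact ⟨(⟨r, hr⟩, true, ⟨C ^ k, k, rfl⟩), rfl⟩
  refine (Set.ncard_le_ncard hsub).trans ?_
  refine (Finite.card_range_le f).trans ?_
  rw [Nat.card_prod, Nat.card_prod, Nat.card_eq_fintype_card, Fintype.card_fin,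
    show Nat.card Bool = 2 by simp, Nat.card_zpowers]
  have h := Nat.le_of_dvd (Nat.two_pow_pos n) (orderOf_dvd_of_pow_eq_one R.pow)
  calc m * (2 * orderOf C) ≤ m * (2 * 2 ^ n) := by gcongr
    _ = 2 ^ (n + 1) * m := by rw [pow_succ]; ring

end

/-- A group with the relations of `Data` receives a homomorphism. -/
theorem Data.exists_hom {T : Type*} [Group T] [Finite T] {c t a : T} {n v m e : ℕ} {u i : ℤ}
    (d : Data c t a n v m u i) (R : Rels c t a n m e u i) {G : Type*} [Group G] [Finite G]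
    {C B A : G} (R' : Rels C B A n m e u i) (hC : orderOf C = 2 ^ n)
    (hB : B ∉ Subgroup.zpowers C)
    (hA : ∀ r : ℕ, A ^ r ∈ Subgroup.closure {C, B} → m ∣ r) :
    ∃ f : T →* G, Function.Injective f ∧ f c = C ∧ f t = B ∧ f a = A := by
  obtain ⟨r0, hr0⟩ := d.mpos
  have hm : 0 < m := hr0 ▸ Nat.two_pow_pos r0
  let Γ : Subgroup (T × G) := Subgroup.closure {(c, C), (t, B), (a, A)}
  have RΓ : Rels (c, C) (t, B) (a, A) n m e u i :=
    ⟨Prod.ext R.pow R'.pow, Prod.ext R.bc R'.bc, Prod.ext R.ac R'.ac, Prod.ext R.ab R'.ab,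
      Prod.ext R.am R'.am, Prod.ext R.bb R'.bb⟩
  let p : Γ →* T := (MonoidHom.fst T G).comp Γ.subtype
  have hps : Function.Surjective p := by
    rw [← MonoidHom.range_eq_top, eq_top_iff, ← d.gen, Subgroup.closure_le]
    rintro g (rfl | rfl | rfl)
    · exact ⟨⟨(g, C), Subgroup.subset_closure (by simp)⟩, rfl⟩
    · exact ⟨⟨(g, B), Subgroup.subset_closure (by simp)⟩, rfl⟩
    · exact ⟨⟨(g, A), Subgroup.subset_closure (by simp)⟩, rfl⟩
  have hcard : Nat.card Γ ≤ Nat.card T := by
    rw [d.card]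
    refine le_trans ?_ RΓ.ncard_nf
    rw [← SetLike.coe_sort_coe, Nat.card_coe_set_eq]
    exact Set.ncard_le_ncard fun g hg => RΓ.closure_le_nf hm hg
  have hpb : Function.Bijective p :=
    hps.bijective_of_nat_card_le hcard
  let ε := MulEquiv.ofBijective p hpb
  let f : T →* G := ((MonoidHom.snd T G).comp Γ.subtype).comp ε.symm.toMonoidHom
  have hf : ∀ (g : T) (x : G), (g, x) ∈ Γ → f g = x := fun g x hx => by
    show ((ε.symm g : Γ) : T × G).2 = x
    rw [show ε.symm g = ⟨(g, x), hx⟩ from ε.symm_apply_eq.2 rfl]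
  have hfc := hf c C (Subgroup.subset_closure (by simp))
  have hft := hf t B (Subgroup.subset_closure (by simp))
  have hfa := hf a A (Subgroup.subset_closure (by simp))
  refine ⟨f, (injective_iff_map_eq_one f).2 fun g hg => ?_, hfc, hft, hfa⟩
  obtain ⟨r, hr, k, hk⟩ := R.closure_le_nf hm (show g ∈ Subgroup.closure {c, t, a} by
    rw [d.gen]; exact Subgroup.mem_top g)
  have hr' : r = 0 := by
    have hmem : A ^ r ∈ Subgroup.closure {C, B} := by
      have hC' : C ^ k ∈ Subgroup.closure {C, B} := zpow_mem (Subgroup.subset_closure (by simp)) k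
      rcases hk with rfl | rfl <;>
        simp only [map_mul, map_pow, map_zpow, hfc, hft, hfa] at hg <;>
        rw [eq_inv_of_mul_eq_one_left hg]
      · exact inv_mem hC'
      · exact inv_mem (mul_mem (Subgroup.subset_closure (by simp)) hC')
    exact Nat.eq_zero_of_dvd_of_lt (hA r hmem) hr
  subst hr'
  rcases hk with rfl | rfl <;>
    simp only [map_mul, map_zpow, hfc, hft, pow_zero, one_mul] at hg ⊢
  · rw [zpow_eq_one_iff_dvd hC] at hg
    exact (zpow_eq_one_iff_dvd d.order k).2 hg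
  · exact absurd ⟨-k, by
      show C ^ (-k) = B
      rw [eq_inv_of_mul_eq_one_left hg, zpow_neg]⟩ hB

end CfsgLib.Bicyclic
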