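import Cfsg.Agent.Bicyclic.Base
import Cfsg.Agent.FusionMetacyclic.Structure
import Cfsg.Agent.TwoGroupsQ.UniqueInvolution

/-!
# The maximal subgroups and the Frattini subgroup of a non-metacyclic bicyclic `2`-group
-/

set_option autoImplicit false
set_option linter.style.haveILetI false
set_option linter.unusedSectionVars false
set_option linter.unnecessarySeqFocus false

namespace CfsgLib.Bicyclic

open scoped commutatorElement

variable {T : Type*} [Group T]

theorem isMetacyclic_of_isCyclic {G : Type*} [Group G] (h : IsCyclic G) : Cfsg.IsMetacyclic G := by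
  obtain ⟨g, hg⟩ := h.exists_generator
  refine isMetacyclic_of_gen (N := (⊥ : Subgroup G)) inferInstance inferInstance g fun a => ?_
  obtain ⟨j, hj⟩ := Subgroup.mem_zpowers_iff.1 (hg a)
  exact ⟨j, by rw [hj, mul_inv_cancel]; exact one_mem _⟩

theorem isMetacyclic_of_le {R K : Subgroup T} (hR : Cfsg.IsMetacyclic R) (hK : K ≤ R) :
    Cfsg.IsMetacyclic K := by
  obtain ⟨N, hN, hNc, hQc⟩ := hR
  let f := Subgroup.inclusion hK
  have hf : Function.Injective f := Subgroup.inclusion_injective hK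
  refine ⟨N.comap f, inferInstance, ?_, ?_⟩
  · exact isCyclic_of_injective ((f.comp (N.comap f).subtype).codRestrict N fun x => x.2)
      fun x y h => Subtype.ext (hf (congrArg Subtype.val h))
  · refine isCyclic_of_injective (QuotientGroup.map (N.comap f) N f le_rfl) ?_
    rw [injective_iff_map_eq_one]
    intro x
    induction x using QuotientGroup.induction_on with
    | H y => exact fun h => (QuotientGroup.eq_one_iff y).2 ((QuotientGroup.eq_one_iff (f y)).1 h)

/-- Elementary abelian subgroups of metacyclic groups have order at most four. -/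
theorem card_le_four [Finite T] {R E : Subgroup T} (hR : Cfsg.IsMetacyclic R) (hE : E ≤ R)
    (hc : ∀ a ∈ E, ∀ b ∈ E, a * b = b * a) (he : ∀ a ∈ E, a ^ 2 = 1) : Nat.card E ≤ 4 := by
  haveI : Fact (Nat.Prime 2) := ⟨Nat.prime_two⟩
  have hp : IsPGroup 2 E := fun a => ⟨1, Subtype.ext (he a a.2)⟩
  have h := CfsgLib.FusionMetacyclic.index_frattini_le hp (isMetacyclic_of_le hR hE)
  have hbot : frattini E = ⊥ := eq_bot_iff.2 (CfsgLib.Solvable.frattini_le_of_elementary (p := 2)
    (by
      rw [commutator_def, Subgroup.commutator_le]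
      intro a _ b _
      rw [Subgroup.mem_bot, commutatorElement_eq_one_iff_mul_comm]
      exact Subtype.ext (hc a a.2 b b.2))
    fun a => Subgroup.mem_bot.2 (Subtype.ext (he a a.2)))
  rwa [hbot, Subgroup.index_bot] at h

variable [Finite T] {x y : T}

theorem Pair.sq_mem_frattini (h : Pair x y) (g : T) : g ^ 2 ∈ frattini T :=
  haveI : Fact (Nat.Prime 2) := ⟨Nat.prime_two⟩
  CfsgLib.Solvable.pow_mem_frattini h.p2 g

theorem Pair.zpow_even_mem (h : Pair x y) (g : T) {i : ℤ} (hi : Even i) : g ^ i ∈ frattini T := by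
  obtain ⟨m, rfl⟩ := hi
  rw [← two_mul, zpow_mul, zpow_ofNat]
  exact zpow_mem (h.sq_mem_frattini g) m

theorem Pair.commutator_le (h : Pair x y) : commutator T ≤ frattini T :=
  haveI : Fact (Nat.Prime 2) := ⟨Nat.prime_two⟩
  CfsgLib.Solvable.commutator_le_frattini h.p2

/-- The subgroups `Φ(T) ⟨g⟩`. -/
def mSub (g : T) : Subgroup T := frattini T ⊔ Subgroup.zpowers g

theorem frattini_le_mSub (g : T) : frattini T ≤ mSub g := le_sup_left

theorem self_mem_mSub (g : T) : g ∈ mSub g := Subgroup.mem_sup_right (Subgroup.mem_zpowers g)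

theorem mSub_ne_top (h : Pair x y) (g : T) : mSub g ≠ ⊤ := by
  intro htop
  have h1 : Subgroup.closure {g} = ⊤ := closure_eq_top_of_frattini
    (by rw [← Subgroup.zpowers_eq_closure, sup_comm]; exact htop)
  rw [← Subgroup.zpowers_eq_closure] at h1
  exact h.nm (isMetacyclic_of_isCyclic ⟨g, fun a => show a ∈ Subgroup.zpowers g by
    rw [h1]; exact Subgroup.mem_top a⟩)

theorem mSub_normal (h : Pair x y) (g : T) : (mSub g).Normal :=
  Subgroup.Normal.of_commutator_le T (h.commutator_le.trans (frattini_le_mSub g))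

theorem Pair.y_notMem (h : Pair x y) : y ∉ mSub x := fun hy => by
  refine mSub_ne_top h x (eq_top_iff.2 (h.gen ▸ (Subgroup.closure_le _).2 ?_))
  rintro _ (rfl | rfl)
  · exact self_mem_mSub _
  · exact hy

theorem Pair.x_notMem (h : Pair x y) : x ∉ mSub y := h.symm.y_notMem

theorem Pair.notMem_mul (h : Pair x y) : x ∉ mSub (x * y) := fun hx => by
  refine mSub_ne_top h (x * y) (eq_top_iff.2 (h.gen ▸ (Subgroup.closure_le _).2 ?_))
  rw [Set.insert_subset_iff, Set.singleton_subset_iff]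
  exact ⟨hx, by simpa using mul_mem (inv_mem hx) (self_mem_mSub (x * y))⟩

theorem Pair.y_notMem_mul (h : Pair x y) : y ∉ mSub (x * y) := fun hy =>
  h.notMem_mul (by simpa using mul_mem (self_mem_mSub (x * y)) (inv_mem hy))

theorem Pair.even_of_mem (h : Pair x y) {i j : ℤ} (hm : x ^ i * y ^ j ∈ mSub x) : Even j := by
  have hj : y ^ j ∈ mSub x := by
    simpa using mul_mem (inv_mem (zpow_mem (self_mem_mSub x) i)) hm
  rcases Int.even_or_odd j with he | ho
  · exact he
  · exact absurd (Subgroup.zpowers_le.2 hj (mem_zpowers_zpow_of_odd h.p2 y ho)) h.y_notMem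

/-- The four classes modulo the Frattini subgroup. -/
theorem Pair.cases (h : Pair x y) (g : T) :
    g ∈ frattini T ∨ (g ∈ mSub x ∧ g ∉ mSub y ∧ g ∉ mSub (x * y)) ∨
      (g ∈ mSub y ∧ g ∉ mSub x ∧ g ∉ mSub (x * y)) ∨
      (g ∈ mSub (x * y) ∧ g ∉ mSub x ∧ g ∉ mSub y) := by
  haveI := mSub_normal h x
  haveI := mSub_normal h y
  haveI := mSub_normal h (x * y)
  obtain ⟨i, j, rfl⟩ := h.fac g
  rcases Int.even_or_odd i with hi | hi <;> rcases Int.even_or_odd j with hj | hj
  · exact Or.inl (mul_mem (h.zpow_even_mem x hi) (h.zpow_even_mem y hj))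
  · refine Or.inr (Or.inr (Or.inl ⟨mul_mem (frattini_le_mSub y (h.zpow_even_mem x hi))
      (zpow_mem (self_mem_mSub y) j), fun hm => ?_, fun hm => ?_⟩))
    · exact (Int.not_even_iff_odd.2 hj) (h.even_of_mem hm)
    · have hj' : y ^ j ∈ mSub (x * y) := by
        simpa using mul_mem (inv_mem (frattini_le_mSub (x * y) (h.zpow_even_mem x hi))) hm
      exact h.y_notMem_mul (Subgroup.zpowers_le.2 hj' (mem_zpowers_zpow_of_odd h.p2 y hj))
  · refine Or.inr (Or.inl ⟨mul_mem (zpow_mem (self_mem_mSub x) i)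
      (frattini_le_mSub x (h.zpow_even_mem y hj)), fun hm => ?_, fun hm => ?_⟩)
    · have hi' : x ^ i ∈ mSub y := by
        simpa using mul_mem hm (inv_mem (frattini_le_mSub y (h.zpow_even_mem y hj)))
      exact h.x_notMem (Subgroup.zpowers_le.2 hi' (mem_zpowers_zpow_of_odd h.p2 x hi))
    · have hi' : x ^ i ∈ mSub (x * y) := by
        simpa using mul_mem hm (inv_mem (frattini_le_mSub (x * y) (h.zpow_even_mem y hj)))
      exact h.notMem_mul (Subgroup.zpowers_le.2 hi' (mem_zpowers_zpow_of_odd h.p2 x hi))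
  · refine Or.inr (Or.inr (Or.inr ⟨?_, fun hm => ?_, fun hm => ?_⟩))
    · obtain ⟨a, rfl⟩ := hi
      obtain ⟨b, rfl⟩ := hj
      rw [zpow_add_one, zpow_add_one,
        show x ^ (2 * a) * x * (y ^ (2 * b) * y) =
          x ^ (2 * a) * (x * y) * (y⁻¹ * y ^ (2 * b) * y) by group]
      have hy' := (inferInstance : (frattini T).Normal).conj_mem _
        (h.zpow_even_mem y (even_two_mul b)) y⁻¹
      rw [inv_inv] at hy'
      exact mul_mem (mul_mem (frattini_le_mSub _ (h.zpow_even_mem x (even_two_mul a)))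
        (self_mem_mSub _)) (frattini_le_mSub _ hy')
    · exact (Int.not_even_iff_odd.2 hj) (h.even_of_mem hm)
    · have hi' : x ^ i ∈ mSub y := by
        simpa using mul_mem hm (inv_mem (zpow_mem (self_mem_mSub y) j))
      exact h.x_notMem (Subgroup.zpowers_le.2 hi' (mem_zpowers_zpow_of_odd h.p2 x hi))

theorem Pair.mem_frattini_iff (h : Pair x y) (g : T) :
    g ∈ frattini T ↔ g ∈ mSub x ∧ g ∈ mSub (x * y) :=
  ⟨fun hg => ⟨frattini_le_mSub _ hg, frattini_le_mSub _ hg⟩, fun ⟨h1, h2⟩ => by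
    rcases h.cases g with hc | hc | hc | hc
    · exact hc
    · exact absurd h2 hc.2.2
    · exact absurd h1 hc.2.1
    · exact absurd h1 hc.2.1⟩

/-- The maximal subgroup through `x` is metacyclic. -/
theorem Std.isMetacyclic_mSub (h : Std x y) : Cfsg.IsMetacyclic (mSub x) := by
  set M := mSub x with hM
  haveI := mSub_normal h.toPair x
  by_contra hnm
  have hxM : x ∈ M := self_mem_mSub x
  have hyM : y ^ 2 ∈ M := frattini_le_mSub x (h.toPair.sq_mem_frattini y)
  have hpairM : Pair (⟨x, hxM⟩ : M) ⟨y ^ 2, hyM⟩ := ⟨fun g => by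
    obtain ⟨i, j, hg⟩ := h.fac g
    obtain ⟨k, rfl⟩ := h.toPair.even_of_mem (hg ▸ g.2 : x ^ i * y ^ j ∈ mSub x)
    refine ⟨i, k, Subtype.ext ?_⟩
    show (g : T) = _
    rw [Subgroup.coe_mul, SubgroupClass.coe_zpow, SubgroupClass.coe_zpow, hg, ← two_mul, zpow_mul,
      zpow_ofNat], h.p2.to_subgroup M, hnm⟩
  obtain ⟨p, q, hp, hq, hstd⟩ := exists_std hpairM
  set X : M := (⟨x, hxM⟩ : M) ^ p with hX
  set Y : M := (⟨y ^ 2, hyM⟩ : M) ^ q with hY
  set η : T := y ^ q with hη
  have hYη : (Y : T) = η * η := by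
    show (y ^ 2) ^ q = y ^ q * y ^ q
    rw [← zpow_add, ← zpow_natCast, ← zpow_mul]
    congr 1; push_cast; ring
  let γ : MulAut M := MulAut.conjNormal η
  have hγY : γ Y = Y := Subtype.ext (by
    rw [MulAut.conjNormal_apply, hYη]; group)
  have hγγ : ∀ m : M, γ (γ m) = Y * m * Y⁻¹ := fun m => Subtype.ext (by
    rw [MulAut.conjNormal_apply, MulAut.conjNormal_apply, Subgroup.coe_mul, Subgroup.coe_mul,
      Subgroup.coe_inv, hYη]
    group)
  set W := wGroup M with hW
  let π := QuotientGroup.mk' W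
  let γ' : (M ⧸ W) ≃* (M ⧸ W) := QuotientGroup.congr W W γ (map_wGroup γ.toMonoidHom γ.surjective)
  have hγπ : ∀ m, γ' (π m) = π (γ m) := fun m => rfl
  obtain ⟨hQ, hcQ, hc2Q⟩ := hstd.toPair.quotient
  obtain ⟨-, hcX, hcY, -, -⟩ := exists_sq_eq_one hQ hcQ hc2Q
  set X' := π X with hX'
  set Y' := π Y with hY'
  set c := ⁅X', Y'⁆ with hc
  have hc1 : c ≠ 1 := fun e => hcX (e ▸ one_mem _)
  have hcinv : c⁻¹ = c := inv_eq_of_mul_eq_one_right hc2Q
  have hY'γ : γ' Y' = Y' := by rw [hγπ, hγY]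
  have hγγX : γ' (γ' X') = Y' * X' * Y'⁻¹ := by
    rw [hγπ, hγπ, hγγ, map_mul, map_mul, map_inv]
  have hconj : Y' * X' * Y'⁻¹ = c * X' := by
    rw [← hcinv, hc, commutatorElement_def]; group
  have hXY : X' * X' * (Y' * Y') = c := by
    have h1 : (X' * Y') ^ 2 = 1 := by
      rw [← map_mul, ← map_pow]; exact (QuotientGroup.eq_one_iff _).2 hstd.sqXY
    have h2 : Y' * X' = c * (X' * Y') := by
      calc Y' * X' = c⁻¹ * (X' * Y') := by rw [hc, commutatorElement_def]; group
        _ = c * (X' * Y') := by rw [hcinv]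
    rw [sq, mul_assoc, ← mul_assoc Y', h2] at h1
    have h3 : c * (X' * X' * (Y' * Y')) = 1 := by
      rw [← h1, ← mul_assoc c, ← mul_assoc c, (hcQ X').eq]
      simp only [mul_assoc]
    rw [← hcinv, eq_inv_iff_mul_eq_one, ← (hcQ _).eq]
    exact h3
  have hX2c : ∀ g, Commute (X' * X') g := by
    intro g
    have hXY' : Commute (X' * X') Y' := by
      have e : X' * X' = c * (Y' * Y')⁻¹ := by rw [← hXY, mul_inv_cancel_right]
      rw [e]
      exact (hcQ Y').mul_left (((Commute.refl Y').mul_left (Commute.refl Y')).inv_left)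
    obtain ⟨a, b, rfl⟩ := hQ.fac g
    exact ((((Commute.refl X').mul_left (Commute.refl X'))).zpow_right a).mul_right
      (hXY'.zpow_right b)
  have hcomm : commutator (M ⧸ W) ≤ Subgroup.zpowers c := by
    haveI : (Subgroup.zpowers c).Normal :=
      normal_zpowers_of_conj Subgroup.closure_univ fun s _ => by
        rw [(hcQ s).symm.eq, mul_inv_cancel_right]; exact Subgroup.mem_zpowers _
    refine commutator_le_of_gen hQ.gen ?_
    rintro _ (rfl | rfl) _ (rfl | rfl)
    · simp
    · exact Subgroup.mem_zpowers _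
    · have h1 := (Subgroup.zpowers c).inv_mem (Subgroup.mem_zpowers _)
      rwa [hc, commutatorElement_inv] at h1
    · simp
  have hγc : γ' c = c := by
    have hm : γ' c ∈ Subgroup.zpowers c := by
      refine hcomm ?_
      rw [← map_commutator_surj γ'.toMonoidHom γ'.surjective]
      exact Subgroup.mem_map_of_mem _ (Subgroup.commutator_mem_commutator (Subgroup.mem_top _)
        (Subgroup.mem_top _))
    obtain ⟨k, hk⟩ := hm
    change c ^ k = γ' c at hk
    rcases Int.even_or_odd k with ⟨m, rfl⟩ | ⟨m, rfl⟩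
    · rw [← two_mul, zpow_mul, zpow_ofNat, sq, hc2Q, one_zpow] at hk
      exact absurd (γ'.map_eq_one_iff.1 hk.symm) hc1
    · rw [zpow_add, zpow_mul, zpow_ofNat, sq, hc2Q, one_zpow, one_mul, zpow_one] at hk
      exact hk.symm
  obtain ⟨i, j, hij⟩ := hQ.fac (γ' X')
  -- `i` is odd
  obtain ⟨m, rfl⟩ : Odd i := by
    rcases Int.even_or_odd i with hi | hi
    swap
    · exact hi
    exfalso
    have htop : Subgroup.closure {Y'} = ⊤ := by
      refine closure_eq_top_of_frattini (eq_top_iff.2 fun g _ => ?_)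
      have hX'' : γ' X' ∈ Subgroup.closure {Y'} ⊔ frattini (M ⧸ W) := by
        rw [hij]
        exact Subgroup.mul_mem _ (Subgroup.mem_sup_right (hQ.zpow_even_mem X' hi))
          (Subgroup.mem_sup_left (zpow_mem (Subgroup.subset_closure (by rfl)) j))
      obtain ⟨a, b, hab⟩ := hQ.fac (γ'.symm g)
      have hg : g = γ' X' ^ a * Y' ^ b := by
        calc g = γ' (γ'.symm g) := (γ'.apply_symm_apply g).symm
          _ = γ' X' ^ a * Y' ^ b := by rw [hab, map_mul, map_zpow, map_zpow, hY'γ]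
      rw [hg]
      exact Subgroup.mul_mem _ (zpow_mem hX'' a)
        (Subgroup.mem_sup_left (zpow_mem (Subgroup.subset_closure (by rfl)) b))
    rw [← Subgroup.zpowers_eq_closure] at htop
    exact hQ.nm (isMetacyclic_of_isCyclic ⟨Y', fun g => show g ∈ Subgroup.zpowers Y' by
      rw [htop]; exact Subgroup.mem_top g⟩)
  have hpowX : ∀ k : ℤ, X' ^ (2 * k) = (X' * X') ^ k := fun k => by
    rw [zpow_mul, zpow_ofNat, sq]
  have hX2 : X' * X' = c * (Y' * Y')⁻¹ := by rw [← hXY, mul_inv_cancel_right]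
  have hX2k : ∀ k : ℤ, (X' * X') ^ k = c ^ k * Y' ^ (-2 * k) := fun k => by
    rw [hX2, ((hcQ _).mul_zpow), inv_zpow', ← sq, ← zpow_natCast, ← zpow_mul]
    congr 2; push_cast; ring
  rcases Int.even_or_odd j with ⟨k, rfl⟩ | ⟨k, rfl⟩
  · -- `γ X = X ^ odd * c ^ k`
    have hγX : γ' X' = X' ^ (2 * (m - k) + 1) * c ^ k := by
      rw [hij, show k + k = 2 * k by ring, zpow_mul Y', zpow_ofNat, sq]
      have e : Y' * Y' = c * (X' * X')⁻¹ := by
        rw [← hXY, (hX2c (Y' * Y')).eq, mul_inv_cancel_right]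
      rw [e, (hcQ _).mul_zpow, inv_zpow, ← hpowX, ((hcQ _).zpow_left k).eq, ← mul_assoc, ← zpow_neg,
        ← zpow_add]
      congr 2; ring
    have h1 : c * X' = X' ^ ((2 * (m - k) + 1) * (2 * (m - k) + 1)) := by
      rw [← hconj, ← hγγX]
      conv_lhs => rw [hγX, map_mul, map_zpow, map_zpow, hγX, hγc,
        ((hcQ _).symm.zpow_right k).mul_zpow, ← zpow_mul, mul_assoc, ← zpow_mul, ← zpow_add]
      rw [show k * (2 * (m - k) + 1) + k = 2 * (k * (m - k + 1)) by ring, zpow_mul c, zpow_ofNat, sq,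
        hc2Q, one_zpow, mul_one]
    refine hcX ⟨(2 * (m - k) + 1) * (2 * (m - k) + 1) - 1, ?_⟩
    show X' ^ _ = c
    rw [zpow_sub, zpow_one, ← h1, mul_inv_cancel_right]
  · -- otherwise `c ∈ ⟨Y⟩`
    have hsq : (γ' X' * γ' Y') ^ 2 = 1 := by
      rw [← map_mul, ← map_pow, show (X' * Y') ^ 2 = 1 by
        rw [← map_mul, ← map_pow]; exact (QuotientGroup.eq_one_iff _).2 hstd.sqXY, map_one]
    rw [hY'γ, hij, mul_assoc, ← zpow_add_one, show 2 * k + 1 + 1 = 2 * (k + 1) by ring] at hsq
    have hY2 : Commute (X' ^ (2 * m + 1)) (Y' ^ (2 * (k + 1))) := by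
      rw [zpow_mul Y', zpow_ofNat]
      refine Commute.zpow_right (Commute.zpow_left ?_ _) _
      rw [sq, show Y' * Y' = c * (X' * X')⁻¹ by
        rw [← hXY, (hX2c (Y' * Y')).eq, mul_inv_cancel_right]]
      exact (hcQ X').symm.mul_right ((Commute.refl X').mul_right (Commute.refl X')).inv_right
    rw [hY2.mul_pow, ← zpow_natCast, ← zpow_mul, ← zpow_natCast (Y' ^ _), ← zpow_mul,
      show (2 * m + 1) * ((2 : ℕ) : ℤ) = 2 * (2 * m + 1) by push_cast; ring, hpowX, hX2k, mul_assoc,
      ← zpow_add, zpow_add c, zpow_mul c, zpow_ofNat, sq, hc2Q, one_zpow, one_mul, zpow_one] at hsq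
    exact hcY ⟨-(-2 * (2 * m + 1) + 2 * (k + 1) * ((2 : ℕ) : ℤ)), by
      show Y' ^ _ = c
      rw [zpow_neg, ← eq_inv_of_mul_eq_one_left hsq]⟩

theorem Std.isMetacyclic_mSub' (h : Std x y) : Cfsg.IsMetacyclic (mSub y) := h.symm.isMetacyclic_mSub

theorem Std.isMetacyclic_frattini (h : Std x y) : Cfsg.IsMetacyclic (frattini T) :=
  isMetacyclic_of_le h.isMetacyclic_mSub (frattini_le_mSub x)

theorem Pair.commutator_comm (h : Pair x y) :
    ∀ a ∈ commutator T, ∀ b ∈ commutator T, a * b = b * a := by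
  haveI : IsMulCommutative (Subgroup.zpowers x) := inferInstance
  haveI : IsMulCommutative (Subgroup.zpowers y) := inferInstance
  have h2 := CfsgLib.Factorizations.derivedSeries_two_eq_bot (A := Subgroup.zpowers x)
    (B := Subgroup.zpowers y) fun g => by
      obtain ⟨i, j, e⟩ := h.fac g
      exact ⟨_, ⟨i, rfl⟩, _, ⟨j, rfl⟩, e⟩
  rw [show (2 : ℕ) = 1 + 1 from rfl, derivedSeries_succ, derivedSeries_one,
    Subgroup.commutator_eq_bot_iff_le_centralizer] at h2
  exact fun a ha b hb => (h2 ha b hb).symm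

/-- The involutions of the derived group, with the identity. -/
def uSub (h : Pair x y) : Subgroup T where
  carrier := {a | a ∈ commutator T ∧ a ^ 2 = 1}
  one_mem' := ⟨one_mem _, one_pow 2⟩
  mul_mem' := fun {a b} ha hb => ⟨mul_mem ha.1 hb.1, by
    rw [(show Commute a b from h.commutator_comm a ha.1 b hb.1).mul_pow, ha.2, hb.2, one_mul]⟩
  inv_mem' := fun {a} ha => ⟨inv_mem ha.1, by rw [inv_pow, ha.2, inv_one]⟩

theorem uSub_normal (h : Pair x y) : (uSub h).Normal :=
  ⟨fun a ha g => ⟨(inferInstance : (commutator T).Normal).conj_mem a ha.1 g,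
    by rw [conj_pow, ha.2, mul_one, mul_inv_cancel]⟩⟩

theorem Std.card_uSub (h : Std x y) (hA : ¬ IsCyclic ↥(commutator T)) :
    Nat.card (uSub h.toPair) = 4 := by
  haveI : Fact (Nat.Prime 2) := ⟨Nat.prime_two⟩
  refine le_antisymm (card_le_four h.isMetacyclic_frattini
    (fun a ha => h.toPair.commutator_le ha.1)
    (fun a ha b hb => h.toPair.commutator_comm a ha.1 b hb.1) fun a ha => ha.2) ?_
  obtain ⟨a, b, ha, ha1, hb, hb1, hne⟩ : ∃ a b : ↥(commutator T),
      a ^ 2 = 1 ∧ a ≠ 1 ∧ b ^ 2 = 1 ∧ b ≠ 1 ∧ a ≠ b := by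
    by_contra hc
    push Not at hc
    exact hA (CfsgLib.TwoGroupsQ.isCyclic_of_comm (h.p2.to_subgroup _)
      (CfsgLib.TwoGroupsQ.hasUniqueOrderP_two fun a b ha ha1 hb hb1 => hc a b ha ha1 hb hb1)
      fun a b => Subtype.ext (h.toPair.commutator_comm a a.2 b b.2))
  obtain ⟨k, hk⟩ := IsPGroup.iff_card.1 (h.p2.to_subgroup (uSub h.toPair))
  have ha' : (a : T) ∈ uSub h.toPair := ⟨a.2, congrArg Subtype.val ha⟩
  have hb' : (b : T) ∈ uSub h.toPair := ⟨b.2, congrArg Subtype.val hb⟩
  have h3 : 3 ≤ Nat.card (uSub h.toPair) := by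
    let f : Fin 3 → uSub h.toPair := ![1, ⟨a, ha'⟩, ⟨b, hb'⟩]
    have e1 : (1 : uSub h.toPair) ≠ ⟨a, ha'⟩ := fun e =>
      ha1 (Subtype.ext (congrArg (fun w : uSub h.toPair => (w : T)) e).symm)
    have e2 : (1 : uSub h.toPair) ≠ ⟨b, hb'⟩ := fun e =>
      hb1 (Subtype.ext (congrArg (fun w : uSub h.toPair => (w : T)) e).symm)
    have e3 : (⟨a, ha'⟩ : uSub h.toPair) ≠ ⟨b, hb'⟩ := fun e =>
      hne (Subtype.ext (congrArg (fun w : uSub h.toPair => (w : T)) e))
    have hf : Function.Injective f := by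
      intro i j hij
      fin_cases i <;> fin_cases j <;>
        first
          | rfl | exact absurd hij e1 | exact absurd hij.symm e1 | exact absurd hij e2
          | exact absurd hij.symm e2 | exact absurd hij e3 | exact absurd hij.symm e3
    simpa using Nat.card_le_card_of_injective f hf
  rw [hk] at h3 ⊢
  rcases k with _ | _ | k
  · omega
  · omega
  · calc 4 = 2 ^ 2 := rfl
      _ ≤ 2 ^ (k + 1 + 1) := Nat.pow_le_pow_right two_pos (by omega)

/-- The Frattini subgroup centralizes `U`. -/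
theorem Std.uSub_central (h : Std x y) (hA : ¬ IsCyclic ↥(commutator T)) :
    ∀ u ∈ uSub h.toPair, ∀ g ∈ frattini T, u * g = g * u := by
  haveI : Fact (Nat.Prime 2) := ⟨Nat.prime_two⟩
  haveI := uSub_normal h.toPair
  set U := uSub h.toPair with hU
  -- the image in `Aut U` has exponent two
  let φ : T →* MulAut U := MulAut.conjNormal
  have hone : ∀ g : T, ∀ u : U, φ (g ^ 2) u = u := by
    intro g u
    by_contra hne
    set v := φ g u with hv
    have hvu : v ≠ u := fun e => hne (by rw [map_pow, sq, MulAut.mul_apply, ← hv, e, ← hv, e])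
    have hu1 : u ≠ 1 := fun e => hvu (by rw [hv, e, map_one])
    -- a fixed involution `z`
    obtain ⟨z, hz1, hzc⟩ : ∃ z : U, z ≠ 1 ∧ (z : T) ∈ Subgroup.center T := by
      haveI : Group.IsNilpotent T := h.p2.isNilpotent
      have hne : U ≠ ⊥ := fun e => by
        have := h.card_uSub hA
        rw [← hU, e, Subgroup.card_bot] at this
        omega
      obtain ⟨w, hw1⟩ := Subgroup.ne_bot_iff_exists_ne_one.1
        (CfsgLib.Solvable.inf_center_ne_bot hne)
      exact ⟨⟨(w : T), w.2.1⟩, fun e => hw1 (Subtype.ext (congrArg (fun c : U => (c : T)) e)), w.2.2⟩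
    have hfix : ∀ g : T, φ g z = z := fun g => Subtype.ext (by
      rw [MulAut.conjNormal_apply, Subgroup.mem_center_iff.1 hzc g, mul_inv_cancel_right])
    have huz : u ≠ z := fun e => hvu (by rw [hv, e, hfix])
    have hvz : v ≠ z := fun e => huz ((φ g).injective (e.trans (hfix g).symm))
    have hv1 : v ≠ 1 := fun e => hu1 ((φ g).map_eq_one_iff.1 e)
    have hw : φ g v ≠ u → False := fun hwu => by
      let f : Fin 5 → U := ![1, z, u, v, φ g v]
      have hf : Function.Injective f := by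
        have h1 : φ g v ≠ 1 := fun e => hv1 ((φ g).map_eq_one_iff.1 e)
        have h2 : φ g v ≠ z := fun e => hvz ((φ g).injective (e.trans (hfix g).symm))
        have h3 : φ g v ≠ v := fun e => hvu ((φ g).injective e)
        intro i j hij
        fin_cases i <;> fin_cases j <;> simp_all [f, eq_comm]
      have h5 := Nat.card_le_card_of_injective f hf
      rw [h.card_uSub hA] at h5
      simp at h5
    exact hw fun e => hne (by rw [map_pow, sq, MulAut.mul_apply, ← hv, e])
  intro u hu g hg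
  have hle : frattini T ≤ φ.ker := by
    refine CfsgLib.Solvable.frattini_le_of_elementary (p := 2) ?_ fun g =>
      MonoidHom.mem_ker.2 (MulEquiv.ext fun u => by rw [MulAut.one_apply]; exact hone g u)
    rw [commutator_def, Subgroup.commutator_le]
    intro a _ b _
    rw [MonoidHom.mem_ker, map_commutatorElement, commutatorElement_eq_one_iff_mul_comm]
    have h2 : ∀ g, φ g * φ g = 1 := fun g => by
      rw [← map_mul, ← sq]; exact MulEquiv.ext fun u => by rw [MulAut.one_apply]; exact hone g u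
    calc φ a * φ b = φ a * φ b * ((φ b * φ a) * (φ b * φ a)) := by rw [← map_mul φ b a, h2, mul_one]
      _ = φ a * (φ b * φ b) * φ a * (φ b * φ a) := by simp only [mul_assoc]
      _ = φ b * φ a := by rw [h2, mul_one, h2, one_mul]
  have hk : φ g ⟨u, hu⟩ = ⟨u, hu⟩ := by rw [MonoidHom.mem_ker.1 (hle hg), MulAut.one_apply]
  have hk' : g * u * g⁻¹ = u := by simpa [φ, MulAut.conjNormal_apply] using congrArg Subtype.val hk
  exact (mul_inv_eq_iff_eq_mul.1 hk').symm

/-- Every involution of the Frattini subgroup lies in `U`. -/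
theorem Std.mem_uSub (h : Std x y) (hA : ¬ IsCyclic ↥(commutator T)) {v : T}
    (hv : v ∈ frattini T) (hv2 : v ^ 2 = 1) : v ∈ uSub h.toPair := by
  by_contra hvu
  set U := uSub h.toPair with hU
  let E : Subgroup T :=
    { carrier := {g | g ∈ frattini T ∧ g ^ 2 = 1 ∧ ∃ u ∈ U, g = u ∨ g = u * v}
      one_mem' := ⟨one_mem _, one_pow 2, 1, one_mem _, Or.inl rfl⟩
      mul_mem' := by
        rintro a b ⟨ha, ha2, u, hu, hau⟩ ⟨hb, hb2, w, hw, hbw⟩
        have hvv : v * v = 1 := by rw [← sq]; exact hv2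
        have hwv : w * v = v * w := h.uSub_central hA w hw v hv
        have hwv' : Commute w v := hwv
        have huw : Commute a b := by
          have h1 : Commute u w := h.toPair.commutator_comm u hu.1 w hw.1
          have h2 : Commute u v := h.uSub_central hA u hu v hv
          rcases hau with hau | hau <;> rcases hbw with hbw | hbw <;> rw [hau, hbw]
          · exact h1
          · exact h1.mul_right h2
          · exact h1.mul_left hwv'.symm
          · exact (h1.mul_right h2).mul_left (hwv'.symm.mul_right (Commute.refl v))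
        refine ⟨mul_mem ha hb, by rw [huw.mul_pow, ha2, hb2, one_mul], u * w, mul_mem hu hw, ?_⟩
        rcases hau with rfl | rfl <;> rcases hbw with rfl | rfl
        · exact Or.inl rfl
        · exact Or.inr (mul_assoc _ _ _).symm
        · exact Or.inr (by rw [mul_assoc, ← hwv, mul_assoc])
        · exact Or.inl (by rw [mul_assoc, ← mul_assoc v, ← hwv, mul_assoc w, hvv, mul_one])
      inv_mem' := by
        rintro a ⟨ha, ha2, u, hu, hau⟩
        rw [show a⁻¹ = a from inv_eq_of_mul_eq_one_right (by rw [← sq]; exact ha2)]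
        exact ⟨ha, ha2, u, hu, hau⟩ }
  have hUE : U ≤ E := fun u hu => ⟨h.toPair.commutator_le hu.1, hu.2, u, hu, Or.inl rfl⟩
  have hcard := card_le_four h.isMetacyclic_frattini (E := E) (fun a ha => ha.1)
    (fun a ha b hb => by
      have h2 := (E.mul_mem ha hb).2.1
      have ia : a⁻¹ = a := inv_eq_of_mul_eq_one_right (by rw [← sq]; exact ha.2.1)
      have ib : b⁻¹ = b := inv_eq_of_mul_eq_one_right (by rw [← sq]; exact hb.2.1)
      rw [sq] at h2
      rw [eq_inv_of_mul_eq_one_left h2, mul_inv_rev, ia, ib]) fun a ha => ha.2.1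
  have hEU : U = E := Subgroup.eq_of_le_of_card_ge hUE (by rw [h.card_uSub hA]; exact hcard)
  exact hvu (hEU ▸ (show v ∈ E from ⟨hv, hv2, 1, one_mem _, Or.inr (one_mul v).symm⟩))

end CfsgLib.Bicyclic
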