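import Cfsg.Prelude.Def_OddOrderLocal
import Cfsg.Agent.Solvable.Frattini
import Cfsg.Agent.Solvable.Nilpotent
import Mathlib.GroupTheory.Nilpotent

/-!
# A criterion for metacyclic `2`-groups

If `T` is generated by two elements and `T ⧸ N` is metacyclic for a normal subgroup
`N ≤ (T')² [T', T]`, then `T` is metacyclic.
-/

set_option autoImplicit false
set_option linter.style.haveILetI false

namespace CfsgLib.Bicyclic

open scoped commutatorElement

universe u

variable {T : Type*} [Group T]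

theorem normal_zpowers_of_conj [Finite T] {g : T} {S : Set T} (hS : Subgroup.closure S = ⊤)
    (h : ∀ s ∈ S, s * g * s⁻¹ ∈ Subgroup.zpowers g) : (Subgroup.zpowers g).Normal := by
  let K : Submonoid T :=
    { carrier := {s | s * g * s⁻¹ ∈ Subgroup.zpowers g}
      one_mem' := by
        show 1 * g * 1⁻¹ ∈ Subgroup.zpowers g
        simp [Subgroup.mem_zpowers]
      mul_mem' := fun {s t} hs ht => by
        obtain ⟨k, hk⟩ := Subgroup.mem_zpowers_iff.1 ht
        obtain ⟨l, hl⟩ := Subgroup.mem_zpowers_iff.1 hs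
        refine ⟨l * k, ?_⟩
        show g ^ (l * k) = s * t * g * (s * t)⁻¹
        rw [zpow_mul, hl, conj_zpow, hk]
        group }
  have hall : ∀ s : T, s ∈ K := by
    intro s
    have hs : s ∈ Subgroup.closure S := hS ▸ Subgroup.mem_top s
    rw [← Subgroup.mem_toSubmonoid, Subgroup.closure_toSubmonoid_of_finite] at hs
    exact (Submonoid.closure_le (S := K)).2 (fun t ht => h t ht) hs
  refine ⟨fun x hx s => ?_⟩
  obtain ⟨k, rfl⟩ := Subgroup.mem_zpowers_iff.1 hx
  rw [← conj_zpow]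
  exact zpow_mem (show s * g * s⁻¹ ∈ Subgroup.zpowers g from hall s) k

/-- A cyclic normal subgroup with cyclic quotient. -/
theorem isMetacyclic_of_gen {N : Subgroup T} (hN : N.Normal) (hc : IsCyclic N) (b : T)
    (h : ∀ g : T, ∃ j : ℤ, g * (b ^ j)⁻¹ ∈ N) : Cfsg.IsMetacyclic T := by
  refine ⟨N, hN, hc, ⟨(b : T ⧸ N), fun q => ?_⟩⟩
  obtain ⟨g, rfl⟩ := QuotientGroup.mk_surjective q
  obtain ⟨j, hj⟩ := h g
  refine ⟨j, ?_⟩
  show ((b : T ⧸ N)) ^ j = (g : T ⧸ N)
  rw [← QuotientGroup.mk_zpow, QuotientGroup.eq]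
  have h1 := hN.conj_mem _ hj (b ^ j)⁻¹
  simpa [mul_assoc] using h1

theorem isMetacyclic_of_normal_zpowers {a b : T} (hgen : Subgroup.closure {a, b} = ⊤)
    (hn : (Subgroup.zpowers a).Normal) : Cfsg.IsMetacyclic T := by
  refine isMetacyclic_of_gen hn inferInstance b fun g => ?_
  have hg : g ∈ Subgroup.zpowers a ⊔ Subgroup.zpowers b := by
    have h : Subgroup.closure {a, b} ≤ Subgroup.zpowers a ⊔ Subgroup.zpowers b := by
      rw [Subgroup.closure_le]
      rintro _ (rfl | rfl)
      · exact Subgroup.mem_sup_left (Subgroup.mem_zpowers _)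
      · exact Subgroup.mem_sup_right (Subgroup.mem_zpowers _)
    exact h (hgen ▸ Subgroup.mem_top g)
  obtain ⟨u, hu, v, ⟨j, rfl⟩, rfl⟩ := Subgroup.mem_sup_of_normal_left.1 hg
  exact ⟨j, by simpa [mul_assoc] using hu⟩

/-- `(T')² [T', T]`. -/
def wGroup (T : Type*) [Group T] : Subgroup T :=
  Subgroup.closure {g | ∃ a ∈ commutator T, a ^ 2 = g} ⊔ ⁅commutator T, (⊤ : Subgroup T)⁆

theorem sq_mem_wGroup {a : T} (h : a ∈ commutator T) : a ^ 2 ∈ wGroup T :=
  Subgroup.mem_sup_left (Subgroup.subset_closure ⟨a, h, rfl⟩)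

theorem commutator_mem_wGroup {a : T} (h : a ∈ commutator T) (g : T) : ⁅a, g⁆ ∈ wGroup T :=
  Subgroup.mem_sup_right (Subgroup.commutator_mem_commutator h (Subgroup.mem_top g))

theorem wGroup_le_commutator : wGroup T ≤ commutator T := by
  refine sup_le ((Subgroup.closure_le _).2 ?_) (Subgroup.commutator_mono le_top le_rfl)
  rintro _ ⟨a, ha, rfl⟩
  exact pow_mem ha 2

theorem map_commutator_surj {Q : Type*} [Group Q] (f : T →* Q) (hf : Function.Surjective f) :
    (commutator T).map f = commutator Q := by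
  rw [commutator_def, commutator_def, Subgroup.map_commutator, Subgroup.map_top_of_surjective f hf]

theorem map_wGroup {Q : Type*} [Group Q] (f : T →* Q) (hf : Function.Surjective f) :
    (wGroup T).map f = wGroup Q := by
  rw [wGroup, wGroup, Subgroup.map_sup, Subgroup.map_commutator, map_commutator_surj f hf,
    Subgroup.map_top_of_surjective f hf, MonoidHom.map_closure]
  congr 2
  ext q
  constructor
  · rintro ⟨_, ⟨a, ha, rfl⟩, rfl⟩
    exact ⟨f a, map_commutator_surj f hf ▸ ⟨a, ha, rfl⟩, (map_pow f a 2).symm⟩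
  · rintro ⟨b, hb, rfl⟩
    rw [← map_commutator_surj f hf] at hb
    obtain ⟨a, ha, rfl⟩ := hb
    exact ⟨a ^ 2, ⟨a, ha, rfl⟩, map_pow f a 2⟩

instance wGroup_characteristic : (wGroup T).Characteristic :=
  Subgroup.characteristic_iff_map_eq.2 fun e => map_wGroup e.toMonoidHom e.surjective

theorem commutator_le_of_gen {S : Set T} (hS : Subgroup.closure S = ⊤) {N : Subgroup T} [N.Normal]
    (h : ∀ u ∈ S, ∀ v ∈ S, ⁅u, v⁆ ∈ N) : commutator T ≤ N := by
  have hcomm : ∀ u ∈ S, ∀ v ∈ S, (QuotientGroup.mk' N) u * QuotientGroup.mk' N v =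
      QuotientGroup.mk' N v * QuotientGroup.mk' N u := fun u hu v hv => by
    rw [← commutatorElement_eq_one_iff_mul_comm, ← map_commutatorElement]
    exact (QuotientGroup.eq_one_iff _).2 (h u hu v hv)
  rw [commutator_def, Subgroup.commutator_le]
  rintro g - k -
  rw [← QuotientGroup.eq_one_iff (N := N), ← QuotientGroup.mk'_apply, map_commutatorElement,
    commutatorElement_eq_one_iff_mul_comm]
  have hmem : ∀ g : T, ∀ u ∈ S, Commute (QuotientGroup.mk' N g) (QuotientGroup.mk' N u) := by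
    intro g u hu
    have hg : g ∈ Subgroup.closure S := by rw [hS]; exact Subgroup.mem_top g
    induction hg using Subgroup.closure_induction with
    | mem v hv => exact hcomm v hv u hu
    | one => rw [map_one]; exact Commute.one_left _
    | mul _ _ _ _ h1 h2 => rw [map_mul]; exact h1.mul_left h2
    | inv _ _ h1 => rw [map_inv]; exact h1.inv_left
  have hk : k ∈ Subgroup.closure S := by rw [hS]; exact Subgroup.mem_top k
  induction hk using Subgroup.closure_induction with
  | mem v hv => exact hmem g v hv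
  | one => simp
  | mul _ _ _ _ h1 h2 =>
    rw [map_mul]; exact (Commute.mul_right (show Commute _ _ from h1) h2).eq
  | inv _ _ h1 => rw [map_inv]; exact (Commute.inv_right (show Commute _ _ from h1)).eq

theorem closure_eq_top_of_frattini [Finite T] {S : Set T}
    (h : Subgroup.closure S ⊔ frattini T = ⊤) : Subgroup.closure S = ⊤ :=
  frattini_nongenerating h

/-- A central involution inside `(T')² [T', T]` outside a cyclic normal subgroup of the quotient. -/
theorem no_split {a b z : T} [Finite T] (hgen : Subgroup.closure {a, b} = ⊤)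
    (hza : z ∉ Subgroup.zpowers a) (hzc : z ∈ Subgroup.center T) (hz2 : z * z = 1)
    (ha2 : ∃ e : ℕ, a ^ 2 ^ e = 1) (hW : z ∈ wGroup T)
    (hb : ∃ (r f : ℤ), b * a * b⁻¹ = a ^ r * z ^ f) : False := by
  obtain ⟨r, f, hb⟩ := hb
  have hza' : Commute a z := (Subgroup.mem_center_iff.1 hzc a)
  have hz2' : z ^ (2 : ℤ) = 1 := by rw [zpow_ofNat, sq]; exact hz2
  -- `r` may be taken odd
  obtain ⟨e, he⟩ : ∃ r' : ℤ, b * a * b⁻¹ = a ^ (2 * r' + 1) * z ^ f := by
    obtain ⟨ε, hε⟩ := ha2
    induction ε with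
    | zero =>
      rw [pow_zero, pow_one] at hε
      exact ⟨0, by rw [hb, hε, one_zpow, one_zpow]⟩
    | succ ε ih =>
      by_cases h0 : a ^ 2 ^ ε = 1
      · exact ih h0
      rcases Int.even_or_odd r with ⟨k, rfl⟩ | ⟨k, rfl⟩
      · exfalso
        rcases ε with _ | ε
        · -- `b a b⁻¹ = z ^ f`
          rw [pow_succ, pow_zero, one_mul] at hε
          have h1 : a ^ (k + k) = 1 := by
            rw [show k + k = 2 * k by ring, zpow_mul, zpow_ofNat, hε, one_zpow]
          rw [h1, one_mul] at hb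
          have h2 : a = z ^ f := by
            have h3 : b⁻¹ * (b * a * b⁻¹) * b = z ^ f := by
              rw [hb, mul_assoc, ← Subgroup.mem_center_iff.1 (zpow_mem hzc f) b, inv_mul_cancel_left]
            rw [← h3]; group
          rcases Int.even_or_odd f with ⟨m, rfl⟩ | ⟨m, rfl⟩
          · rw [show m + m = 2 * m by ring, zpow_mul, hz2', one_zpow] at h2
            exact h0 (by rw [h2, one_pow])
          · rw [zpow_add, zpow_mul, hz2', one_zpow, one_mul, zpow_one] at h2
            exact hza (h2 ▸ Subgroup.mem_zpowers a)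
        · have h1 := congrArg (fun g => g ^ (((2 ^ (ε + 1) : ℕ)) : ℤ)) hb
          simp only [conj_zpow] at h1
          rw [((hza'.zpow_left _).zpow_right _).mul_zpow, ← zpow_mul, ← zpow_mul] at h1
          have h2 : a ^ ((k + k) * (((2 ^ (ε + 1) : ℕ)) : ℤ)) = 1 := by
            rw [show (k + k) * (((2 ^ (ε + 1) : ℕ)) : ℤ) = (((2 ^ (ε + 1 + 1) : ℕ)) : ℤ) * k by
              push_cast; ring, zpow_mul, zpow_natCast, hε, one_zpow]
          have h3 : z ^ (f * (((2 ^ (ε + 1) : ℕ)) : ℤ)) = 1 := by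
            rw [show f * (((2 ^ (ε + 1) : ℕ)) : ℤ) = 2 * (f * 2 ^ ε) by push_cast; ring, zpow_mul,
              hz2', one_zpow]
          rw [h2, h3, mul_one, zpow_natCast] at h1
          exact h0 (by simpa [mul_inv_eq_one] using h1)
      · exact ⟨k, hb⟩
  set g := a ^ (2 * e) * z ^ f with hg
  have hcomm : ⁅b, a⁆ = g := by
    rw [commutatorElement_def, he, hg, mul_assoc (a ^ (2 * e + 1)), ← zpow_neg_one a,
      ← ((hza'.zpow_left (-1)).zpow_right f).eq, ← mul_assoc, ← zpow_add]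
    congr 2; ring
  have hconjb : b * g * b⁻¹ = g ^ (2 * e + 1) := by
    have h1 : b * g * b⁻¹ = (b * a * b⁻¹) ^ (2 * e) * z ^ f := by
      rw [conj_zpow, hg]
      calc b * (a ^ (2 * e) * z ^ f) * b⁻¹ = b * a ^ (2 * e) * (z ^ f * b⁻¹) := by group
        _ = b * a ^ (2 * e) * (b⁻¹ * z ^ f) := by
          rw [Subgroup.mem_center_iff.1 (zpow_mem hzc f) b⁻¹]
        _ = b * a ^ (2 * e) * b⁻¹ * z ^ f := by group
    rw [h1, he, hg, ((hza'.zpow_left _).zpow_right _).mul_zpow,
      ((hza'.zpow_left _).zpow_right _).mul_zpow, ← zpow_mul, ← zpow_mul, ← zpow_mul,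
      mul_assoc, ← zpow_add]
    rw [← zpow_mul]
    congr 2 <;> ring
  have hconja : a * g * a⁻¹ = g := by
    rw [hg, ← mul_assoc, ← zpow_one_add, add_comm, zpow_add_one, mul_assoc (a ^ (2 * e)),
      (hza'.zpow_right f).eq, ← mul_assoc, mul_inv_cancel_right]
  haveI hgn : (Subgroup.zpowers g).Normal := normal_zpowers_of_conj hgen (by
    rintro _ (rfl | rfl)
    · rw [hconja]; exact Subgroup.mem_zpowers g
    · rw [hconjb]; exact ⟨_, rfl⟩)
  have hK : commutator T ≤ Subgroup.zpowers g := commutator_le_of_gen hgen (by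
    rintro _ (rfl | rfl) _ (rfl | rfl)
    · simp
    · rw [← commutatorElement_inv, hcomm]; exact inv_mem (Subgroup.mem_zpowers g)
    · rw [hcomm]; exact Subgroup.mem_zpowers g
    · simp)
  have hsq : g ^ (2 : ℤ) ∈ Subgroup.zpowers a := by
    rw [hg, ((hza'.zpow_left _).zpow_right _).mul_zpow, ← zpow_mul, ← zpow_mul,
      show f * 2 = 2 * f by ring, zpow_mul z, hz2', one_zpow, mul_one]
    exact ⟨_, rfl⟩
  haveI hg2n : (Subgroup.zpowers (g ^ (2 : ℤ))).Normal := normal_zpowers_of_conj hgen (by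
    rintro _ (rfl | rfl)
    · rw [← conj_zpow, hconja]; exact Subgroup.mem_zpowers _
    · rw [← conj_zpow, hconjb, ← zpow_mul, mul_comm, zpow_mul]; exact ⟨_, rfl⟩)
  have hle : wGroup T ≤ Subgroup.zpowers (g ^ (2 : ℤ)) := by
    refine sup_le ((Subgroup.closure_le _).2 ?_) ?_
    · rintro _ ⟨k, hk, rfl⟩
      obtain ⟨i, rfl⟩ := Subgroup.mem_zpowers_iff.1 (hK hk)
      exact ⟨i, by
        show (g ^ (2 : ℤ)) ^ i = (g ^ i) ^ 2
        rw [← zpow_natCast, ← zpow_mul, ← zpow_mul, mul_comm]; rfl⟩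
    · rw [Subgroup.commutator_le]
      rintro k hk v -
      obtain ⟨i, rfl⟩ := Subgroup.mem_zpowers_iff.1 (hK hk)
      rw [← QuotientGroup.eq_one_iff (N := Subgroup.zpowers (g ^ (2 : ℤ))),
        ← QuotientGroup.mk'_apply, map_commutatorElement, map_zpow,
        commutatorElement_eq_one_iff_mul_comm]
      refine (Commute.zpow_left (h := ?_) (m := i)).eq
      have hv : v ∈ Subgroup.closure {a, b} := by rw [hgen]; exact Subgroup.mem_top v
      let π := QuotientGroup.mk' (Subgroup.zpowers (g ^ (2 : ℤ)))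
      have hga : Commute (π g) (π a) := by
        rw [Commute, SemiconjBy, ← map_mul, ← map_mul]
        exact congrArg π (mul_inv_eq_iff_eq_mul.1 hconja).symm
      have hgb : Commute (π g) (π b) := by
        rw [Commute, SemiconjBy, ← map_mul, ← map_mul, mul_inv_eq_iff_eq_mul.1 hconjb,
          map_mul π (g ^ (2 * e + 1)) b, map_zpow, zpow_add_one, zpow_mul, ← map_zpow,
          show π (g ^ (2 : ℤ)) = 1 from (QuotientGroup.eq_one_iff _).2 (Subgroup.mem_zpowers _),
          one_zpow, one_mul, map_mul]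
      induction hv using Subgroup.closure_induction with
      | mem s hs =>
        rcases hs with rfl | rfl
        · exact hga
        · exact hgb
      | one => rw [map_one]; exact Commute.one_right _
      | mul _ _ _ _ h1 h2 => rw [map_mul]; exact h1.mul_right h2
      | inv _ _ h1 => rw [map_inv]; exact h1.inv_right
  obtain ⟨i, hi⟩ := Subgroup.mem_zpowers_iff.1 (hle hW)
  exact hza (hi ▸ zpow_mem hsq i)

/-- The criterion. -/
theorem isMetacyclic_of_quotient : ∀ (n : ℕ) {T : Type u} [Group T] [Finite T],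
    Nat.card T = n → IsPGroup 2 T → (∃ a b : T, Subgroup.closure {a, b} = ⊤) →
    ∀ (N : Subgroup T) [N.Normal], N ≤ wGroup T → Cfsg.IsMetacyclic (T ⧸ N) →
    Cfsg.IsMetacyclic T := by
  intro n
  induction n using Nat.strong_induction_on with
  | _ n ih =>
  intro T _ _ hn hT hgen N hNn hNW hQ
  haveI : Fact (Nat.Prime 2) := ⟨Nat.prime_two⟩
  have transfer : ∀ {A B : Type u} [Group A] [Group B] (e : A ≃* B),
      Cfsg.IsMetacyclic A → Cfsg.IsMetacyclic B := by
    rintro A B _ _ e ⟨K, hK, hKc, hKq⟩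
    haveI := hK
    haveI : (K.map e.toMonoidHom).Normal := hK.map _ e.surjective
    refine ⟨K.map e.toMonoidHom, inferInstance,
      isCyclic_of_surjective (K.equivMapOfInjective e.toMonoidHom e.injective).toMonoidHom
        (MulEquiv.surjective _), ?_⟩
    exact isCyclic_of_surjective (QuotientGroup.map K (K.map e.toMonoidHom) e.toMonoidHom
      (Subgroup.le_comap_map _ _)) (QuotientGroup.map_surjective_of_surjective _ _ _
        ((QuotientGroup.mk'_surjective _).comp e.surjective) _)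
  by_cases hN : N = ⊥
  · subst hN
    exact transfer QuotientGroup.quotientBot hQ
  haveI := (Subgroup.nontrivial_iff_ne_bot N).2 hN
  -- a central involution of `N`
  obtain ⟨z, hzN, hzc, hz⟩ : ∃ z ∈ N, z ∈ Subgroup.center T ∧ orderOf z = 2 := by
    haveI : Nontrivial ↥(Subgroup.center T ⊓ N) := by
      rw [Subgroup.nontrivial_iff_ne_bot, inf_comm]
      haveI : Group.IsNilpotent T := hT.isNilpotent
      exact CfsgLib.Solvable.inf_center_ne_bot hN
    obtain ⟨k, hk, hcard⟩ := (hT.to_subgroup (Subgroup.center T ⊓ N)).nontrivial_iff_card.1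
      inferInstance
    obtain ⟨w, hw⟩ := exists_prime_orderOf_dvd_card' 2 (G := ↥(Subgroup.center T ⊓ N))
      (by rw [hcard]; exact dvd_pow_self 2 hk.ne')
    exact ⟨w, w.2.2, w.2.1, by rw [Subgroup.orderOf_coe]; exact hw⟩
  set Z := Subgroup.zpowers z with hZ
  haveI hZn : Z.Normal := ⟨fun w hw g => by
    obtain ⟨i, rfl⟩ := Subgroup.mem_zpowers_iff.1 hw
    rw [Subgroup.mem_center_iff.1 (zpow_mem hzc i) g, mul_inv_cancel_right]
    exact ⟨i, rfl⟩⟩
  have hZN : Z ≤ N := Subgroup.zpowers_le.2 hzN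
  let π := QuotientGroup.mk' Z
  have hlt : Nat.card (T ⧸ Z) < n := by
    have h := Subgroup.card_eq_card_quotient_mul_card_subgroup Z
    rw [Nat.card_zpowers, hz, hn] at h
    have : 0 < Nat.card (T ⧸ Z) := Nat.card_pos
    omega
  haveI : (N.map π).Normal := hNn.map π (QuotientGroup.mk'_surjective _)
  have hQ1 : Cfsg.IsMetacyclic ((T ⧸ Z) ⧸ N.map π) :=
    transfer (QuotientGroup.quotientQuotientEquivQuotient Z N hZN).symm hQ
  obtain ⟨a₀, b₀, hab⟩ := hgen
  have hgenQ : ∃ a b : T ⧸ Z, Subgroup.closure {a, b} = ⊤ := ⟨π a₀, π b₀, by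
    rw [← Set.image_pair, ← MonoidHom.map_closure, hab,
      Subgroup.map_top_of_surjective π (QuotientGroup.mk'_surjective _)]⟩
  have hNW1 : N.map π ≤ wGroup (T ⧸ Z) :=
    map_wGroup π (QuotientGroup.mk'_surjective _) ▸ Subgroup.map_mono hNW
  obtain ⟨K, hK, hKc, hKq⟩ := ih _ hlt rfl (hT.to_quotient Z) hgenQ (N.map π) hNW1 hQ1
  haveI := hK
  obtain ⟨⟨aq, haq⟩, hga⟩ := hKc.exists_generator
  obtain ⟨bq, hgb⟩ := hKq.exists_generator
  obtain ⟨bq, rfl⟩ := QuotientGroup.mk_surjective bq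
  obtain ⟨a, rfl⟩ := QuotientGroup.mk_surjective aq
  obtain ⟨b, rfl⟩ := QuotientGroup.mk_surjective bq
  have hKeq : ∀ q ∈ K, ∃ i : ℤ, π a ^ i = q := fun q hq => by
    obtain ⟨i, hi⟩ := hga ⟨q, hq⟩
    exact ⟨i, congrArg Subtype.val hi⟩
  -- `a` and `b` generate
  have hzΦ : z ∈ frattini T :=
    CfsgLib.Solvable.commutator_le_frattini hT (wGroup_le_commutator (hNW hzN))
  have hgenT : Subgroup.closure {a, b} = ⊤ := by
    refine closure_eq_top_of_frattini (eq_top_iff.2 fun g _ => ?_)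
    obtain ⟨j, hj⟩ := hgb (QuotientGroup.mk (π g))
    change ((π b : T ⧸ Z) : (T ⧸ Z) ⧸ K) ^ j = _ at hj
    rw [← QuotientGroup.mk_zpow, QuotientGroup.eq] at hj
    obtain ⟨i, hi⟩ := hKeq _ hj
    rw [← map_zpow, ← map_zpow, ← map_inv, ← map_mul] at hi
    obtain ⟨l, hl⟩ := (QuotientGroup.eq.1 (show ((a ^ i : T) : T ⧸ Z) = _ from hi))
    have hg : g = b ^ j * (a ^ i * z ^ l) := by
      change z ^ l = (a ^ i)⁻¹ * ((b ^ j)⁻¹ * g) at hl
      rw [hl]; group
    rw [hg]
    have haS : a ∈ Subgroup.closure {a, b} := Subgroup.subset_closure (Or.inl rfl)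
    have hbS : b ∈ Subgroup.closure {a, b} := Subgroup.subset_closure (Or.inr rfl)
    exact Subgroup.mul_mem _
      (Subgroup.mem_sup_left (zpow_mem hbS j))
      (Subgroup.mul_mem _
        (Subgroup.mem_sup_left (zpow_mem haS i))
        (Subgroup.mem_sup_right (zpow_mem hzΦ l)))
  obtain ⟨r, hr⟩ := hKeq _ (hK.conj_mem _ haq (π b))
  obtain ⟨f, hf⟩ : ∃ f : ℤ, b * a * b⁻¹ = a ^ r * z ^ f := by
    have h1 : π (a ^ r) = π (b * a * b⁻¹) := by
      rw [map_zpow, hr, map_mul, map_mul, map_inv]; rfl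
    obtain ⟨l, hl⟩ := QuotientGroup.eq.1 (show ((a ^ r : T) : T ⧸ Z) = _ from h1)
    change z ^ l = (a ^ r)⁻¹ * (b * a * b⁻¹) at hl
    exact ⟨l, by rw [hl]; group⟩
  by_cases hza : z ∈ Subgroup.zpowers a
  · refine isMetacyclic_of_normal_zpowers hgenT (normal_zpowers_of_conj hgenT ?_)
    rintro _ (rfl | rfl)
    · simp [Subgroup.mem_zpowers]
    · rw [hf]
      exact mul_mem ⟨r, rfl⟩ (zpow_mem hza f)
  · exfalso
    obtain ⟨e, he⟩ := IsPGroup.iff_orderOf.1 hT a
    exact no_split hgenT hza hzc (by rw [← sq, ← hz, pow_orderOf_eq_one])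
      ⟨e, by rw [← he, pow_orderOf_eq_one]⟩ (hNW hzN) ⟨r, f, hf⟩

end CfsgLib.Bicyclic
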