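import Cfsg.Agent.Bicyclic.Extension
import Cfsg.Agent.MaxClassRealize.GroupsCommon
import Cfsg.Agent.MaxClassRealize.Frame
import Cfsg.Agent.MaxClassRealize.MPairModel
import Cfsg.Agent.SL2Trace.Basic
import Mathlib.FieldTheory.Finite.GaloisField
import Mathlib.NumberTheory.LSeries.PrimesInAP

/-!
# Fusion systems on bicyclic `2`-groups with cyclic derived group

The group is a Sylow `2`-subgroup of an extension of `SL(2,q)` or `PSL(2,q)` by a cyclic group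
inducing a Frobenius map twisted by a diagonal automorphism.
-/

set_option autoImplicit false
set_option linter.style.haveILetI false
set_option linter.unusedSectionVars false

namespace CfsgLib.Bicyclic

open Cfsg CfsgLib.MaxClassRealize
open scoped MatrixGroups

/-! ### Arithmetic -/

theorem exists_min_exponent {u : ℤ} {v r : ℕ} (hv : 2 ≤ v) (hu : 4 ∣ u - 1)
    (hne : ¬ (2 : ℤ) ^ v ∣ u - 1) (hU : (2 : ℤ) ^ v ∣ u ^ (2 ^ r) - 1) :
    ∃ j ≤ r, (2 : ℤ) ^ v ∣ u ^ (2 ^ j) - 1 ∧ ¬ (2 : ℤ) ^ (v + 1) ∣ u ^ (2 ^ j) - 1 := by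
  induction r with
  | zero => exact absurd (by simpa using hU) hne
  | succ r ih =>
    by_cases h : (2 : ℤ) ^ v ∣ u ^ (2 ^ r) - 1
    · obtain ⟨j, hj, h'⟩ := ih h
      exact ⟨j, by omega, h'⟩
    · refine ⟨r + 1, le_rfl, hU, fun hd => h ?_⟩
      obtain ⟨l, hl⟩ : (4 : ℤ) ∣ u ^ (2 ^ r) - 1 := hu.trans (sub_one_dvd_pow_sub_one u _)
      have e : u ^ (2 ^ (r + 1)) - 1 = 2 * ((u ^ (2 ^ r) - 1) * (2 * l + 1)) := by
        rw [pow_succ 2 r, pow_mul,
          show (u ^ 2 ^ r) ^ 2 - 1 = (u ^ 2 ^ r - 1) * (u ^ 2 ^ r + 1) by ring,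
          show u ^ 2 ^ r + 1 = 2 * (2 * l + 1) by linarith]
        ring
      rw [e, pow_succ'] at hd
      refine (IsCoprime.pow_left ?_).dvd_of_dvd_mul_right
        ((mul_dvd_mul_iff_left (two_ne_zero (α := ℤ))).1 hd)
      exact ⟨-l, 1, by ring⟩

theorem exists_prime_exponent {u : ℤ} {v r : ℕ} (hv : 2 ≤ v) (hu : 4 ∣ u - 1)
    (hU : (2 : ℤ) ^ v ∣ u ^ (2 ^ r) - 1) :
    ∃ p j : ℕ, p.Prime ∧ 2 < p ∧ j ≤ r ∧ (2 : ℤ) ^ v ∣ (p : ℤ) - u ∧
      2 ^ v ∣ p ^ 2 ^ j - 1 ∧ ¬ 2 ^ (v + 1) ∣ p ^ 2 ^ j - 1 := by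
  have key : ∀ a : ℤ, Odd a → ∀ j : ℕ, (2 : ℤ) ^ v ∣ a ^ 2 ^ j - 1 →
      ¬ (2 : ℤ) ^ (v + 1) ∣ a ^ 2 ^ j - 1 → (2 : ℤ) ^ v ∣ a - u →
      ∃ p : ℕ, p.Prime ∧ 2 < p ∧ (2 : ℤ) ^ v ∣ (p : ℤ) - u ∧
        2 ^ v ∣ p ^ 2 ^ j - 1 ∧ ¬ 2 ^ (v + 1) ∣ p ^ 2 ^ j - 1 := by
    intro a ha j h1 h2 h3
    obtain ⟨p, hp2, hp, hmod⟩ := Nat.forall_exists_prime_gt_and_zmodEq (q := 2 ^ (v + 1)) (a := a) 2
      (by positivity) (by
        push_cast
        refine IsCoprime.pow_right ?_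
        obtain ⟨k, rfl⟩ := ha
        exact ⟨1, -k, by ring⟩)
    rw [Int.modEq_comm, Int.modEq_iff_dvd] at hmod
    push_cast at hmod
    have hpow : (2 : ℤ) ^ (v + 1) ∣ ((p ^ 2 ^ j - 1 : ℕ) : ℤ) - (a ^ 2 ^ j - 1) := by
      rw [Nat.cast_sub (Nat.one_le_pow _ _ hp.pos)]
      push_cast
      rw [sub_sub_sub_cancel_right]
      exact hmod.trans (sub_dvd_pow_sub_pow _ _ _)
    have hv' : (2 : ℤ) ^ v ∣ (2 : ℤ) ^ (v + 1) := pow_dvd_pow 2 v.le_succ
    refine ⟨p, hp, hp2, ?_, ?_, ?_⟩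
    · rw [show (p : ℤ) - u = ((p : ℤ) - a) + (a - u) by ring]
      exact dvd_add (hv'.trans hmod) h3
    · rw [← Int.natCast_dvd_natCast]
      push_cast
      simpa using dvd_add (hv'.trans hpow) h1
    · intro h
      rw [← Int.natCast_dvd_natCast] at h
      push_cast at h
      exact h2 (by simpa using dvd_sub h hpow)
  have huodd : Odd u := by
    obtain ⟨k, hk⟩ := hu
    exact ⟨2 * k, by omega⟩
  by_cases hu1 : (2 : ℤ) ^ v ∣ u - 1
  · have hodd : Odd ((1 : ℤ) + 2 ^ v) :=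
      ⟨2 ^ (v - 1), by rw [← pow_succ', Nat.sub_add_cancel (by omega)]; ring⟩
    obtain ⟨p, hp⟩ := key (1 + 2 ^ v) hodd 0 (by simp) (by
      rw [pow_zero, pow_one, add_sub_cancel_left]
      intro h
      have := Int.le_of_dvd (by positivity) h
      rw [pow_succ] at this
      have h0 : (0 : ℤ) < 2 ^ v := by positivity
      omega) (by
      rw [show (1 : ℤ) + 2 ^ v - u = 2 ^ v - (u - 1) by ring]
      exact dvd_sub dvd_rfl hu1)
    exact ⟨p, 0, hp.1, hp.2.1, Nat.zero_le _, hp.2.2.1, hp.2.2.2⟩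
  · obtain ⟨j, hj, h1, h2⟩ := exists_min_exponent hv hu hu1 hU
    obtain ⟨p, hp⟩ := key u huodd j h1 h2 (by simp)
    exact ⟨p, j, hp.1, hp.2.1, hj, hp.2.2.1, hp.2.2.2⟩

/-! ### The automorphism of `SL(2, K)` -/

section

variable {K : Type*} [Field K]

/-- A ring automorphism followed by conjugation with a diagonal matrix. -/
noncomputable def twistAut (σ : K ≃+* K) (η : Kˣ) : MulAut SL(2, K) where
  toFun M := ⟨!![σ (M.1 0 0), (η : K)⁻¹ * σ (M.1 0 1); (η : K) * σ (M.1 1 0), σ (M.1 1 1)], by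
    have h := congrArg σ M.2
    rw [Matrix.det_fin_two, map_sub, map_mul, map_mul, map_one] at h
    rw [Matrix.det_fin_two_of,
      show (η : K)⁻¹ * σ (M.1 0 1) * ((η : K) * σ (M.1 1 0)) = σ (M.1 0 1) * σ (M.1 1 0) by
        field_simp]
    exact h⟩
  invFun M := ⟨!![σ.symm (M.1 0 0), σ.symm ((η : K) * M.1 0 1);
      σ.symm ((η : K)⁻¹ * M.1 1 0), σ.symm (M.1 1 1)], by
    have h := congrArg σ.symm M.2
    rw [Matrix.det_fin_two, map_sub, map_mul, map_mul, map_one] at h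
    rw [Matrix.det_fin_two_of, ← map_mul, ← map_mul,
      show (η : K) * M.1 0 1 * ((η : K)⁻¹ * M.1 1 0) = M.1 0 1 * M.1 1 0 by field_simp,
      map_mul, map_mul]
    exact h⟩
  left_inv M := by
    apply Subtype.ext
    ext i j
    fin_cases i <;> fin_cases j <;> simp
  right_inv M := by
    apply Subtype.ext
    ext i j
    fin_cases i <;> fin_cases j <;> simp
  map_mul' M N := by
    apply Subtype.ext
    show !![σ ((M.1 * N.1) 0 0), (η : K)⁻¹ * σ ((M.1 * N.1) 0 1);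
        (η : K) * σ ((M.1 * N.1) 1 0), σ ((M.1 * N.1) 1 1)] =
      !![σ (M.1 0 0), (η : K)⁻¹ * σ (M.1 0 1); (η : K) * σ (M.1 1 0), σ (M.1 1 1)] *
        !![σ (N.1 0 0), (η : K)⁻¹ * σ (N.1 0 1); (η : K) * σ (N.1 1 0), σ (N.1 1 1)]
    ext i j
    fin_cases i <;> fin_cases j <;> simp [Matrix.mul_apply] <;> field_simp

theorem coe_twistAut (σ : K ≃+* K) (η : Kˣ) (M : SL(2, K)) :
    (twistAut σ η M : Matrix (Fin 2) (Fin 2) K) =
      !![σ (M.1 0 0), (η : K)⁻¹ * σ (M.1 0 1); (η : K) * σ (M.1 1 0), σ (M.1 1 1)] := rfl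

theorem twistAut_torus (σ : K ≃+* K) (η μ ν : Kˣ) (h : σ (μ : K) = ν) :
    twistAut σ η (SL2Mult.torusHom K μ) = SL2Mult.torusHom K ν := by
  apply Subtype.ext
  rw [coe_twistAut, SL2Mult.coe_torusHom, SL2Mult.coe_torusHom]
  ext i j
  fin_cases i <;> fin_cases j <;> simp [h]

theorem twistAut_wElt (σ : K ≃+* K) (η : Kˣ) :
    twistAut σ η (FusionMetaSuper.wElt K) = FusionMetaSuper.wElt K * SL2Mult.torusHom K η := by
  apply Subtype.ext
  rw [coe_twistAut, Matrix.SpecialLinearGroup.coe_mul, coe_wElt, SL2Mult.coe_torusHom]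
  ext i j
  fin_cases i <;> fin_cases j <;> simp [Matrix.mul_apply]

theorem zpow_eq_zpow_of_dvd {G : Type*} [Group G] {g : G} {v : ℕ} (h : orderOf g = 2 ^ v) {k l : ℤ}
    (hd : (2 : ℤ) ^ v ∣ k - l) : g ^ k = g ^ l :=
  (zpow_eq_zpow_iff_dvd h k l).2 hd

theorem twistAut_pow {p : ℕ} (σ : K ≃+* K) (hσ : ∀ x, σ x = x ^ p) (ζ : Kˣ) {v : ℕ} {u : ℤ}
    (hζ : orderOf ζ = 2 ^ v) (hpu : (2 : ℤ) ^ v ∣ (p : ℤ) - u) (k : ℕ) (M : SL(2, K)) :
    ((twistAut σ ζ ^ k) M).1 =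
      !![(M.1 0 0) ^ p ^ k, ((ζ ^ geomS u k : Kˣ) : K)⁻¹ * (M.1 0 1) ^ p ^ k;
        ((ζ ^ geomS u k : Kˣ) : K) * (M.1 1 0) ^ p ^ k, (M.1 1 1) ^ p ^ k] := by
  induction k with
  | zero =>
    ext i j
    fin_cases i <;> fin_cases j <;> simp [geomS]
  | succ k ih =>
    rw [pow_succ', MulAut.mul_apply, coe_twistAut, ih]
    have e : ((ζ ^ geomS u (k + 1) : Kˣ) : K) = (ζ : K) * ((ζ ^ geomS u k : Kˣ) : K) ^ p := by
      rw [← Units.val_pow_eq_pow_val, ← Units.val_mul, ← zpow_natCast, ← zpow_mul, ← zpow_one_add,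
        add_comm k 1, geomS_add]
      refine congrArg Units.val (zpow_eq_zpow_of_dvd hζ ?_)
      rw [show geomS u 1 + u ^ 1 * geomS u k - (1 + geomS u k * (p : ℤ)) =
        ((p : ℤ) - u) * -geomS u k by simp [geomS]; ring]
      exact hpu.mul_right _
    have e' : ∀ x : K, (x ^ p ^ k) ^ p = x ^ p ^ (k + 1) := fun x => by rw [← pow_mul, pow_succ]
    rw [e]
    ext i j
    fin_cases i <;> fin_cases j <;> simp [hσ, mul_pow, inv_pow, e', mul_assoc] <;> ring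

theorem torus_conj_coe (z : Kˣ) (M : SL(2, K)) :
    ((SL2Mult.torusHom K z)⁻¹ * M * SL2Mult.torusHom K z).1 =
      !![M.1 0 0, (z : K)⁻¹ * (z : K)⁻¹ * M.1 0 1; (z : K) * (z : K) * M.1 1 0, M.1 1 1] := by
  rw [← map_inv, Matrix.SpecialLinearGroup.coe_mul, Matrix.SpecialLinearGroup.coe_mul,
    SL2Mult.coe_torusHom, SL2Mult.coe_torusHom]
  ext a b
  fin_cases a <;> fin_cases b <;> simp [Matrix.mul_apply, Matrix.vecMul, dotProduct] <;>
    field_simp

theorem wElt_ne_torus (z : Kˣ) : FusionMetaSuper.wElt K ≠ SL2Mult.torusHom K z ∧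
    FusionMetaSuper.wElt K ≠ -SL2Mult.torusHom K z := by
  refine ⟨fun h => ?_, fun h => ?_⟩ <;>
  · have := congrArg (fun M : SL(2, K) => (M : Matrix (Fin 2) (Fin 2) K) 0 0) h
    simp [coe_wElt, eq_comm, z.ne_zero] at this

/-- The element carrying `w` to a torus element of order four. -/
theorem exists_conj_wElt {I : Kˣ} (h2 : (2 : K) ≠ 0) (hI : I ^ 2 = -1) :
    ∃ g : SL(2, K), g * FusionMetaSuper.wElt K * g⁻¹ = SL2Mult.torusHom K I := by
  have hI' : (I : K) * I = -1 := by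
    rw [← Units.val_mul, ← sq, hI, Units.val_neg, Units.val_one]
  have hinv : (I : K)⁻¹ = -I := inv_eq_of_mul_eq_one_right (by rw [mul_neg, hI', neg_neg])
  let g : SL(2, K) := ⟨!![-((I : K) / 2), -(1 / 2); 1, (I : K)], by
    rw [Matrix.det_fin_two_of]
    field_simp
    linear_combination (-1 : K) * hI'⟩
  refine ⟨g, ?_⟩
  rw [mul_inv_eq_iff_eq_mul]
  apply Subtype.ext
  rw [Matrix.SpecialLinearGroup.coe_mul, Matrix.SpecialLinearGroup.coe_mul, coe_wElt,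
    SL2Mult.coe_torusHom, hinv]
  ext i j
  fin_cases i <;> fin_cases j <;> simp [g, Matrix.mul_apply] <;> field_simp <;>
    linear_combination (1 : K) * hI'

end

/-! ### From `SL(2, q)` to a fusion system -/

variable {Ω : Type*} [Group Ω] {S : Subgroup Ω} [Finite S]
variable {c t a : S} {n v m : ℕ} {u i : ℤ}

theorem Data.zpowers_normal (d : Data c t a n v m u i) : (Subgroup.zpowers c).Normal := by
  refine normal_zpowers_of_conj (S := ({c, t, a⁻¹} : Set S)) ?_ ?_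
  · refine eq_top_iff.2 (d.gen ▸ (Subgroup.closure_le _).2 ?_)
    rintro g (rfl | rfl | rfl)
    · exact Subgroup.subset_closure (by simp)
    · exact Subgroup.subset_closure (by simp)
    · simpa using inv_mem (Subgroup.subset_closure (by simp) :
        g⁻¹ ∈ Subgroup.closure ({c, t, g⁻¹} : Set S))
  · rintro g (rfl | rfl | rfl)
    · rw [mul_inv_cancel_right]; exact Subgroup.mem_zpowers _
    · rw [d.tc]; exact inv_mem (Subgroup.mem_zpowers _)
    · rw [inv_inv, d.ac]; exact zpow_mem (Subgroup.mem_zpowers _) u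

/-- A finite group with the right Sylow subgroup and fusing `t` into `⟨c⟩`. -/
theorem Data.exists_system (d : Data c t a n v m u i) {e : ℕ} (htt : t * t = c ^ e)
    {L : Type} [Group L] [Finite L] (α : MulAut L) (C B g : L) (hC : orderOf C = 2 ^ n)
    (hB : B ∉ Subgroup.zpowers C) (hBC : B * C * B⁻¹ = C⁻¹) (hBB : B * B = C ^ e)
    (hαC : α C = C ^ u) (hαB : α B = B * C) (hαm : ∀ l, (α ^ m) l = (C ^ i)⁻¹ * l * C ^ i)
    {o : ℕ} (ho : Odd o) (hcard : Nat.card L = 2 ^ (n + 1) * o) {k : ℕ}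
    (hg : g * B * g⁻¹ = C ^ k) :
    ∃ F : Cfsg.FusionSystem S, F.IsSaturated 2 ∧
      ¬ ∀ P : Subgroup Ω, F.Hom P = (Cfsg.innerFusionSystem S).Hom P := by
  haveI : Fact (Nat.Prime 2) := ⟨Nat.prime_two⟩
  obtain ⟨r, hr⟩ := d.mpos
  have hm : 0 < m := hr ▸ Nat.two_pow_pos r
  have hdvd : (2 : ℤ) ^ n ∣ u * i - i := by
    rw [← zpow_eq_zpow_iff_dvd d.order, zpow_mul, ← d.ac]
    have h := conj_zpow (i := i) (a := a⁻¹) (b := c)
    rw [inv_inv] at h
    rw [h, ← d.am, mul_assoc, ← pow_succ, pow_succ', inv_mul_cancel_left]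
  have hfix : α (C ^ i) = C ^ i := by
    rw [map_zpow, hαC, ← zpow_mul]
    exact (zpow_eq_zpow_iff_dvd hC _ _).2 hdvd
  obtain ⟨G, _, _, j, A, hj, hA, hAm, hcG, hAr⟩ := exists_cyclicExtension α (C ^ i) hm hfix hαm
  have R : Rels c t a n m e u i :=
    ⟨by rw [← d.order, pow_orderOf_eq_one], d.tc, d.ac, d.at', d.am, htt⟩
  have R' : Rels (j C) (j B) A n m e u i :=
    ⟨by rw [← map_pow, ← hC, pow_orderOf_eq_one, map_one],
      by rw [← map_inv, ← map_mul, ← map_mul, hBC, map_inv],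
      by rw [hA, hαC, map_zpow], by rw [hA, hαB, map_mul], by rw [hAm, map_zpow],
      by rw [← map_mul, hBB, map_pow]⟩
  obtain ⟨f, hf, hfc, hft, -⟩ := d.exists_hom R R' (by rw [orderOf_injective j hj, hC])
    (by
      rintro ⟨l, hl⟩
      exact hB ⟨l, hj (by rw [map_zpow]; exact hl)⟩)
    (fun r hr => hAr r ((Subgroup.closure_le j.range).2 (by
      rintro x (rfl | rfl)
      · exact ⟨C, rfl⟩
      · exact ⟨B, rfl⟩) hr))
  have hcS : Nat.card S = 2 ^ (n + 1 + r) := by rw [d.card, hr, pow_add 2 (n + 1) r]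
  obtain ⟨P, hP⟩ := exists_sylow hf hcS (by
    rw [hcG, hcard, hr, mul_right_comm, ← pow_add, pow_succ,
      Nat.mul_dvd_mul_iff_left (Nat.two_pow_pos _)]
    exact ho.not_two_dvd_nat)
  refine ⟨pull f hf, isSaturated_pull P hP, fun hinn => ?_⟩
  have hgf : j g * f t * (j g)⁻¹ = f (c ^ k) := by
    rw [hft, ← map_inv, ← map_mul, ← map_mul, hg, map_pow, map_pow, hfc]
  let Pt : Subgroup Ω := (Subgroup.zpowers t).map S.subtype
  have hPt : Pt ≤ S := Subgroup.map_subtype_le _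
  have himg : ∀ x : Pt, j g * f ⟨x, hPt x.2⟩ * (j g)⁻¹ ∈ f.range := by
    rintro ⟨_, s, ⟨l, rfl⟩, rfl⟩
    refine ⟨(c ^ k) ^ l, ?_⟩
    rw [map_zpow, ← hgf, conj_zpow, ← map_zpow]
    rfl
  let ψ : Pt →* f.range :=
    (((MulAut.conj (j g)).toMonoidHom.comp f).comp (Subgroup.inclusion hPt)).codRestrict f.range himg
  let φ : Pt →* Ω := (S.subtype.comp (MonoidHom.ofInjective hf).symm.toMonoidHom).comp ψ
  have hfφ : ∀ x : Pt, f ((MonoidHom.ofInjective hf).symm (ψ x)) = j g * f ⟨x, hPt x.2⟩ * (j g)⁻¹ :=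
    fun x => congrArg Subtype.val ((MonoidHom.ofInjective hf).apply_symm_apply (ψ x))
  have hφmem : φ ∈ (pull f hf).Hom Pt :=
    ⟨hPt, fun x => ((MonoidHom.ofInjective hf).symm (ψ x)).2, j g, fun x => hfφ x⟩
  rw [hinn Pt] at hφmem
  obtain ⟨-, s, hs, hsx⟩ := hφmem
  have htP : (t : Ω) ∈ Pt := ⟨t, Subgroup.mem_zpowers t, rfl⟩
  have h1 : ((MonoidHom.ofInjective hf).symm (ψ ⟨t, htP⟩) : S) = c ^ k := hf ((hfφ _).trans hgf)
  have h2 : c ^ k = (⟨s, hs⟩ : S) * t * (⟨s, hs⟩ : S)⁻¹ :=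
    h1.symm.trans (Subtype.ext (hsx ⟨t, htP⟩))
  have h3 := (d.zpowers_normal).conj_mem (c ^ k) (pow_mem (Subgroup.mem_zpowers c) k) (⟨s, hs⟩ : S)⁻¹
  rw [h2, inv_inv] at h3
  exact d.tnot (by simpa [mul_assoc] using h3)

/-- A bicyclic `2`-group with cyclic derived group carries a system that is not inner. -/
theorem Data.exists_noninner (d : Data c t a n v m u i) :
    ∃ F : Cfsg.FusionSystem S, F.IsSaturated 2 ∧
      ¬ ∀ P : Subgroup Ω, F.Hom P = (Cfsg.innerFusionSystem S).Hom P := by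
  obtain ⟨r, rfl⟩ := d.mpos
  obtain ⟨p, j, hp, hp2, hjr, hpu, hd1, hd2⟩ := exists_prime_exponent d.two_le d.u4 d.hU
  haveI : Fact p.Prime := ⟨hp⟩
  have hf0 : 2 ^ j ≠ 0 := (Nat.two_pow_pos j).ne'
  let K := GaloisField p (2 ^ j)
  letI : Fintype K := Fintype.ofFinite K
  have hK : Nat.card K = p ^ 2 ^ j := GaloisField.card p _ hf0
  have hKF : Fintype.card K = p ^ 2 ^ j := by rw [← Nat.card_eq_fintype_card]; exact hK
  let σ : K ≃+* K := frobeniusEquiv K p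
  have hσ : ∀ x : K, σ x = x ^ p := frobeniusEquiv_def K p
  obtain ⟨ζ, hζ⟩ := exists_orderOf_units (K := K) (m := 2 ^ v) (hK.symm ▸ hd1)
  have h2K : (2 : K) ≠ 0 := Ring.two_ne_zero (by rw [ringChar.eq K p]; omega)
  have hneg : ζ ^ 2 ^ (v - 1) = -1 := pow_half_order (by have := d.two_le; omega) hζ
  let C₀ : SL(2, K) := SL2Mult.torusHom K ζ
  let B₀ : SL(2, K) := FusionMetaSuper.wElt K
  let α₀ : MulAut SL(2, K) := twistAut σ ζ
  have hC₀ : ∀ k : ℤ, C₀ ^ k = SL2Mult.torusHom K (ζ ^ k) := fun k => (map_zpow _ _ _).symm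
  have hαC : α₀ C₀ = C₀ ^ u := by
    rw [hC₀]
    refine twistAut_torus σ ζ ζ _ ?_
    rw [hσ, ← Units.val_pow_eq_pow_val, ← zpow_natCast, zpow_eq_zpow_of_dvd hζ hpu]
  have hαB : α₀ B₀ = B₀ * C₀ := twistAut_wElt σ ζ
  have hαm : ∀ l, (α₀ ^ 2 ^ r) l = (C₀ ^ i)⁻¹ * l * C₀ ^ i := by
    intro l
    have hfix : ∀ x : K, x ^ p ^ 2 ^ r = x := by
      intro x
      rw [show p ^ 2 ^ r = Fintype.card K ^ 2 ^ (r - j) by
        rw [hKF, ← pow_mul, ← pow_add, Nat.add_sub_cancel' hjr]]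
      exact FiniteField.pow_card_pow _ x
    apply Subtype.ext
    rw [twistAut_pow σ hσ ζ hζ hpu, hC₀, torus_conj_coe,
      show ζ ^ geomS u (2 ^ r) = ζ ^ i * ζ ^ i by
        rw [← zpow_add, zpow_eq_zpow_of_dvd hζ (show (2 : ℤ) ^ v ∣ geomS u (2 ^ r) - (i + i) by
          rw [← two_mul]; exact d.hS)], Units.val_mul, mul_inv, hfix, hfix, hfix, hfix]
  obtain ⟨g₀, hg₀⟩ : ∃ g : SL(2, K), g * B₀ * g⁻¹ = C₀ ^ 2 ^ (v - 2) := by
    obtain ⟨g, hg⟩ := exists_conj_wElt (I := ζ ^ 2 ^ (v - 2)) h2K (by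
      rw [← pow_mul, ← pow_succ, show v - 2 + 1 = v - 1 by have := d.two_le; omega, hneg])
    exact ⟨g, by rw [hg]; exact map_pow _ _ _⟩
  -- the order
  obtain ⟨o, hod, hcardSL⟩ : ∃ o, Odd o ∧ Nat.card SL(2, K) = 2 ^ (v + 1) * o := by
    obtain ⟨o, ho⟩ := hd1
    have hoo : Odd o := by
      rw [← Nat.not_even_iff_odd]
      rintro ⟨o', rfl⟩
      exact hd2 ⟨o', by rw [ho, pow_succ]; ring⟩
    have hq0 := Nat.one_le_pow (2 ^ j) p hp.pos
    have hq : p ^ 2 ^ j = 2 ^ v * o + 1 := by omega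
    have he : Even (2 ^ (v - 1) * o) :=
      Even.mul_right ((Nat.even_pow).2 ⟨even_two, by have := d.two_le; omega⟩) o
    refine ⟨p ^ 2 ^ j * o * (2 ^ (v - 1) * o + 1),
      (((hp.odd_of_ne_two (by omega)).pow).mul hoo).mul he.add_one, ?_⟩
    have hv : 2 ^ v = 2 * 2 ^ (v - 1) := by
      rw [← pow_succ', Nat.sub_add_cancel]; have := d.two_le; omega
    rw [Linear.card_SL_two, hKF]
    have h1 : (p ^ 2 ^ j) ^ 2 - 1 = 2 ^ v * o * (2 * (2 ^ (v - 1) * o + 1)) := by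
      refine Nat.sub_eq_of_eq_add ?_
      rw [hq, hv]; ring
    rw [h1, pow_succ]
    ring
  have hBC₀ : B₀ * C₀ * B₀⁻¹ = C₀⁻¹ := wElt_conj_torus ζ
  have hBB₀ : B₀ * B₀ = C₀ ^ 2 ^ (v - 1) := by
    rw [wElt_mul_wElt, show C₀ ^ 2 ^ (v - 1) = SL2Mult.torusHom K (ζ ^ 2 ^ (v - 1)) from
      (map_pow _ _ _).symm, hneg, torusHom_neg_one]
  have hB00 : ∀ k : ℤ, B₀ ≠ C₀ ^ k ∧ B₀ ≠ -(C₀ ^ k) := by
    intro k
    rw [hC₀]
    exact wElt_ne_torus (ζ ^ k)
  rcases d.kind with ⟨hvn, htt⟩ | ⟨hvn, htt⟩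
  · subst hvn
    refine d.exists_system htt α₀ C₀ B₀ g₀ ?_ ?_ hBC₀ hBB₀ hαC hαB hαm hod hcardSL hg₀
    · rw [orderOf_injective _ SL2Mult.torusHom_injective, hζ]
    · rintro ⟨k, hk⟩
      exact (hB00 k).1 hk.symm
  · subst hvn
    let π := QuotientGroup.mk' (Subgroup.center SL(2, K))
    have hone : ∀ g, π g = 1 ↔ g = 1 ∨ g = -1 := SL2Trace.proj_eq_one_iff
    let α : MulAut (SL(2, K) ⧸ Subgroup.center SL(2, K)) :=
      QuotientGroup.congr _ _ α₀ (Subgroup.characteristic_iff_map_eq.1 inferInstance α₀)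
    have hα : ∀ l, α (π l) = π (α₀ l) := fun l => rfl
    have hαpow : ∀ (k : ℕ) l, (α ^ k) (π l) = π ((α₀ ^ k) l) := by
      intro k
      induction k with
      | zero => exact fun l => rfl
      | succ k ih => intro l; rw [pow_succ', pow_succ', MulAut.mul_apply, MulAut.mul_apply, ih, hα]
    have hC : orderOf (π C₀) = 2 ^ n := by
      have h1 : π C₀ ^ 2 ^ n = 1 := by
        rw [← map_pow, hone]
        refine Or.inr ?_
        rw [show C₀ ^ 2 ^ n = SL2Mult.torusHom K (ζ ^ 2 ^ n) from (map_pow _ _ _).symm,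
          show ζ ^ 2 ^ n = -1 by rw [← hneg, Nat.add_sub_cancel], torusHom_neg_one]
      have h2 : ¬ π C₀ ^ 2 ^ (n - 1) = 1 := by
        rw [← map_pow, hone, show C₀ ^ 2 ^ (n - 1) = SL2Mult.torusHom K (ζ ^ 2 ^ (n - 1)) from
          (map_pow _ _ _).symm]
        have hord : orderOf (ζ ^ 2 ^ (n - 1)) = 4 := by
          have := d.one_le
          rw [orderOf_pow' _ (pow_ne_zero _ two_ne_zero), hζ,
            Nat.gcd_eq_right (pow_dvd_pow 2 (by omega)), Nat.pow_div (by omega) two_pos,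
            show n + 1 - (n - 1) = 2 by omega]
          norm_num
        rintro (h | h)
        · rw [torusHom_eq_one.1 h, orderOf_one] at hord
          omega
        · rw [← torusHom_neg_one] at h
          rw [SL2Mult.torusHom_injective h] at hord
          have := orderOf_le_of_pow_eq_one two_pos (show (-1 : Kˣ) ^ 2 = 1 by simp)
          omega
      have := orderOf_eq_prime_pow (p := 2) (n := n - 1) h2
        (by rwa [Nat.sub_add_cancel d.one_le])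
      rwa [Nat.sub_add_cancel d.one_le] at this
    obtain ⟨o', ho', hcard⟩ : ∃ o', Odd o' ∧
        Nat.card (SL(2, K) ⧸ Subgroup.center SL(2, K)) = 2 ^ (n + 1) * o' := by
      refine ⟨o, hod, ?_⟩
      have h := Linear.card_PSL_two_odd (F := K) (by
        rw [hKF]; exact (hp.odd_of_ne_two (by omega)).pow)
      rw [← Linear.card_SL_two, hcardSL, show 2 ^ (n + 1 + 1) * o = 2 * (2 ^ (n + 1) * o) by ring]
        at h
      exact Nat.eq_of_mul_eq_mul_left two_pos h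
    refine d.exists_system (e := 0) (by rw [htt, pow_zero]) α (π C₀) (π B₀) (π g₀) hC ?_ ?_ ?_ ?_
      ?_ ?_ ho' hcard (k := 2 ^ (n + 1 - 2)) ?_
    · rintro ⟨k, hk⟩
      have h : π ((C₀ ^ k)⁻¹ * B₀) = 1 := by
        rw [map_mul, map_inv, map_zpow, ← hk, inv_mul_cancel]
      rcases (hone _).1 h with h | h
      · exact (hB00 k).1 (inv_mul_eq_one.1 h).symm
      · refine (hB00 k).2 ?_
        rw [inv_mul_eq_iff_eq_mul, mul_neg, mul_one] at h
        exact h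
    · rw [← map_inv, ← map_inv, ← map_mul, ← map_mul, hBC₀]
    · rw [pow_zero, ← map_mul, hone]
      exact Or.inr (wElt_mul_wElt K)
    · rw [hα, hαC, map_zpow]
    · rw [hα, hαB, map_mul]
    · intro l
      obtain ⟨l, rfl⟩ := QuotientGroup.mk'_surjective _ l
      rw [hαpow, hαm, map_mul, map_mul, map_inv, map_zpow]
    · rw [← map_inv, ← map_mul, ← map_mul, hg₀, map_pow]

end CfsgLib.Bicyclic
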