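import Cfsg.Agent.Bicyclic.Plane
import Cfsg.Agent.FusionMetacyclic.Extension

/-!
# The position of `U` and of the Frattini subgroup relative to an essential subgroup

For a non-cyclic derived group: `U ≤ P`, and `Φ(T)` is not inside `P`.
-/

set_option autoImplicit false
set_option linter.style.haveILetI false
set_option linter.unusedSectionVars false

namespace CfsgLib.Bicyclic

open scoped commutatorElement

variable {T : Type*} [Group T]

theorem exists_involution_pow (hT : IsPGroup 2 T) {c : T} (hc : c ≠ 1) :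
    ∃ k : ℕ, c ^ k * c ^ k = 1 ∧ c ^ k ≠ 1 := by
  classical
  have hex : ∃ j, c ^ 2 ^ j = 1 := hT c
  rcases hj : Nat.find hex with _ | j
  · have := Nat.find_spec hex
    rw [hj, pow_zero, pow_one] at this
    exact absurd this hc
  · refine ⟨2 ^ j, ?_, Nat.find_min hex (by omega)⟩
    rw [← pow_add, ← two_mul, ← pow_succ', ← hj]
    exact Nat.find_spec hex

variable [Finite T]

/-- The elements of a subgroup of order four. -/
theorem mem_four {H : Subgroup T} (h4 : Nat.card H = 4) {a b v : T} (ha : a ∈ H) (hb : b ∈ H)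
    (hv : v ∈ H) (ha1 : a ≠ 1) (hb1 : b ≠ 1) (hab : a ≠ b) (hab1 : a * b ≠ 1) :
    v = 1 ∨ v = a ∨ v = b ∨ v = a * b := by
  by_contra hne
  push Not at hne
  obtain ⟨n1, n2, n3, n4⟩ := hne
  let f : Fin 5 → H := ![1, ⟨a, ha⟩, ⟨b, hb⟩, ⟨a * b, mul_mem ha hb⟩, ⟨v, hv⟩]
  have m1 : a * b ≠ a := fun e => hb1 (mul_eq_left.1 e)
  have m2 : a * b ≠ b := fun e => ha1 (mul_eq_right.1 e)
  have hf : Function.Injective f := by
    intro i j hij
    have h' : ((f i : H) : T) = f j := congrArg Subtype.val hij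
    fin_cases i <;> fin_cases j <;>
      first
        | rfl
        | simp [f, ha1, ha1.symm, hb1, hb1.symm, hab, hab.symm, hab1, hab1.symm, m1, m1.symm, m2,
            m2.symm, n1, n1.symm, n2, n2.symm, n3, n3.symm, n4, n4.symm] at h'
  have h5 := Nat.card_le_card_of_injective f hf
  rw [h4] at h5
  simp at h5

/-- Growth of normalizers, with a square inside. -/
theorem exists_normalizer_step (hT : IsPGroup 2 T) {P K : Subgroup T} (hle : P ≤ K) {g : T}
    (hgK : g ∈ K) (hg : g ∉ P) :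
    ∃ s ∈ K, s ∈ Subgroup.normalizer (P : Set T) ∧ s ∉ P ∧ s * s ∈ P := by
  classical
  haveI : Fact (Nat.Prime 2) := ⟨Nat.prime_two⟩
  haveI : Group.IsNilpotent K := (hT.to_subgroup K).isNilpotent
  have hne : P.subgroupOf K ≠ ⊤ := fun e =>
    hg (Subgroup.mem_subgroupOf.1 (e ▸ Subgroup.mem_top (⟨g, hgK⟩ : K)))
  obtain ⟨t, ht, htP⟩ := SetLike.exists_of_lt
    (Group.normalizerCondition_of_isNilpotent _ hne.lt_top)
  have htN : (t : T) ∈ Subgroup.normalizer (P : Set T) := Subgroup.mem_normalizer_iff.2 fun w =>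
    ⟨fun hw => Subgroup.mem_subgroupOf.1
      ((Subgroup.mem_normalizer_iff.1 ht ⟨w, hle hw⟩).1 (Subgroup.mem_subgroupOf.2 hw)),
     fun hw => by
      have hwK : w ∈ K := by
        simpa [mul_assoc] using mul_mem (mul_mem (inv_mem t.2) (hle hw)) t.2
      exact Subgroup.mem_subgroupOf.1
        ((Subgroup.mem_normalizer_iff.1 ht ⟨w, hwK⟩).2 (Subgroup.mem_subgroupOf.2 hw))⟩
  have hex : ∃ j, (t : T) ^ 2 ^ j ∈ P := by
    obtain ⟨k, hk⟩ := hT (t : T)
    exact ⟨k, by rw [hk]; exact one_mem _⟩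
  rcases hj : Nat.find hex with _ | j
  · have := Nat.find_spec hex
    rw [hj, pow_zero, pow_one] at this
    exact absurd (Subgroup.mem_subgroupOf.2 this) htP
  · refine ⟨(t : T) ^ 2 ^ j, pow_mem t.2 _, pow_mem htN _, Nat.find_min hex (by omega), ?_⟩
    rw [← pow_add, ← two_mul, ← pow_succ', ← hj]
    exact Nat.find_spec hex

open DihedralGroup in
theorem false_of_dihedral (hnm : ¬ Cfsg.IsMetacyclic T)
    (hd : (∃ n : ℕ, Nonempty (T ≃* DihedralGroup n)) ∨ Cfsg.IsQuasiDihedral T) : False := by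
  rcases hd with ⟨n, ⟨e⟩⟩ | ⟨n, -, hcard, a, -, ha, -, -⟩
  · have hr : ∀ i : ZMod n, e.symm (r i) ∈ Subgroup.zpowers (e.symm (r 1)) := fun i => by
      obtain ⟨k, rfl⟩ := ZMod.intCast_surjective i
      exact ⟨k, by show e.symm (r 1) ^ k = _; rw [← map_zpow, r_one_zpow]⟩
    have hN : (Subgroup.zpowers (e.symm (r 1))).Normal :=
      normal_zpowers_of_conj Subgroup.closure_univ fun s _ => by
        obtain ⟨q, rfl⟩ := e.symm.surjective s
        rw [← map_inv, ← map_mul, ← map_mul]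
        rcases q with i | i <;> simp [hr]
    refine hnm (isMetacyclic_of_gen hN inferInstance (e.symm (sr 0)) fun g => ?_)
    obtain ⟨q, rfl⟩ := e.symm.surjective g
    rcases q with i | i
    · exact ⟨0, by simpa using hr i⟩
    · exact ⟨1, by rw [zpow_one, ← map_inv, ← map_mul]; simp [hr]⟩
  · have hidx : (Subgroup.zpowers a).index = 2 := by
      have h1 := Subgroup.card_mul_index (Subgroup.zpowers a)
      rw [Nat.card_zpowers, ha, hcard, pow_succ] at h1
      exact Nat.eq_of_mul_eq_mul_left (Nat.two_pow_pos n) h1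
    have hN := Subgroup.normal_of_index_eq_two hidx
    obtain ⟨c, hc⟩ : ∃ c, c ∉ Subgroup.zpowers a := by
      by_contra hall
      push Not at hall
      rw [show Subgroup.zpowers a = ⊤ from eq_top_iff.2 fun g _ => hall g, Subgroup.index_top] at hidx
      omega
    refine hnm (isMetacyclic_of_gen hN inferInstance c fun g => ?_)
    by_cases hg : g ∈ Subgroup.zpowers a
    · exact ⟨0, by simpa using hg⟩
    · exact ⟨1, by
        rw [zpow_one]
        exact (Subgroup.mul_mem_iff_of_index_two hidx).2 (by simp [hg, hc])⟩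

variable {x y : T} {h : Std x y} {P : Subgroup T} {𝒜 Y : Subgroup (MulAut P)} {s : T} {ω : MulAut P}
  {n : Subgroup.normalizer (P : Set T)}

section sit

variable (S : Sit h 𝒜 Y s ω n)
include S

theorem Sit.commutator_mem_zs {a b : T} (ha : a ∈ xs ω) (hb : b ∈ xs ω) : ⁅a, b⁆ ∈ zs ω := by
  haveI : Fact (Nat.Prime 2) := ⟨Nat.prime_two⟩
  obtain ⟨_, ha'⟩ := mem_xs.1 ha
  obtain ⟨_, hb'⟩ := mem_xs.1 hb
  exact mem_zs.2 ⟨⁅(⟨_, ha'⟩ : comSub ω), ⟨_, hb'⟩⁆,
    Solvable.commutator_le_frattini S.xs_facts.1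
      (Subgroup.commutator_mem_commutator (Subgroup.mem_top _) (Subgroup.mem_top _)), rfl⟩

theorem Sit.sq_mem_zs {a : T} (ha : a ∈ xs ω) : a * a ∈ zs ω := by
  haveI : Fact (Nat.Prime 2) := ⟨Nat.prime_two⟩
  obtain ⟨_, ha'⟩ := mem_xs.1 ha
  exact mem_zs.2 ⟨(⟨_, ha'⟩ : comSub ω) ^ 2, Solvable.pow_mem_frattini S.xs_facts.1 _, by
    rw [sq]; rfl⟩

theorem Sit.quat_mem_zs {z : T} (hQ : IsQuat ω z) : z ∈ zs ω := by
  obtain ⟨a, ha, b, hb, hab⟩ := hQ.noncomm
  obtain ⟨k, hk⟩ := hQ.frat (S.commutator_mem_zs ha hb)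
  change z ^ k = ⁅a, b⁆ at hk
  rcases Int.even_or_odd k with ⟨m, rfl⟩ | ⟨m, rfl⟩
  · rw [← two_mul, zpow_mul, zpow_ofNat, sq, hQ.zz, one_zpow, eq_comm,
      commutatorElement_eq_one_iff_mul_comm] at hk
    exact absurd hk hab
  · rw [zpow_add, zpow_mul, zpow_ofNat, sq, hQ.zz, one_zpow, one_mul, zpow_one] at hk
    exact hk ▸ S.commutator_mem_zs ha hb

theorem Sit.cs_comm (hX : IsElem ω ∨ ∃ z, IsQuat ω z) {c v : T} (hc : c ∈ cs ω) (hv : v ∈ xs ω) :
    c * v = v * c := by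
  rcases hX with hE | ⟨z, hQ⟩
  · exact S.cs_comm_involution hE.comm hc hv (hE.sq v hv)
  · exact S.cs_comm_quat hQ hc hv

theorem Sit.commute_of_central (hX : IsElem ω ∨ ∃ z, IsQuat ω z) {z p : T} (hz : z ∈ xs ω)
    (hzc : ∀ a ∈ xs ω, z * a = a * z) (hp : p ∈ P) : Commute p z := by
  obtain ⟨v, hv, c, hc, rfl⟩ := S.decomp hp
  exact Commute.mul_left (hzc v hv).symm (S.cs_comm hX hc hz)

theorem Sit.commutator_left_mem (hX : IsElem ω ∨ ∃ z, IsQuat ω z) {p v : T} (hp : p ∈ P)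
    (hv : v ∈ xs ω) : ⁅p, v⁆ ∈ zs ω := by
  obtain ⟨a, ha, c, hc, rfl⟩ := S.decomp hp
  have h1 : c * v * c⁻¹ = v := mul_inv_eq_iff_eq_mul.2 (S.cs_comm hX hc hv)
  rw [show ⁅a * c, v⁆ = a * (c * v * c⁻¹) * a⁻¹ * v⁻¹ by rw [commutatorElement_def]; group, h1,
    ← commutatorElement_def]
  exact S.commutator_mem_zs ha hv

/-- The element `s` cannot centralize `U` when the involutions of an abelian `[P, ω]` are in `Φ(T)`. -/
theorem Sit.false_of_central (hA : ¬ IsCyclic ↥(commutator T))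
    (hc : ∀ a ∈ xs ω, ∀ b ∈ xs ω, a * b = b * a) (hI : ∀ v ∈ xs ω, v * v = 1 → v ∈ frattini T)
    (hs : ∀ u ∈ uSub h.toPair, s * u = u * s) : False := by
  refine S.false_of_fix_involutions hc fun v hv hv2 => ?_
  have hvU := h.mem_uSub hA (hI v hv hv2) (by rw [sq]; exact hv2)
  have h1 : s * v * s⁻¹ = v := mul_inv_eq_iff_eq_mul.2 (hs v hvU)
  obtain ⟨a, ha, c, hcc, hp⟩ := S.decomp S.ns
  rw [show (n : T) * v * (n : T)⁻¹ =
      (n : T) * s⁻¹ * (s * v * s⁻¹) * ((n : T) * s⁻¹)⁻¹ by group, h1, hp,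
    show a * c * v * (a * c)⁻¹ = a * (c * v * c⁻¹) * a⁻¹ by group,
    mul_inv_eq_iff_eq_mul.2 (S.cs_comm_involution hc hcc hv hv2)]
  exact mul_inv_eq_iff_eq_mul.2 (hc a ha v hv)

end sit

variable (h)
include h

/-- `U ≤ P`. -/
theorem Ess.uSub_le (hA : ¬ IsCyclic ↥(commutator T)) (E : Ess P 𝒜 Y) : uSub h.toPair ≤ P := by
  classical
  intro g hgU
  by_contra hgP
  set U := uSub h.toPair with hU
  haveI := uSub_normal h.toPair
  obtain ⟨t, htK, htN, htP, -⟩ :=
    exists_normalizer_step h.p2 (le_sup_left : P ≤ P ⊔ U) (Subgroup.mem_sup_right hgU) hgP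
  obtain ⟨p, hp, u, hu, rfl⟩ := Subgroup.mem_sup_of_normal_right.1 htK
  have huN : u ∈ Subgroup.normalizer (P : Set T) := by
    simpa using mul_mem (inv_mem (Subgroup.le_normalizer hp)) htN
  have huP : u ∉ P := fun hu' => htP (mul_mem hp hu')
  have hu2 : u * u = 1 := by rw [← sq]; exact hu.2
  obtain ⟨ω, n, S⟩ := Sit.exists (h := h) E huN huP (by rw [hu2]; exact one_mem _)
  have hsq : ∀ v ∈ U, v * v = 1 := fun v hv => by rw [← sq]; exact hv.2
  have hUP : ∀ v ∈ U, v ∈ P → ∀ w ∈ U, w ∈ P → v ≠ 1 → w ≠ 1 → v = w := by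
    intro v hv hvP w hw hwP hv1 hw1
    by_contra hvw
    have hvw1 : v * w ≠ 1 := fun e => hvw ((mul_left_cancel ((hsq v hv).trans e.symm)))
    rcases mem_four (h.card_uSub hA) hv hw hu hv1 hw1 hvw hvw1 with e | e | e | e
    · exact huP (e ▸ one_mem _)
    · exact huP (e ▸ hvP)
    · exact huP (e ▸ hwP)
    · exact huP (e ▸ mul_mem hvP hwP)
  have hcu : ∀ q ∈ P, ⁅u, q⁆ ∈ U ∧ ⁅u, q⁆ ∈ P := fun q hq => by
    refine ⟨?_, mul_mem ((Subgroup.mem_normalizer_iff.1 huN q).1 hq) (inv_mem hq)⟩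
    rw [show ⁅u, q⁆ = u * (q * u⁻¹ * q⁻¹) by rw [commutatorElement_def]; group]
    exact mul_mem hu ((inferInstance : U.Normal).conj_mem _ (inv_mem hu) q)
  have hn : ∀ v, ⁅(n : T), v⁆ =
      (n : T) * u⁻¹ * ⁅u, v⁆ * ((n : T) * u⁻¹)⁻¹ * ⁅(n : T) * u⁻¹, v⁆ := fun v => by
    simp only [commutatorElement_def]; group
  rcases S.comm_or_quat with hc | ⟨z, hQ⟩
  · rcases S.elem_or_frattini hc with hE | hI
    swap
    · exact huP (S.xs_le (S.uSub_le hA hc hI hu))
    have htriv : ∀ p ∈ P, ∀ v ∈ xs ω, ⁅p, v⁆ = 1 := fun p hp v hv =>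
      Subgroup.mem_bot.1 (hE.frat ▸ S.commutator_left_mem (Or.inl hE) hp hv)
    obtain ⟨τ, hτ, hmv⟩ : ∃ τ ∈ xs ω, ⁅(n : T), τ⁆ ∉ zs ω := by
      by_contra hall
      push Not at hall
      exact S.false_of_trivial_quot hall
    rw [hn, htriv _ S.ns τ hτ, mul_one] at hmv
    set e := ⁅u, τ⁆ with he
    have heU := hcu τ (S.xs_le hτ)
    have hne : e ≠ 1 := fun e1 => hmv (by rw [e1, mul_one, mul_inv_cancel]; exact one_mem _)
    have heX : e ∈ xs ω := by
      have h1 : ⁅(n : T), τ⁆ ∈ xs ω := mul_mem (S.nconj_xs hτ) (inv_mem hτ)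
      rw [hn, htriv _ S.ns τ hτ, mul_one] at h1
      have h2 := S.conj_xs (inv_mem S.ns) h1
      rwa [show ((n : T) * u⁻¹)⁻¹ * ((n : T) * u⁻¹ * e * ((n : T) * u⁻¹)⁻¹) *
        ((n : T) * u⁻¹)⁻¹⁻¹ = e by group] at h2
    have hτΦ : τ ∉ frattini T := fun hτf => hne (by
      rw [he, commutatorElement_eq_one_iff_mul_comm]; exact h.uSub_central hA u hu τ hτf)
    have hUX : ∀ v ∈ P, v ∈ frattini T → v * v = 1 → v ∈ xs ω := fun v hvP hvΦ hv2 => by
      by_cases hv1 : v = 1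
      · rw [hv1]; exact one_mem _
      · rw [hUP v (h.mem_uSub hA hvΦ (by rw [sq]; exact hv2)) hvP e heU.1 heU.2 hv1 hne]
        exact heX
    have hC : ∀ c ∈ cs ω, c ∈ frattini T → c = 1 := by
      intro c hc' hcΦ
      by_contra hc1
      obtain ⟨k, hk, hk1⟩ := exists_involution_pow h.p2 hc1
      exact hk1 (S.eq_one_of_mem hc (hUX _ (S.cs_le (pow_mem hc' k)) (pow_mem hcΦ k) hk)
        (pow_mem hc' k))
    have hC1 : ∀ c ∈ cs ω, c = 1 := by
      intro c hc'
      by_contra hc1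
      have hcΦ : c ∉ frattini T := fun hf => hc1 (hC c hc' hf)
      have hτc := E.mul_mem_frattini h.toPair (S.xs_le hτ) (S.cs_le hc') hτΦ hcΦ
      have hc2 : c * c = 1 := hC _ (mul_mem hc' hc') (by
        rw [← sq]; exact h.toPair.sq_mem_frattini c)
      have h2 : τ * c * (τ * c) = 1 := by
        rw [mul_assoc, ← mul_assoc c τ c, S.cs_comm (Or.inl hE) hc' hτ, mul_assoc τ c c, hc2,
          mul_one, hE.sq τ hτ]
      have h1 := mul_mem (inv_mem hτ) (hUX _ (mul_mem (S.xs_le hτ) (S.cs_le hc')) hτc h2)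
      rw [inv_mul_cancel_left] at h1
      exact hc1 (S.eq_one_of_mem hc h1 hc')
    have hPX : P = xs ω := le_antisymm (fun q hq => by
      obtain ⟨a, ha, c, hc', rfl⟩ := S.decomp hq
      rwa [hC1 c hc', mul_one]) S.xs_le
    exact false_of_dihedral h.toPair.nm (FusionMetacyclic.of_klein_self_centralizing h.p2 P
      (by rw [hPX]; exact hE.card) (fun q hq => by rw [sq]; exact hE.sq q (hPX ▸ hq)) E.cent
      E.ne_top)
  · have hzz := S.quat_mem_zs hQ
    have hzU : z ∈ U := h.mem_uSub hA (S.zs_le_frattini hzz) (by rw [sq]; exact hQ.zz)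
    refine S.false_of_trivial_quot fun v hv => ?_
    rw [hn]
    refine mul_mem ?_ (S.commutator_left_mem (Or.inr ⟨z, hQ⟩) S.ns hv)
    obtain ⟨h1, h2⟩ := hcu v (S.xs_le hv)
    by_cases he : ⁅u, v⁆ = 1
    · rw [he, mul_one, mul_inv_cancel]; exact one_mem _
    · rw [hUP _ h1 h2 z hzU (S.xs_le hQ.mem) he hQ.ne_one,
        (S.commute_of_central (Or.inr ⟨z, hQ⟩) hQ.mem hQ.central S.ns).eq, mul_inv_cancel_right]
      exact hzz

/-- `Φ(T)` is not contained in `P`. -/
theorem Ess.not_frattini_le (hA : ¬ IsCyclic ↥(commutator T)) (E : Ess P 𝒜 Y) :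
    ¬ frattini T ≤ P := by
  classical
  intro hΦ
  haveI : Fact (Nat.Prime 2) := ⟨Nat.prime_two⟩
  set U := uSub h.toPair with hU
  have hPn : ∀ g : T, g ∈ Subgroup.normalizer (P : Set T) := fun g => by
    haveI : P.Normal := Subgroup.Normal.of_commutator_le T (h.toPair.commutator_le.trans hΦ)
    rw [Subgroup.normalizer_eq_top]
    exact Subgroup.mem_top g
  have hsit : ∀ g : T, g ∉ P → ∃ ω n, Sit h 𝒜 Y g ω n := fun g hg =>
    Sit.exists E (hPn g) hg (hΦ (by rw [← sq]; exact h.toPair.sq_mem_frattini g))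
  have hquat : ∀ {g : T} {ω : MulAut P} {n : Subgroup.normalizer (P : Set T)},
      Sit h 𝒜 Y g ω n → ∀ {z : T}, IsQuat ω z → xs ω ≤ frattini T → False := fun S z hQ hX =>
    h.false_of_quaternion_frattini hA hX hQ.unique (fun g hg => hQ.frat (S.sq_mem_zs hg))
      (fun g hg g' hg' => hQ.frat (S.commutator_mem_zs hg hg')) hQ.noncomm hQ.mem hQ.zz
  have hU1 : ∃ u ∈ U, u ≠ 1 := by
    obtain ⟨⟨u, hu⟩, hu1⟩ := Subgroup.ne_bot_iff_exists_ne_one.1 (show U ≠ ⊥ from fun e => by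
      have := h.card_uSub hA
      rw [← hU, e, Subgroup.card_bot] at this
      omega)
    exact ⟨u, hu, fun e => hu1 (Subtype.ext e)⟩
  by_cases hPΦ : P ≤ frattini T
  · -- `P = Φ(T)`
    haveI := uSub_normal h.toPair
    have hmove : ∀ g, g ∉ frattini T →
        (MulAut.conjNormal g : MulAut U) ≠ 1 := by
      intro g hg e
      obtain ⟨ω, n, S⟩ := hsit g fun hgP => hg (hPΦ hgP)
      have hX := S.xs_le.trans hPΦ
      rcases S.comm_or_quat with hc | ⟨z, hQ⟩
      · refine S.false_of_central hA hc (fun v hv _ => hX hv) fun u hu => ?_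
        have h1 : g * u * g⁻¹ = u := by
          have h0 := congrArg (fun f : MulAut U => ((f ⟨u, hu⟩ : U) : T)) e
          simpa [MulAut.conjNormal_apply] using h0
        exact mul_inv_eq_iff_eq_mul.1 h1
      · exact hquat S hQ hX
    have hx : x ∉ frattini T := fun hx => h.toPair.x_notMem (frattini_le_mSub y hx)
    have hy : y ∉ frattini T := fun hy => h.toPair.y_notMem (frattini_le_mSub x hy)
    have hxy : x * y ∉ frattini T := fun hxy => h.toPair.y_notMem (by
      simpa using mul_mem (inv_mem (self_mem_mSub x)) (frattini_le_mSub x hxy))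
    exact hmove _ hxy (mul_act_eq_one h.p2 (h.card_uSub hA) MulAut.conjNormal (hmove x hx)
      (hmove y hy))
  -- `P` has index two
  obtain ⟨g, hg⟩ : ∃ g, g ∉ P := by
    by_contra hc
    push Not at hc
    exact E.ne_top (eq_top_iff.2 fun g _ => hc g)
  obtain ⟨ω, n, S⟩ := hsit g hg
  have hgen : ∀ w ∈ P, w ∉ frattini T → Subgroup.closure {(n : T), w} = ⊤ := fun w hwP hw =>
    h.toPair.closure_eq_top (fun hn => S.notMem (hΦ hn)) hw fun hnw =>
      S.notMem (by simpa using mul_mem (hΦ hnw) (inv_mem hwP))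
  -- a subgroup invariant under both generators contains the derived group
  have hderived : ∀ (N : Subgroup T) (w : T), w ∈ N → w ∉ frattini T → N ≤ P →
      (∀ v ∈ N, (n : T) * v * (n : T)⁻¹ ∈ N) → commutator T ≤ N := by
    intro N w hwN hw hNP hn
    haveI : N.Normal := by
      refine Subgroup.normalizer_eq_top_iff.1 (eq_top_iff.2 ?_)
      rw [← hgen w (hNP hwN) hw, Subgroup.closure_le]
      rintro a (rfl | rfl)
      · refine Subgroup.mem_normalizer_iff.2 fun v => ⟨fun hv => hn v hv, fun hv => ?_⟩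
        obtain ⟨w', hw'⟩ := Finite.surjective_of_injective
          (f := fun v : N => (⟨(n : T) * v * (n : T)⁻¹, hn v v.2⟩ : N))
          (fun a b e => Subtype.ext (by simpa using congrArg Subtype.val e)) ⟨_, hv⟩
        have h1 : (w' : T) = v := by simpa using congrArg Subtype.val hw'
        exact h1 ▸ w'.2
      · exact Subgroup.le_normalizer hwN
    refine commutator_le_of_gen (hgen w (hNP hwN) hw) ?_
    have h1 : ⁅(n : T), w⁆ ∈ N := mul_mem (hn w hwN) (inv_mem hwN)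
    rintro _ (rfl | rfl) _ (rfl | rfl)
    · simp
    · exact h1
    · rw [← commutatorElement_inv]; exact inv_mem h1
    · simp
  have hUcs : ∀ c ∈ cs ω, c ∉ frattini T → U ≤ cs ω := fun c hc hcΦ u hu =>
    hderived (cs ω) c hc hcΦ S.cs_le (fun v hv => S.nconj_cs hv) hu.1
  by_cases hX : xs ω ≤ frattini T
  · rcases S.comm_or_quat with hc | ⟨z, hQ⟩
    · obtain ⟨c, hc', hcΦ⟩ : ∃ c ∈ cs ω, c ∉ frattini T := by
        by_contra hall
        push Not at hall
        refine hPΦ fun q hq => ?_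
        obtain ⟨a, ha, c, hc', rfl⟩ := S.decomp hq
        exact mul_mem (hX ha) (hall c hc')
      obtain ⟨u, hu, hu1⟩ := hU1
      exact hu1 (S.eq_one_of_mem hc (S.uSub_le hA hc (fun v hv _ => hX hv) hu)
        (hUcs c hc' hcΦ hu))
    · exact hquat S hQ hX
  obtain ⟨τ, hτ, hτΦ⟩ := SetLike.not_le_iff_exists.1 hX
  have hTX : commutator T ≤ xs ω :=
    hderived (xs ω) τ hτ hτΦ S.xs_le fun v hv => S.nconj_xs hv
  rcases S.comm_or_quat with hc | ⟨z, hQ⟩
  · rcases S.elem_or_frattini hc with hE | hI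
    · have hUX : U = xs ω := Subgroup.eq_of_le_of_card_ge (fun u hu => hTX hu.1)
        (by rw [hE.card, h.card_uSub hA])
      exact hτΦ (h.toPair.commutator_le (hUX ▸ hτ : τ ∈ U).1)
    -- `P = [P, ω]` is abelian
    have hUX := S.uSub_le hA hc hI
    have hC : ∀ c ∈ cs ω, c = 1 := by
      intro c hc'
      by_contra hc1
      have hcΦ : c ∉ frattini T := fun hf => by
        obtain ⟨k, hk, hk1⟩ := exists_involution_pow h.p2 hc1
        exact hk1 (S.eq_one_of_mem hc
          (hUX (h.mem_uSub hA (pow_mem hf k) (by rw [sq]; exact hk))) (pow_mem hc' k))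
      obtain ⟨u, hu, hu1⟩ := hU1
      exact hu1 (S.eq_one_of_mem hc (hUX hu) (hUcs c hc' hcΦ hu))
    have hPc : ∀ p ∈ P, ∀ q ∈ P, p * q = q * p := by
      intro p hp q hq
      obtain ⟨a, ha, c, hc', rfl⟩ := S.decomp hp
      obtain ⟨b, hb, c', hc'', rfl⟩ := S.decomp hq
      rw [hC c hc', hC c' hc'', mul_one, mul_one]
      exact hc a ha b hb
    set d := ⁅(n : T), τ⁆ with hd
    have hnP : (n : T) * n ∈ P := hΦ (by rw [← sq]; exact h.toPair.sq_mem_frattini _)
    have hnτ : (n : T) * τ * (n : T)⁻¹ ∈ P := S.xs_le (S.nconj_xs hτ)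
    have hdP : d ∈ P := mul_mem hnτ (inv_mem (S.xs_le hτ))
    have hdn : (n : T) * d * (n : T)⁻¹ = d⁻¹ := by
      have e1 : (n : T) * n * τ * ((n : T) * n)⁻¹ = τ :=
        mul_inv_eq_iff_eq_mul.2 (hPc _ hnP _ (S.xs_le hτ))
      calc (n : T) * d * (n : T)⁻¹
          = (n : T) * n * τ * ((n : T) * n)⁻¹ * ((n : T) * τ * (n : T)⁻¹)⁻¹ := by
            rw [hd, commutatorElement_def]; group
        _ = τ * ((n : T) * τ * (n : T)⁻¹)⁻¹ := by rw [e1]
        _ = d⁻¹ := by rw [hd, commutatorElement_def]; group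
    haveI : (Subgroup.zpowers d).Normal :=
      normal_zpowers_of_conj (hgen τ (S.xs_le hτ) hτΦ) (by
        rintro _ (rfl | rfl)
        · rw [hdn]; exact inv_mem (Subgroup.mem_zpowers _)
        · rw [mul_inv_eq_iff_eq_mul.2 (hPc _ (S.xs_le hτ) _ hdP)]
          exact Subgroup.mem_zpowers _)
    have hle : commutator T ≤ Subgroup.zpowers d :=
      commutator_le_of_gen (hgen τ (S.xs_le hτ) hτΦ) (by
        rintro _ (rfl | rfl) _ (rfl | rfl)
        · simp
        · exact Subgroup.mem_zpowers _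
        · rw [← commutatorElement_inv]; exact inv_mem (Subgroup.mem_zpowers _)
        · simp)
    exact hA (isCyclic_of_injective (Subgroup.inclusion hle) (Subgroup.inclusion_injective hle))
  · have hle : U ≤ Subgroup.zpowers z := fun u hu => by
      rcases hQ.unique u (hTX hu.1) (by rw [← sq]; exact hu.2) with e | e
      · rw [e]; exact one_mem _
      · rw [e]; exact Subgroup.mem_zpowers _
    have h2 := (Subgroup.card_le_of_le hle).trans_eq (Nat.card_zpowers z)
    rw [hU, h.card_uSub hA] at h2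
    have := Nat.le_of_dvd two_pos (orderOf_dvd_of_pow_eq_one (show z ^ 2 = 1 by rw [sq, hQ.zz]))
    omega

end CfsgLib.Bicyclic
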