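import Cfsg.Agent.Bicyclic.Situation

/-!
# Two-groups acting on a group of order four

The image has order at most two; applied to a characteristic plane of an essential subgroup `P` it
bounds `N_T(P)/P`.
-/

set_option autoImplicit false
set_option linter.style.haveILetI false
set_option linter.unusedSectionVars false

namespace CfsgLib.Bicyclic

/-- A `2`-group acts on a group of order four through a group of order at most two. -/
theorem mul_act_eq_one {N W : Type*} [Group N] [Group W] [Finite W] (hN : IsPGroup 2 N)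
    (hW : Nat.card W = 4) (ρ : N →* MulAut W) {a b : N} (ha : ρ a ≠ 1) (hb : ρ b ≠ 1) :
    ρ (a * b) = 1 := by
  classical
  haveI : Fact (Nat.Prime 2) := ⟨Nat.prime_two⟩
  letI : MulAction N W := MulAction.compHom W ρ
  obtain ⟨v, hv, hv1⟩ := hN.exists_fixed_point_of_prime_dvd_card_of_fixed_point W
    (by rw [hW]; norm_num) (a := 1) (fun g => show ρ g 1 = 1 from map_one _)
  have hvfix : ∀ g : N, ρ g v = v := fun g => hv g
  have hother : ∀ p q r : W, p ≠ 1 → p ≠ v → q ≠ 1 → q ≠ v → r ≠ 1 → r ≠ v → p ≠ q →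
      r = p ∨ r = q := by
    intro p q r p1 pv q1 qv r1 rv pq
    by_contra hc
    push Not at hc
    let f : Fin 5 → W := ![1, v, p, q, r]
    have hf : Function.Injective f := by
      intro i j hij
      fin_cases i <;> fin_cases j <;>
        first
          | rfl
          | simp [f, hv1, hv1.symm, p1, p1.symm, pv, pv.symm, q1, q1.symm, qv, qv.symm, r1, r1.symm,
              rv, rv.symm, pq, pq.symm, hc.1, hc.1.symm, hc.2, hc.2.symm] at hij
    have := Nat.card_le_card_of_injective f hf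
    rw [hW] at this
    simp at this
  have hout : ∀ (g : N) (w : W), w ≠ 1 → w ≠ v → ρ g w ≠ 1 ∧ ρ g w ≠ v := fun g w w1 wv =>
    ⟨fun e => w1 ((ρ g).map_eq_one_iff.1 e), fun e => wv ((ρ g).injective (e.trans (hvfix g).symm))⟩
  -- a nontrivial image moves every element outside `{1, v}`
  have hmove : ∀ g : N, ρ g ≠ 1 → ∀ w, w ≠ 1 → w ≠ v → ρ g w ≠ w := by
    intro g hg w w1 wv hfix
    refine hg (MulEquiv.ext fun u => ?_)
    rw [MulAut.one_apply]
    by_contra hu
    have u1 : u ≠ 1 := fun e => hu (by rw [e, map_one])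
    have uv : u ≠ v := fun e => hu (by rw [e, hvfix])
    have uw : u ≠ w := fun e => hu (by rw [e, hfix])
    rcases hother u w (ρ g u) u1 uv w1 wv (hout g u u1 uv).1 (hout g u u1 uv).2 uw with e | e
    · exact hu e
    · exact uw ((ρ g).injective (e.trans hfix.symm))
  refine MulEquiv.ext fun w => ?_
  rw [map_mul, MulAut.mul_apply, MulAut.one_apply]
  by_cases w1 : w = 1
  · rw [w1, map_one, map_one]
  by_cases wv : w = v
  · rw [wv, hvfix, hvfix]
  obtain ⟨b1, bv⟩ := hout b w w1 wv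
  obtain ⟨a1, av⟩ := hout a _ b1 bv
  rcases hother w (ρ b w) (ρ a (ρ b w)) w1 wv b1 bv a1 av (hmove b hb w w1 wv).symm with e | e
  · exact e
  · exact absurd e (hmove a ha _ b1 bv)

variable {T : Type*} [Group T] [Finite T] {x y : T}

/-- A characteristic plane bounds `N_T(P)/P`. -/
theorem Ess.mul_mem_of_char (h : Std x y) {P : Subgroup T} {𝒜 Y : Subgroup (MulAut P)}
    (E : Ess P 𝒜 Y) (M : Subgroup P) (hM : ∀ α : MulAut P, ∀ r ∈ M, α r ∈ M)
    (hΦM : frattini P ≤ M)
    (hor : (M.index = 4 ∧ (frattini P).relIndex M ≤ 2) ∨ (M.index = 2 ∧ (frattini P).relIndex M = 4))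
    (n m : Subgroup.normalizer (P : Set T)) (hn : (n : T) ∉ P) (hm : (m : T) ∉ P) :
    (n : T) * m ∈ P := by
  classical
  haveI : Fact (Nat.Prime 2) := ⟨Nat.prime_two⟩
  have hPp := h.p2.to_subgroup P
  have hNp : IsPGroup 2 (Subgroup.normalizer (P : Set T)) := h.p2.to_subgroup _
  have hcomm : commutator P ≤ M := (Solvable.commutator_le_frattini hPp).trans hΦM
  haveI : M.Normal := Subgroup.Normal.of_commutator_le P hcomm
  -- automorphisms trivial on both factors
  let St : Subgroup (MulAut P) :=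
    { carrier := {α | α ∈ 𝒜 ∧ (∀ p, α p * p⁻¹ ∈ M) ∧ ∀ r ∈ M, α r * r⁻¹ ∈ frattini P}
      one_mem' := ⟨one_mem _, fun p => by simp, fun r _ => by simp⟩
      mul_mem' := fun {α β} ha hb => ⟨mul_mem ha.1 hb.1, fun p => by
          have h1 := mul_mem (ha.2.1 (β p)) (hb.2.1 p)
          rwa [inv_mul_cancel_left₀' (α (β p)) (β p) p] at h1, fun r hr => by
          have h1 := mul_mem (ha.2.2 (β r) (hM β r hr)) (hb.2.2 r hr)
          rwa [inv_mul_cancel_left₀' (α (β r)) (β r) r] at h1⟩
      inv_mem' := fun {α} ha => ⟨inv_mem ha.1, fun p => by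
          have h1 := inv_mem (ha.2.1 (α⁻¹ p))
          rwa [MulAut.apply_inv_self, mul_inv_rev, inv_inv] at h1, fun r hr => by
          have h1 := inv_mem (ha.2.2 (α⁻¹ r) (hM _ r hr))
          rwa [MulAut.apply_inv_self, mul_inv_rev, inv_inv] at h1⟩ }
  have hStp : IsPGroup 2 St := by
    rintro ⟨α, hα⟩
    obtain ⟨k, o, ho, hord⟩ := Nat.exists_eq_two_pow_mul_odd (orderOf_pos α).ne'
    refine ⟨k, Subtype.ext ?_⟩
    show α ^ 2 ^ k = 1
    have hβ : α ^ 2 ^ k ∈ St := pow_mem hα _
    have hodd : Odd (orderOf (α ^ 2 ^ k)) := by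
      rw [orderOf_pow, hord, Nat.gcd_eq_right (dvd_mul_right _ _),
        Nat.mul_div_cancel_left _ (Nat.two_pow_pos k)]
      exact ho
    refine FusionMetacyclic.eq_one_of_sq_trivial_frattini hPp hodd fun p => ?_
    set β := α ^ 2 ^ k
    set d := β p * p⁻¹ with hd
    have e : β p = d * p := by rw [hd, inv_mul_cancel_right]
    rw [sq, MulAut.mul_apply, e, map_mul, e, show β d * (d * p) * p⁻¹ = β d * d⁻¹ * (d * d) by group]
    refine mul_mem (hβ.2.2 d (hd ▸ hβ.2.1 p)) ?_
    rw [← sq]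
    exact Solvable.pow_mem_frattini hPp d
  have hStI : St ≤ (MulAut.conj : P →* MulAut P).range := by
    refine E.core St (fun α hα => hα.1) (fun g hg β hβ => ?_) hStp
    refine ⟨mul_mem (mul_mem hg hβ.1) (inv_mem hg), fun p => ?_, fun r hr => ?_⟩
    · have h1 := hM g _ (hβ.2.1 (g⁻¹ p))
      rwa [map_mul, map_inv, MulAut.apply_inv_self] at h1
    · have h1 := frattini_invariant g _ (hβ.2.2 (g⁻¹ r) (hM g⁻¹ r hr))
      rwa [map_mul, map_inv, MulAut.apply_inv_self] at h1
  -- invariant subgroups with two cosets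
  have htwo : ∀ (A B : Subgroup P), A ≤ B → A.relIndex B ≤ 2 → (∀ α : MulAut P, ∀ r ∈ A, α r ∈ A) →
      ∀ (α : MulAut P), (∀ r ∈ B, α r ∈ B) → ∀ r ∈ B, α r * r⁻¹ ∈ A := by
    intro A B hAB hrel hAinv α hBinv r hr
    by_cases hrA : r ∈ A
    · exact mul_mem (hAinv α r hrA) (inv_mem hrA)
    have hα : α r ∉ A := fun h1 => hrA (by
      have := hAinv α⁻¹ _ h1
      rwa [MulAut.inv_apply_self] at this)
    have h0 : A.relIndex B ≠ 0 := Subgroup.index_ne_zero_of_finite
    have h1 : A.relIndex B ≠ 1 := fun e => hrA (Subgroup.relIndex_eq_one.1 e hr)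
    have h2 : (A.subgroupOf B).index = 2 := by
      show A.relIndex B = 2
      omega
    refine Subgroup.mem_subgroupOf.1 ((Subgroup.mul_mem_iff_of_index_two h2
      (a := (⟨α r, hBinv r hr⟩ : B)) (b := (⟨r, hr⟩ : B)⁻¹)).2 ?_)
    simp only [Subgroup.mem_subgroupOf, Subgroup.coe_inv, inv_mem_iff]
    exact iff_of_false hα hrA
  set c : Subgroup.normalizer (P : Set T) →* MulAut P := P.normalizerMonoidHom with hc
  have hfinish : ∀ (W : Type _) [Group W] [Finite W], Nat.card W = 4 →
      ∀ ρ : Subgroup.normalizer (P : Set T) →* MulAut W,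
        (∀ g, ρ g = 1 → c g ∈ St) → (n : T) * m ∈ P := by
    intro W _ _ hW ρ hker
    have hne : ∀ g : Subgroup.normalizer (P : Set T), (g : T) ∉ P → ρ g ≠ 1 := fun g hg e =>
      E.conj_notMem g hg (hStI (hker g e))
    by_contra hnm
    exact hne (n * m) hnm (mul_act_eq_one hNp hW ρ (hne n hn) (hne m hm))
  rcases hor with ⟨hidx, hrel⟩ | ⟨hidx, hrel⟩
  · -- the plane `P / M`
    let ρ : Subgroup.normalizer (P : Set T) →* MulAut (P ⧸ M) :=
      MonoidHom.mk' (fun g => qAut M (c g) (hM _)) fun g g' => MulEquiv.ext fun q => by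
        obtain ⟨p, rfl⟩ := QuotientGroup.mk_surjective q
        rw [MulAut.mul_apply, qAut_mk, qAut_mk, qAut_mk, map_mul, MulAut.mul_apply]
    refine hfinish (P ⧸ M) (by rw [← Subgroup.index_eq_card, hidx]) ρ fun g hg =>
      ⟨E.le (E.conj_mem g), fun p => ?_, htwo _ _ hΦM hrel frattini_invariant _ (hM _)⟩
    have h1 : qAut M (c g) (hM _) (p : P ⧸ M) = p := DFunLike.congr_fun hg (p : P ⧸ M)
    rw [qAut_mk] at h1
    have h2 := QuotientGroup.eq.1 h1.symm
    have h3 := (inferInstance : M.Normal).conj_mem _ h2 p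
    rwa [mul_inv_cancel_left] at h3
  · -- the plane `M / Φ(P)`
    let N' : Subgroup M := (frattini P).subgroupOf M
    have hN' : ∀ g, ∀ r ∈ N', resAut M (c g) (hM _) r ∈ N' := fun g r hr =>
      Subgroup.mem_subgroupOf.2 (frattini_invariant (c g) _ (Subgroup.mem_subgroupOf.1 hr))
    let ρ : Subgroup.normalizer (P : Set T) →* MulAut (M ⧸ N') :=
      MonoidHom.mk' (fun g => qAut N' (resAut M (c g) (hM _)) (hN' g)) fun g g' =>
        MulEquiv.ext fun q => by
        obtain ⟨p, rfl⟩ := QuotientGroup.mk_surjective q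
        rw [MulAut.mul_apply, qAut_mk, qAut_mk, qAut_mk]
        refine congrArg _ (Subtype.ext ?_)
        rw [coe_resAut, coe_resAut, coe_resAut, map_mul, MulAut.mul_apply]
    refine hfinish (M ⧸ N') (by rw [← Subgroup.index_eq_card]; exact hrel) ρ fun g hg =>
      ⟨E.le (E.conj_mem g), fun p => htwo M ⊤ le_top (by rw [Subgroup.relIndex_top_right, hidx]) hM
        (c g) (fun _ _ => Subgroup.mem_top _) p (Subgroup.mem_top p), fun r hr => ?_⟩
    have h1 : qAut N' (resAut M (c g) (hM _)) (hN' g)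
        ((⟨r, hr⟩ : M) : M ⧸ N') = ((⟨r, hr⟩ : M) : M ⧸ N') :=
      DFunLike.congr_fun hg _
    rw [qAut_mk] at h1
    have h2 : r⁻¹ * c g r ∈ frattini P := Subgroup.mem_subgroupOf.1 (QuotientGroup.eq.1 h1.symm)
    have h3 := (inferInstance : (frattini P).Normal).conj_mem _ h2 r
    rwa [mul_inv_cancel_left] at h3
where
  inv_mul_cancel_left₀' (a b c : P) : a * b⁻¹ * (b * c⁻¹) = a * c⁻¹ := by group

end CfsgLib.Bicyclic
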