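import Cfsg.Agent.Bicyclic.Action

/-!
# Two-generator `2`-groups with a fixed-point-free automorphism of order three

If the Frattini subgroup of such a group has a Frattini quotient of order at most four, then the group
is metacyclic, so it is abelian or a quaternion group of order eight.
-/

set_option autoImplicit false
set_option linter.style.haveILetI false
set_option linter.unusedSectionVars false

namespace CfsgLib.Bicyclic

open scoped commutatorElement

universe u

theorem isMetacyclic_of_injective {A B : Type*} [Group A] [Group B] (f : A →* B)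
    (hf : Function.Injective f) (hB : Cfsg.IsMetacyclic B) : Cfsg.IsMetacyclic A := by
  obtain ⟨N, hN, hNc, hQc⟩ := hB
  refine ⟨N.comap f, inferInstance, ?_, ?_⟩
  · exact isCyclic_of_injective ((f.comp (N.comap f).subtype).codRestrict N fun x => x.2)
      fun x y h => Subtype.ext (hf (congrArg Subtype.val h))
  · refine isCyclic_of_injective (QuotientGroup.map (N.comap f) N f le_rfl) ?_
    rw [injective_iff_map_eq_one]
    intro x
    induction x using QuotientGroup.induction_on with
    | H y => exact fun h => (QuotientGroup.eq_one_iff y).2 ((QuotientGroup.eq_one_iff (f y)).1 h)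

theorem map_frattini_of_surjective {G Q : Type*} [Group G] [Finite G] [Group Q] [Finite Q]
    (hG : IsPGroup 2 G) (f : G →* Q) (hf : Function.Surjective f) :
    (frattini G).map f = frattini Q := by
  haveI : Fact (Nat.Prime 2) := ⟨Nat.prime_two⟩
  haveI : ((frattini G).map f).Normal := (inferInstance : (frattini G).Normal).map f hf
  refine le_antisymm (Subgroup.map_le_iff_le_comap.2 (frattini_le_comap_frattini_of_surjective hf))
    (Solvable.frattini_le_of_elementary (p := 2) ?_ fun q => ?_)
  · rw [← map_commutator_surj f hf]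
    exact Subgroup.map_mono (Solvable.commutator_le_frattini hG)
  · obtain ⟨g, rfl⟩ := hf q
    exact ⟨g ^ 2, Solvable.pow_mem_frattini hG g, map_pow f g 2⟩

section classTwo

variable {G : Type u} [Group G] [Finite G]

theorem isMetacyclic_of_three_classTwo (hG : IsPGroup 2 G) {ω : MulAut G} (h3 : ω ^ 3 = 1)
    (hne : ω ≠ 1) (htop : comSub ω = ⊤) (hidx : (frattini G).index = 4)
    (hZ : (frattini (frattini G)).index ≤ 4)
    (hcen : ∀ d ∈ commutator G, ∀ g : G, d * g = g * d) (hexp : ∀ d ∈ commutator G, d * d = 1) :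
    Cfsg.IsMetacyclic G := by
  classical
  haveI : Fact (Nat.Prime 2) := ⟨Nat.prime_two⟩
  obtain ⟨a, ha⟩ : ∃ a : G, a ∉ frattini G := by
    by_contra hc
    push Not at hc
    rw [show frattini G = ⊤ from eq_top_iff.2 fun g _ => hc g, Subgroup.index_top] at hidx
    omega
  set b := ω a with hb
  have htri := triple_mem_frattini hG h3 htop a
  rw [← hb] at htri
  -- generation
  have hgen : Subgroup.closure {a, b} = ⊤ := by
    refine closure_eq_top_of_frattini (eq_top_iff.2 fun g _ => ?_)
    set L := Subgroup.closure {a, b} ⊔ frattini G with hL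
    have haL : a ∈ L := Subgroup.mem_sup_left (Subgroup.subset_closure (by simp))
    have hbL : b ∈ L := Subgroup.mem_sup_left (Subgroup.subset_closure (by simp))
    have hωb : ω b ∈ L := by
      have h := mul_mem (inv_mem (mul_mem haL hbL)) (Subgroup.mem_sup_right htri : a * b * ω b ∈ L)
      rwa [inv_mul_cancel_left] at h
    refine mem_of_frattini_invariant hG h3 hne hidx le_sup_right (fun x hx => ?_) haL ha g
    have hle : L ≤ L.comap ω.toMonoidHom := sup_le ((Subgroup.closure_le _).2 (by
      rw [Set.insert_subset_iff, Set.singleton_subset_iff]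
      exact ⟨hbL, hωb⟩)) fun z hz => Subgroup.mem_sup_right (frattini_invariant ω z hz)
    exact hle hx
  set c := ⁅a, b⁆ with hc
  have hcA : c ∈ commutator G :=
    Subgroup.commutator_mem_commutator (Subgroup.mem_top a) (Subgroup.mem_top b)
  have hcc : c * c = 1 := hexp c hcA
  have hcz : c⁻¹ = c := inv_eq_of_mul_eq_one_right hcc
  have hle : commutator G ≤ Subgroup.zpowers c := by
    haveI : (Subgroup.zpowers c).Normal :=
      normal_zpowers_of_conj Subgroup.closure_univ fun s _ => by
        rw [← hcen c hcA s, mul_inv_cancel_right]; exact Subgroup.mem_zpowers c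
    refine commutator_le_of_gen hgen ?_
    rintro _ (rfl | rfl) _ (rfl | rfl)
    · simp
    · exact Subgroup.mem_zpowers _
    · have h := (Subgroup.zpowers c).inv_mem (Subgroup.mem_zpowers c)
      rwa [hc, commutatorElement_inv] at h
    · simp
  -- squares are central
  have hsq : ∀ g h : G, g * g * h = h * (g * g) := by
    intro g h
    have hd : ⁅g, h⁆ ∈ commutator G :=
      Subgroup.commutator_mem_commutator (Subgroup.mem_top g) (Subgroup.mem_top h)
    have e : g * h = ⁅g, h⁆ * (h * g) := by rw [commutatorElement_def]; group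
    calc g * g * h = g * (g * h) := mul_assoc _ _ _
      _ = g * ⁅g, h⁆ * (h * g) := by rw [mul_assoc g ⁅g, h⁆, ← e]
      _ = ⁅g, h⁆ * (g * h) * g := by rw [← hcen _ hd g]; simp only [mul_assoc]
      _ = ⁅g, h⁆ * ⁅g, h⁆ * (h * (g * g)) := by rw [e]; simp only [mul_assoc]
      _ = h * (g * g) := by rw [hexp _ hd, one_mul]
  have hΦc : ∀ z ∈ frattini G, ∀ g : G, z * g = g * z := by
    intro z hz g
    have : frattini G ≤ Subgroup.center G := by
      refine Solvable.frattini_le_of_elementary (p := 2)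
        (fun d hd => Subgroup.mem_center_iff.2 fun g => (hcen d hd g).symm) fun h =>
        Subgroup.mem_center_iff.2 fun g => ?_
      rw [sq]; exact (hsq h g).symm
    exact (Subgroup.mem_center_iff.1 (this hz) g).symm
  -- the squaring map into `Φ / Φ(Φ)`
  set Z := frattini G with hZdef
  have hZp : IsPGroup 2 Z := hG.to_subgroup _
  have hsqm : ∀ g : G, g * g ∈ Z := fun g => by
    rw [← sq]; exact Solvable.pow_mem_frattini hG g
  letI : CommGroup (Z ⧸ frattini Z) :=
    { (inferInstance : Group (Z ⧸ frattini Z)) with mul_comm := comm_quot hZp }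
  let q : G → Z ⧸ frattini Z := fun g => (⟨g * g, hsqm g⟩ : Z)
  have hcm : c ∈ Z := Solvable.commutator_le_frattini hG hcA
  set cq : Z ⧸ frattini Z := ((⟨c, hcm⟩ : Z) : Z ⧸ frattini Z) with hcq
  have hq2 : ∀ g z, z ∈ Z → q (g * z) = q g := by
    intro g z hz
    show ((⟨g * z * (g * z), _⟩ : Z) : Z ⧸ frattini Z) = ((⟨g * g, _⟩ : Z) : Z ⧸ frattini Z)
    have e : (⟨g * z * (g * z), hsqm _⟩ : Z) = ⟨g * g, hsqm g⟩ * (⟨z, hz⟩ * ⟨z, hz⟩) := by
      refine Subtype.ext ?_
      show g * z * (g * z) = g * g * (z * z)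
      rw [mul_assoc g z, ← mul_assoc z g, hΦc z hz g]
      simp only [mul_assoc]
    rw [e, QuotientGroup.mk_mul, QuotientGroup.mk_mul, sq_eq_one_quot hZp, mul_one]
  have hqab : q (a * b) = q a * q b * cq := by
    show ((⟨a * b * (a * b), _⟩ : Z) : Z ⧸ frattini Z) = _
    have e : (⟨a * b * (a * b), hsqm _⟩ : Z) = ⟨a * a, hsqm a⟩ * ⟨b * b, hsqm b⟩ * ⟨c, hcm⟩ := by
      refine Subtype.ext ?_
      show a * b * (a * b) = a * a * (b * b) * c
      have e1 : b * a = c * (a * b) := by
        rw [show b * a = c⁻¹ * (a * b) by rw [hc, commutatorElement_def]; group, hcz]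
      calc a * b * (a * b) = a * (b * a) * b := by simp only [mul_assoc]
        _ = a * c * (a * b * b) := by rw [e1]; simp only [mul_assoc]
        _ = c * (a * (a * b * b)) := by rw [← hcen c hcA a]; simp only [mul_assoc]
        _ = a * a * (b * b) * c := by rw [hcen c hcA]; simp only [mul_assoc]
    rw [e, QuotientGroup.mk_mul, QuotientGroup.mk_mul]
  let ωZ := resAut Z ω (frattini_invariant ω)
  let w := qAut (frattini Z) ωZ (frattini_invariant ωZ)
  have hw3 : w ^ 3 = 1 := qAut_pow_eq_one (resAut_pow_eq_one h3)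
  have hqω : ∀ g, q (ω g) = w (q g) := fun g => by
    show _ = w ((⟨g * g, hsqm g⟩ : Z) : Z ⧸ frattini Z)
    rw [qAut_mk]
    exact congrArg _ (Subtype.ext (map_mul ω g g).symm)
  have hqωb : q (ω b) = q (a * b) := by
    have e : ω b = a * b * ((a * b)⁻¹ * ω b) := (mul_inv_cancel_left _ _).symm
    rw [e]
    refine hq2 _ _ ?_
    have h1 := mul_mem (inv_mem (hsqm (a * b))) htri
    rwa [mul_inv_rev, mul_assoc, inv_mul_cancel_left] at h1
  -- generators of `Φ`
  let Zg : Subgroup Z :=
    Subgroup.closure {(⟨a * a, hsqm a⟩ : Z), ⟨b * b, hsqm b⟩, ⟨c, hcm⟩}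
  have hZg : Zg = ⊤ := by
    haveI : (Zg.map Z.subtype).Normal := ⟨fun z hz g => by
      have hzZ : z ∈ Z := Subgroup.map_subtype_le _ hz
      rwa [← hΦc z hzZ g, mul_inv_cancel_right]⟩
    have hcN : commutator G ≤ Zg.map Z.subtype := hle.trans (Subgroup.zpowers_le.2
      ⟨⟨c, hcm⟩, Subgroup.subset_closure (by simp), rfl⟩)
    have h : Z ≤ Zg.map Z.subtype := by
      refine Solvable.frattini_le_of_elementary (p := 2) hcN fun g => ?_
      let π := QuotientGroup.mk' (Zg.map Z.subtype)
      have hcomm : ∀ u v : G, π u * π v = π v * π u := fun u v => by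
        rw [← commutatorElement_eq_one_iff_mul_comm, ← map_commutatorElement]
        exact (QuotientGroup.eq_one_iff _).2 (hcN
          (Subgroup.commutator_mem_commutator (Subgroup.mem_top u) (Subgroup.mem_top v)))
      have hg : π g * π g = 1 := by
        induction (show g ∈ Subgroup.closure {a, b} by rw [hgen]; exact Subgroup.mem_top g) using
          Subgroup.closure_induction with
        | mem s hs =>
          rw [← map_mul]
          refine (QuotientGroup.eq_one_iff _).2 ?_
          rcases hs with hs | hs <;> rw [hs]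
          · exact ⟨⟨a * a, hsqm a⟩, Subgroup.subset_closure (by simp), rfl⟩
          · exact ⟨⟨b * b, hsqm b⟩, Subgroup.subset_closure (by simp), rfl⟩
        | one => simp
        | mul u v _ _ hu hv =>
          rw [map_mul, show π u * π v * (π u * π v) = π u * (π v * π u) * π v by group,
            ← hcomm u v, show π u * (π u * π v) * π v = π u * π u * (π v * π v) by group, hu, hv,
            one_mul]
        | inv u _ hu => rw [map_inv, ← mul_inv_rev, hu, inv_one]
      rw [sq, ← QuotientGroup.eq_one_iff]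
      exact (map_mul π g g).trans hg
    refine eq_top_iff.2 fun z _ => ?_
    obtain ⟨z', hz', e⟩ := h z.2
    rwa [show z = z' from Subtype.ext e.symm]
  have hωc : ω c = c := by
    have hm : ω c ∈ commutator G := by
      rw [← map_commutator_surj ω.toMonoidHom ω.surjective]
      exact Subgroup.mem_map_of_mem _ hcA
    rcases eq_or_ne c 1 with h1 | h1
    · rw [h1, map_one]
    obtain ⟨k, hk⟩ := hle hm
    change c ^ k = ω c at hk
    rcases Int.even_or_odd k with ⟨m, rfl⟩ | ⟨m, rfl⟩
    · rw [← two_mul, zpow_mul, zpow_ofNat, sq, hcc, one_zpow] at hk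
      exact absurd (ω.map_eq_one_iff.1 hk.symm) h1
    · rw [zpow_add, zpow_mul, zpow_ofNat, sq, hcc, one_zpow, one_mul, zpow_one] at hk
      exact hk.symm
  have hwc : w cq = cq := by
    rw [hcq, qAut_mk]
    exact congrArg _ (Subtype.ext hωc)
  have hmem : ∀ z : Z, (z : G) ∈ commutator G → z ∈ Subgroup.zpowers (⟨c, hcm⟩ : Z) := fun z hz => by
    obtain ⟨k, hk⟩ := hle hz
    exact ⟨k, Subtype.ext hk⟩
  rcases eq_or_ne cq 1 with hc1 | hc1
  · -- `c` is redundant
    have htopZ : Subgroup.closure {(⟨a * a, hsqm a⟩ : Z), ⟨b * b, hsqm b⟩} = ⊤ := by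
      refine closure_eq_top_of_frattini (eq_top_iff.2 (hZg ▸ (Subgroup.closure_le _).2 ?_))
      rintro z (rfl | rfl | rfl)
      · exact Subgroup.mem_sup_left (Subgroup.subset_closure (by simp))
      · exact Subgroup.mem_sup_left (Subgroup.subset_closure (by simp))
      · exact Subgroup.mem_sup_right ((QuotientGroup.eq_one_iff _).1 hc1)
    have hfacZ : ∀ z ∈ Z, ∃ p r : ℤ, z = a ^ (2 * p) * b ^ (2 * r) := by
      intro z hz
      have h1 : (⟨z, hz⟩ : Z) ∈ Subgroup.closure {(⟨a * a, hsqm a⟩ : Z), ⟨b * b, hsqm b⟩} := by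
        rw [htopZ]; exact Subgroup.mem_top _
      have hcom : ∀ u v : Z, Commute u v := fun u v => Subtype.ext (hΦc u u.2 v)
      have key : ∀ w : Z, w ∈ Subgroup.closure {(⟨a * a, hsqm a⟩ : Z), ⟨b * b, hsqm b⟩} →
          ∃ p r : ℤ, w = (⟨a * a, hsqm a⟩ : Z) ^ p * (⟨b * b, hsqm b⟩ : Z) ^ r := by
        intro w hw
        induction hw using Subgroup.closure_induction with
        | mem s hs =>
          rcases hs with rfl | rfl
          · exact ⟨1, 0, by simp⟩
          · exact ⟨0, 1, by simp⟩
        | one => exact ⟨0, 0, by simp⟩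
        | mul u v _ _ hu hv =>
          obtain ⟨p, r, rfl⟩ := hu
          obtain ⟨p', r', rfl⟩ := hv
          exact ⟨p + p', r + r', by rw [zpow_add, zpow_add, (hcom _ _).mul_mul_mul_comm]⟩
        | inv u _ hu =>
          obtain ⟨p, r, rfl⟩ := hu
          exact ⟨-p, -r, by rw [mul_inv_rev, (hcom _ _).eq, zpow_neg, zpow_neg]⟩
      obtain ⟨p, r, e⟩ := key _ h1
      refine ⟨p, r, ?_⟩
      rw [zpow_mul, zpow_mul, zpow_ofNat, zpow_ofNat, sq, sq]
      exact congrArg Subtype.val e
    rcases eq_or_ne c 1 with hce | hce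
    · refine isMetacyclic_of_normal_zpowers hgen (normal_zpowers_of_conj hgen ?_)
      rintro s (rfl | rfl)
      · rw [mul_inv_cancel_right]; exact Subgroup.mem_zpowers _
      · rw [← (commutatorElement_eq_one_iff_mul_comm.1 (hc ▸ hce) : a * b = b * a),
          mul_inv_cancel_right]
        exact Subgroup.mem_zpowers _
    by_contra hnm
    have hfac : ∀ g : G, ∃ i j : ℤ, g = a ^ i * b ^ j := by
      intro g
      induction (show g ∈ Subgroup.closure {a, b} by rw [hgen]; exact Subgroup.mem_top g) using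
        Subgroup.closure_induction with
      | mem s hs =>
        rcases hs with rfl | rfl
        · exact ⟨1, 0, by simp⟩
        · exact ⟨0, 1, by simp⟩
      | one => exact ⟨0, 0, by simp⟩
      | mul u v _ _ hu hv =>
        obtain ⟨i, j, rfl⟩ := hu
        obtain ⟨k, l, rfl⟩ := hv
        have hdm : ⁅b ^ j, a ^ k⁆ ∈ commutator G :=
          Subgroup.commutator_mem_commutator (Subgroup.mem_top _) (Subgroup.mem_top _)
        obtain ⟨p, r, hpr⟩ := hfacZ _ (Solvable.commutator_le_frattini hG hdm)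
        refine ⟨i + k + 2 * p, 2 * r + (j + l), ?_⟩
        calc a ^ i * b ^ j * (a ^ k * b ^ l)
            = a ^ i * ⁅b ^ j, a ^ k⁆ * (a ^ k * b ^ j * b ^ l) := by
              rw [commutatorElement_def]; group
          _ = a ^ i * a ^ k * (⁅b ^ j, a ^ k⁆ * (b ^ j * b ^ l)) := by
              rw [show a ^ i * ⁅b ^ j, a ^ k⁆ * (a ^ k * b ^ j * b ^ l) =
                a ^ i * (⁅b ^ j, a ^ k⁆ * a ^ k) * (b ^ j * b ^ l) by group, hcen _ hdm]
              simp only [mul_assoc]
          _ = a ^ (i + k + 2 * p) * b ^ (2 * r + (j + l)) := by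
              rw [hpr, zpow_add, zpow_add, zpow_add, zpow_add]
              simp only [mul_assoc]
      | inv u _ hu =>
        obtain ⟨i, j, rfl⟩ := hu
        have hdm : ⁅b ^ (-j), a ^ (-i)⁆ ∈ commutator G :=
          Subgroup.commutator_mem_commutator (Subgroup.mem_top _) (Subgroup.mem_top _)
        obtain ⟨p, r, hpr⟩ := hfacZ _ (Solvable.commutator_le_frattini hG hdm)
        refine ⟨-i + 2 * p, 2 * r + -j, ?_⟩
        calc (a ^ i * b ^ j)⁻¹ = ⁅b ^ (-j), a ^ (-i)⁆ * a ^ (-i) * b ^ (-j) := by
              rw [commutatorElement_def]; group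
          _ = a ^ (-i) * ⁅b ^ (-j), a ^ (-i)⁆ * b ^ (-j) := by rw [hcen _ hdm]
          _ = a ^ (-i + 2 * p) * b ^ (2 * r + -j) := by
              rw [hpr, zpow_add, zpow_add]; simp only [mul_assoc]
    have hpair : Pair a b := ⟨hfac, hG, hnm⟩
    obtain ⟨⟨i, j, ⟨i', hi⟩, ⟨j', hj⟩, hij⟩, -⟩ :=
      exists_sq_eq_one hpair (fun g => hcen c hcA g) hcc
    have hqab1 : q (a * b) = 1 := by
      have e : a ^ i * b ^ j = a * b * ((a * a) ^ i' * (b * b) ^ j') := by
        rw [hi, hj, show (2 : ℤ) * i' + 1 = 1 + 2 * i' by ring,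
          show (2 : ℤ) * j' + 1 = 1 + 2 * j' by ring, zpow_add, zpow_add, zpow_one, zpow_one,
          zpow_mul, zpow_mul, zpow_ofNat, zpow_ofNat, sq, sq]
        calc a * (a * a) ^ i' * (b * (b * b) ^ j') = a * ((a * a) ^ i' * b) * (b * b) ^ j' := by
              simp only [mul_assoc]
          _ = a * b * ((a * a) ^ i' * (b * b) ^ j') := by
              rw [hΦc _ (zpow_mem (hsqm a) i') b]; simp only [mul_assoc]
      have h := hq2 (a * b) _ (mul_mem (zpow_mem (hsqm a) i') (zpow_mem (hsqm b) j'))
      rw [← e] at h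
      rw [← h]
      show ((⟨_, _⟩ : Z) : Z ⧸ frattini Z) = 1
      rw [sq] at hij
      simp only [hij]
      rfl
    have hqb : q b = 1 := by
      have h := hqω b
      rw [hqωb, hqab1] at h
      exact w.map_eq_one_iff.1 h.symm
    have hqa : q a = 1 := by
      have h := hqω a
      rw [← hb, hqb] at h
      exact w.map_eq_one_iff.1 h.symm
    have hfull : frattini Z = ⊤ := by
      refine eq_top_iff.2 (htopZ ▸ (Subgroup.closure_le _).2 ?_)
      rintro z (rfl | rfl)
      · exact (QuotientGroup.eq_one_iff _).1 hqa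
      · exact (QuotientGroup.eq_one_iff _).1 hqb
    have hbot : (⊥ : Subgroup Z) = ⊤ := by
      rw [← closure_eq_top_of_frattini (T := Z) (S := ∅) (by rw [hfull, sup_top_eq]),
        Subgroup.closure_empty]
    have h1 : (⟨c, hcm⟩ : Z) ∈ (⊥ : Subgroup Z) := hbot ▸ Subgroup.mem_top _
    exact hce (congrArg Subtype.val (Subgroup.mem_bot.1 h1))
  · -- `ω` is trivial on `Φ / Φ(Φ)`
    have hwtriv : ∀ v, w v = v := by
      intro v
      by_contra hv
      have hv1 : v ≠ 1 := fun e => hv (by rw [e, map_one])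
      have hvc : v ≠ cq := fun e => hv (by rw [e, hwc])
      have hwv1 : w v ≠ 1 := fun e => hv1 (w.map_eq_one_iff.1 e)
      have hwvc : w v ≠ cq := fun e => hvc (w.injective (e.trans hwc.symm))
      have hw2 : w (w v) ≠ 1 := fun e => hwv1 (w.map_eq_one_iff.1 e)
      have hw2c : w (w v) ≠ cq := fun e => hwvc (w.injective (e.trans hwc.symm))
      have d02 : w (w v) ≠ v := fun e => hv (eq_self_of_apply_apply (odd_orderOf_of_cube hw3) e)
      have d12 : w (w v) ≠ w v := fun e => hv (w.injective e)
      let g : Fin 5 → Z ⧸ frattini Z := ![1, cq, v, w v, w (w v)]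
      have hg : Function.Injective g := by
        intro i j hij
        fin_cases i <;> fin_cases j <;>
          first
            | rfl
            | simp [g, hc1, hc1.symm, hv1, hv1.symm, hvc, hvc.symm, hwv1, hwv1.symm, hwvc,
                hwvc.symm, hw2, hw2.symm, hw2c, hw2c.symm, hv, Ne.symm hv, d02, d02.symm, d12,
                d12.symm] at hij
      have h5 := Nat.card_le_card_of_injective g hg
      rw [← Subgroup.index_eq_card] at h5
      simp at h5
      omega
    have hqbq : q b = q a := by rw [hb, hqω, hwtriv]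
    have hqac : q a = cq := by
      have h := hqω b
      rw [hqωb, hqab, hqbq, hwtriv, sq_eq_one_quot hZp, one_mul] at h
      exact h.symm
    have htopc : Subgroup.closure {(⟨c, hcm⟩ : Z)} = ⊤ := by
      refine closure_eq_top_of_frattini (eq_top_iff.2 (hZg ▸ (Subgroup.closure_le _).2 ?_))
      have hm : ∀ z : Z, (z : Z ⧸ frattini Z) = cq →
          z ∈ Subgroup.closure {(⟨c, hcm⟩ : Z)} ⊔ frattini Z := fun z hz => by
        have h := QuotientGroup.eq.1 hz.symm
        rw [← mul_inv_cancel_left (⟨c, hcm⟩ : Z) z]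
        exact mul_mem (Subgroup.mem_sup_left (Subgroup.subset_closure rfl))
          (Subgroup.mem_sup_right h)
      rintro z (rfl | rfl | rfl)
      · exact hm _ hqac
      · exact hm _ (hqbq.trans hqac)
      · exact Subgroup.mem_sup_left (Subgroup.subset_closure rfl)
    rw [← Subgroup.zpowers_eq_closure] at htopc
    have haa : a * a = c := by
      obtain ⟨k, hk⟩ : (⟨a * a, hsqm a⟩ : Z) ∈ Subgroup.zpowers (⟨c, hcm⟩ : Z) := by
        rw [htopc]; exact Subgroup.mem_top _
      change (⟨c, hcm⟩ : Z) ^ k = _ at hk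
      have hk' : c ^ k = a * a := congrArg Subtype.val hk
      rcases Int.even_or_odd k with ⟨m, rfl⟩ | ⟨m, rfl⟩
      · rw [← two_mul, zpow_mul, zpow_ofNat, sq, hcc, one_zpow] at hk'
        refine absurd ?_ hc1
        rw [← hqac]
        show ((⟨a * a, hsqm a⟩ : Z) : Z ⧸ frattini Z) = 1
        rw [show (⟨a * a, hsqm a⟩ : Z) = 1 from Subtype.ext hk'.symm, QuotientGroup.mk_one]
      · rw [zpow_add, zpow_mul, zpow_ofNat, sq, hcc, one_zpow, one_mul, zpow_one] at hk'
        exact hk'.symm
    have hca : c ∈ Subgroup.zpowers a := ⟨2, by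
      show a ^ (2 : ℤ) = c
      rw [zpow_ofNat, sq, haa]⟩
    exact isMetacyclic_of_normal_zpowers hgen (Subgroup.Normal.of_commutator_le G
      (hle.trans (Subgroup.zpowers_le.2 hca)))

end classTwo

section shape

variable {G : Type u} [Group G] [Finite G]

/-- The criterion. -/
theorem isMetacyclic_of_three (hG : IsPGroup 2 G) {ω : MulAut G} (h3 : ω ^ 3 = 1)
    (hne : ω ≠ 1) (htop : comSub ω = ⊤) (hidx : (frattini G).index = 4)
    (hZ : (frattini (frattini G)).index ≤ 4) : Cfsg.IsMetacyclic G := by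
  haveI : Fact (Nat.Prime 2) := ⟨Nat.prime_two⟩
  obtain ⟨a, ha⟩ : ∃ a : G, a ∉ frattini G := by
    by_contra hc
    push Not at hc
    rw [show frattini G = ⊤ from eq_top_iff.2 fun g _ => hc g, Subgroup.index_top] at hidx
    omega
  have hgen : Subgroup.closure {a, ω a} = ⊤ := by
    refine closure_eq_top_of_frattini (eq_top_iff.2 fun g _ => ?_)
    set L := Subgroup.closure {a, ω a} ⊔ frattini G with hL
    have haL : a ∈ L := Subgroup.mem_sup_left (Subgroup.subset_closure (by simp))
    have hbL : ω a ∈ L := Subgroup.mem_sup_left (Subgroup.subset_closure (by simp))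
    have hωb : ω (ω a) ∈ L := by
      have h := mul_mem (inv_mem (mul_mem haL hbL))
        (Subgroup.mem_sup_right (triple_mem_frattini hG h3 htop a) : a * ω a * ω (ω a) ∈ L)
      rwa [inv_mul_cancel_left] at h
    refine mem_of_frattini_invariant hG h3 hne hidx le_sup_right (fun x hx => ?_) haL ha g
    have hle : L ≤ L.comap ω.toMonoidHom := sup_le ((Subgroup.closure_le _).2 (by
      rw [Set.insert_subset_iff, Set.singleton_subset_iff]
      exact ⟨hbL, hωb⟩)) fun z hz => Subgroup.mem_sup_right (frattini_invariant ω z hz)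
    exact hle hx
  have hinv : ∀ z ∈ wGroup G, ω z ∈ wGroup G := fun z hz =>
    (map_wGroup ω.toMonoidHom ω.surjective) ▸ Subgroup.mem_map_of_mem ω.toMonoidHom hz
  let π := QuotientGroup.mk' (wGroup G)
  have hπ : Function.Surjective π := QuotientGroup.mk'_surjective _
  let ω' := qAut (wGroup G) ω hinv
  have hmapΦ := map_frattini_of_surjective hG π hπ
  have hcom : (frattini G) = (frattini (G ⧸ wGroup G)).comap π := by
    rw [← hmapΦ, Subgroup.comap_map_eq_self]
    rw [QuotientGroup.ker_mk']
    exact wGroup_le_commutator.trans (Solvable.commutator_le_frattini hG)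
  have htop' : comSub ω' = ⊤ := by
    rw [eq_top_iff, ← Subgroup.map_top_of_surjective π hπ, ← htop, comSub, MonoidHom.map_closure,
      Subgroup.closure_le]
    rintro _ ⟨_, ⟨g, rfl⟩, rfl⟩
    exact Subgroup.subset_closure ⟨π g, by rw [map_mul, map_inv]; rfl⟩
  have hidx' : (frattini (G ⧸ wGroup G)).index = 4 := by
    rw [← hidx, hcom, Subgroup.index_comap_of_surjective _ hπ]
  have hne' : ω' ≠ 1 := by
    intro e
    have h : π (a⁻¹ * ω a) = 1 := by
      rw [map_mul, map_inv, inv_mul_eq_one]
      exact (DFunLike.congr_fun e (π a)).symm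
    exact ha (mem_frattini_of_fixed hG h3 htop (by
      rw [hcom, Subgroup.mem_comap, h]; exact one_mem _))
  have hZ' : (frattini (frattini (G ⧸ wGroup G))).index ≤ 4 := by
    let f : frattini G →* frattini (G ⧸ wGroup G) :=
      (π.comp (frattini G).subtype).codRestrict _ fun z => hmapΦ ▸ Subgroup.mem_map_of_mem π z.2
    have hf : Function.Surjective f := fun z => by
      obtain ⟨g, hg, e⟩ : (z : G ⧸ wGroup G) ∈ (frattini G).map π := hmapΦ.symm ▸ z.2
      exact ⟨⟨g, hg⟩, Subtype.ext e⟩
    refine le_trans ?_ hZ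
    rw [← Subgroup.index_comap_of_surjective _ hf]
    exact Nat.le_of_dvd (Nat.pos_of_ne_zero Subgroup.index_ne_zero_of_finite)
      (Subgroup.index_dvd_of_le (frattini_le_comap_frattini_of_surjective hf))
  refine isMetacyclic_of_quotient _ rfl hG ⟨a, ω a, hgen⟩ (wGroup G) le_rfl
    (isMetacyclic_of_three_classTwo (hG.to_quotient _) (qAut_pow_eq_one h3) hne' htop' hidx' hZ'
      ?_ ?_)
  · intro d hd g
    rw [← map_commutator_surj π hπ] at hd
    obtain ⟨d, hd, rfl⟩ := hd
    obtain ⟨g, rfl⟩ := hπ g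
    rw [← commutatorElement_eq_one_iff_mul_comm, ← map_commutatorElement]
    exact (QuotientGroup.eq_one_iff _).2 (commutator_mem_wGroup hd g)
  · intro d hd
    rw [← map_commutator_surj π hπ] at hd
    obtain ⟨d, hd, rfl⟩ := hd
    rw [← map_mul, ← sq]
    exact (QuotientGroup.eq_one_iff _).2 (sq_mem_wGroup hd)

/-- Such a metacyclic group is abelian or quaternion of order eight. -/
theorem comm_or_quaternion (hG : IsPGroup 2 G) (hm : Cfsg.IsMetacyclic G) {ω : MulAut G}
    (h3 : ω ^ 3 = 1) (hne : ω ≠ 1) :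
    (∀ a b : G, a * b = b * a) ∨ ∃ z : G, z ≠ 1 ∧ z * z = 1 ∧ (∀ g : G, g * g = 1 → g = 1 ∨ g = z) ∧
      (∀ g : G, z * g = g * z) ∧ frattini G ≤ Subgroup.zpowers z ∧
      ∀ a b : G, a * b ≠ b * a → a * b * a⁻¹ = b⁻¹ := by
  classical
  haveI : Fact (Nat.Prime 2) := ⟨Nat.prime_two⟩
  by_cases hc : ∀ a b : G, a * b = b * a
  · exact Or.inl hc
  refine Or.inr ?_
  obtain ⟨e⟩ := FusionMetacyclic.quaternion_of_not_comm hG hm (odd_orderOf_of_cube h3) hne
    fun h => hc fun a b => h.is_comm.comm a b
  let Z : QuaternionGroup 2 := QuaternionGroup.a 2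
  have d1 : Z ≠ 1 ∧ Z * Z = 1 := by decide
  have d2 : ∀ g : QuaternionGroup 2, g * g = 1 → g = 1 ∨ g = Z := by decide
  have d3 : ∀ g : QuaternionGroup 2, Z * g = g * Z := by decide
  have d4 : ∀ g : QuaternionGroup 2, g * g = 1 ∨ g * g = Z := by decide
  have d5 : ∀ a b : QuaternionGroup 2, a * b * a⁻¹ * b⁻¹ = 1 ∨ a * b * a⁻¹ * b⁻¹ = Z := by decide
  have d6 : ∀ a b : QuaternionGroup 2, a * b ≠ b * a → a * b * a⁻¹ = b⁻¹ := by decide
  refine ⟨e.symm Z, fun h => d1.1 (e.symm.map_eq_one_iff.1 h),
    by rw [← map_mul, d1.2, map_one], fun g hg => ?_, fun g => e.injective ?_, ?_, fun a b hab => ?_⟩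
  · rcases d2 (e g) (by rw [← map_mul, hg, map_one]) with h | h
    · exact Or.inl (e.map_eq_one_iff.1 h)
    · exact Or.inr (e.eq_symm_apply.2 h)
  · rw [map_mul, map_mul, e.apply_symm_apply, d3]
  · haveI : (Subgroup.zpowers (e.symm Z)).Normal := ⟨fun x hx g => by
      obtain ⟨k, rfl⟩ := hx
      rw [← conj_zpow]
      refine zpow_mem ?_ k
      rw [show g * e.symm Z * g⁻¹ = e.symm Z from e.injective (by
        rw [map_mul, map_mul, e.apply_symm_apply, map_inv, ← d3, mul_inv_cancel_right])]
      exact Subgroup.mem_zpowers _⟩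
    have hmem : ∀ q : QuaternionGroup 2, q = 1 ∨ q = Z →
        e.symm q ∈ Subgroup.zpowers (e.symm Z) := by
      rintro q (rfl | rfl)
      · rw [map_one]; exact one_mem _
      · exact Subgroup.mem_zpowers _
    refine Solvable.frattini_le_of_elementary (p := 2) ?_ fun g => ?_
    · rw [commutator_def, Subgroup.commutator_le]
      intro a _ b _
      rw [show ⁅a, b⁆ = e.symm (e a * e b * (e a)⁻¹ * (e b)⁻¹) by
        simp [commutatorElement_def, ← map_inv, ← map_mul]]
      exact hmem _ (d5 _ _)
    · rw [show g ^ 2 = e.symm (e g * e g) by rw [← map_mul, e.symm_apply_apply, sq]]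
      exact hmem _ (d4 _)
  · apply e.injective
    rw [map_mul, map_mul, map_inv, map_inv]
    exact d6 _ _ fun h => hab (e.injective (by rw [map_mul, map_mul, h]))

/-- In the abelian case the only fixed point is trivial. -/
theorem fixed_eq_one (hG : IsPGroup 2 G) {ω : MulAut G} (h3 : ω ^ 3 = 1) (htop : comSub ω = ⊤)
    (hc : ∀ a b : G, a * b = b * a) {x : G} (hx : ω x = x) : x = 1 := by
  letI : CommGroup G := { (inferInstance : Group G) with mul_comm := hc }
  let f : G →* G :=
    { toFun := fun g => g * ω g * ω (ω g)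
      map_one' := by simp
      map_mul' := fun a b => by simp only [map_mul]; ac_rfl }
  have hle : comSub ω ≤ f.ker := by
    refine (Subgroup.closure_le _).2 ?_
    rintro _ ⟨q, rfl⟩
    rw [SetLike.mem_coe, MonoidHom.mem_ker, map_mul, map_inv, inv_mul_eq_one]
    show q * ω q * ω (ω q) = ω q * ω (ω q) * ω (ω (ω q))
    rw [apply_three h3]
    ac_rfl
  have h := MonoidHom.mem_ker.1 (hle (htop ▸ Subgroup.mem_top x))
  change x * ω x * ω (ω x) = 1 at h
  rw [hx, hx] at h
  have h' : x ^ 3 = 1 := by rw [pow_succ, pow_succ, pow_one]; exact h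
  obtain ⟨k, hk⟩ := IsPGroup.iff_orderOf.1 hG x
  refine orderOf_eq_one_iff.1 (Nat.eq_one_of_dvd_coprimes ?_ (dvd_refl (orderOf x))
    (orderOf_dvd_of_pow_eq_one h'))
  rw [hk]
  exact (Nat.coprime_primes Nat.prime_two Nat.prime_three).2 (by norm_num) |>.pow_left k

theorem exists_moved_involution (hG : IsPGroup 2 G) {ω : MulAut G} (h3 : ω ^ 3 = 1)
    (hne : ω ≠ 1) (htop : comSub ω = ⊤) (hc : ∀ a b : G, a * b = b * a) :
    ∃ v : G, v * v = 1 ∧ v ≠ 1 ∧ ω v ≠ v := by
  haveI : Fact (Nat.Prime 2) := ⟨Nat.prime_two⟩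
  obtain ⟨g, hg⟩ : ∃ g : G, g ≠ 1 := by
    by_contra h
    push Not at h
    exact hne (MulEquiv.ext fun x => by rw [h x, map_one, map_one])
  obtain ⟨k, hk⟩ := IsPGroup.iff_orderOf.1 hG g
  rcases k with _ | k
  · exact absurd (orderOf_eq_one_iff.1 (by rw [hk, pow_zero])) hg
  refine ⟨g ^ 2 ^ k, ?_, ?_, fun h => ?_⟩
  · rw [← pow_add, ← two_mul, ← pow_succ', ← hk, pow_orderOf_eq_one]
  · intro h
    have := Nat.le_of_dvd (Nat.two_pow_pos k) (orderOf_dvd_of_pow_eq_one h)
    rw [hk, pow_succ] at this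
    have := Nat.two_pow_pos k
    omega
  · have h1 := fixed_eq_one hG h3 htop hc h
    have := Nat.le_of_dvd (Nat.two_pow_pos k) (orderOf_dvd_of_pow_eq_one h1)
    rw [hk, pow_succ] at this
    have := Nat.two_pow_pos k
    omega

/-- Either elementary, or every involution is a square. -/
theorem elementary_or_mem_frattini (hG : IsPGroup 2 G) {ω : MulAut G} (h3 : ω ^ 3 = 1) (hne : ω ≠ 1)
    (hidx : (frattini G).index = 4) (hc : ∀ a b : G, a * b = b * a) :
    ((∀ g : G, g * g = 1) ∧ frattini G = ⊥ ∧ Nat.card G = 4) ∨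
      ∀ g : G, g * g = 1 → g ∈ frattini G := by
  haveI : Fact (Nat.Prime 2) := ⟨Nat.prime_two⟩
  obtain ⟨n, he, ho⟩ :=
    FusionMetacyclic.exists_uniform_exponent hG hidx.le (odd_orderOf_of_cube h3) hne hc
  rcases n with _ | n
  · have hsq : ∀ g : G, g * g = 1 := fun g => by rw [← sq]; exact he g
    have hbot : frattini G = ⊥ := eq_bot_iff.2 (Solvable.frattini_le_of_elementary (p := 2) (by
      rw [commutator_def, Subgroup.commutator_le]
      intro a _ b _
      rw [Subgroup.mem_bot, commutatorElement_eq_one_iff_mul_comm]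
      exact hc a b) fun g => by rw [Subgroup.mem_bot, sq]; exact hsq g)
    refine Or.inl ⟨hsq, hbot, ?_⟩
    rw [← hidx, hbot, Subgroup.index_bot]
  · refine Or.inr fun g hg => ?_
    by_contra h
    exact ho g h (by rw [pow_succ', pow_mul, sq, hg, one_pow])

end shape

end CfsgLib.Bicyclic
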