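import Cfsg.Agent.Bicyclic.Essential

/-!
# The subgroups `[P, ω]` and `C_P(ω)` inside `T`

`Sit`: an automorphism `ω` of order three of the essential subgroup `P`, inverted by an element `n` of
the coset `P s`.
-/

set_option autoImplicit false
set_option linter.style.haveILetI false
set_option linter.unusedSectionVars false

namespace CfsgLib.Bicyclic

open scoped commutatorElement

variable {T : Type*} [Group T]

/-- `[P, ω]`, inside `T`. -/
def xs {P : Subgroup T} (ω : MulAut P) : Subgroup T := (comSub ω).map P.subtype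

/-- `C_P(ω)`, inside `T`. -/
def cs {P : Subgroup T} (ω : MulAut P) : Subgroup T :=
  (MonoidHom.eqLocus ω.toMonoidHom (MonoidHom.id P)).map P.subtype

/-- The Frattini subgroup of `[P, ω]`, inside `T`. -/
def zs {P : Subgroup T} (ω : MulAut P) : Subgroup T :=
  ((frattini (comSub ω)).map (comSub ω).subtype).map P.subtype

theorem mem_xs {P : Subgroup T} {ω : MulAut P} {v : T} :
    v ∈ xs ω ↔ ∃ hv : v ∈ P, (⟨v, hv⟩ : P) ∈ comSub ω := by
  constructor
  · rintro ⟨a, ha, rfl⟩
    exact ⟨a.2, ha⟩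
  · rintro ⟨hv, ha⟩
    exact ⟨_, ha, rfl⟩

theorem mem_cs {P : Subgroup T} {ω : MulAut P} {v : T} :
    v ∈ cs ω ↔ ∃ hv : v ∈ P, ω ⟨v, hv⟩ = ⟨v, hv⟩ := by
  constructor
  · rintro ⟨a, ha, rfl⟩
    exact ⟨a.2, ha⟩
  · rintro ⟨hv, ha⟩
    exact ⟨⟨v, hv⟩, ha, rfl⟩

theorem mem_zs {P : Subgroup T} {ω : MulAut P} {v : T} :
    v ∈ zs ω ↔ ∃ a ∈ frattini (comSub ω), ((a : P) : T) = v := by
  constructor
  · rintro ⟨b, ⟨a, ha, rfl⟩, rfl⟩
    exact ⟨a, ha, rfl⟩
  · rintro ⟨a, ha, rfl⟩
    exact ⟨_, ⟨a, ha, rfl⟩, rfl⟩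

theorem zs_le_xs {P : Subgroup T} (ω : MulAut P) : zs ω ≤ xs ω :=
  Subgroup.map_mono (Subgroup.map_subtype_le _)

variable [Finite T] {x y : T}

/-- A quaternion group of order eight inside the Frattini subgroup is impossible. -/
theorem Std.false_of_quaternion_frattini (h : Std x y) (hA : ¬ IsCyclic ↥(commutator T))
    {Q : Subgroup T} (hQ : Q ≤ frattini T) {z : T} (hz : ∀ g : T, g ∈ Q → g * g = 1 → g = 1 ∨ g = z)
    (hQz : ∀ g ∈ Q, g * g ∈ Subgroup.zpowers z) (hcz : ∀ g ∈ Q, ∀ g' ∈ Q, ⁅g, g'⁆ ∈ Subgroup.zpowers z)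
    (hnc : ∃ a ∈ Q, ∃ b ∈ Q, a * b ≠ b * a) (hzQ : z ∈ Q) (hzz : z * z = 1) : False := by
  classical
  haveI : Fact (Nat.Prime 2) := ⟨Nat.prime_two⟩
  set U := uSub h.toPair with hU
  have hzU : z ∈ U := h.mem_uSub hA (hQ hzQ) (by rw [sq]; exact hzz)
  obtain ⟨u, hu, hu1, huz⟩ : ∃ u ∈ U, u ≠ 1 ∧ u ≠ z := by
    by_contra hc
    push Not at hc
    have hle : U ≤ Subgroup.zpowers z := fun u hu => by
      by_cases h1 : u = 1
      · rw [h1]; exact one_mem _
      · rw [hc u hu h1]; exact Subgroup.mem_zpowers z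
    have h2 := (Subgroup.card_le_of_le hle).trans_eq (Nat.card_zpowers z)
    rw [hU, h.card_uSub hA] at h2
    have := Nat.le_of_dvd two_pos (orderOf_dvd_of_pow_eq_one (show z ^ 2 = 1 by rw [sq, hzz]))
    omega
  have huQ : u ∉ Q := fun hq => by
    rcases hz u hq (by rw [← sq]; exact hu.2) with h1 | h1
    · exact hu1 h1
    · exact huz h1
  have huΦ : u ∈ frattini T := h.toPair.commutator_le hu.1
  have huc : ∀ g ∈ Q, Commute u g := fun g hg => h.uSub_central hA u hu g (hQ hg)
  have hu2 : u * u = 1 := by rw [← sq]; exact hu.2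
  let E : Subgroup T :=
    { carrier := {g | g ∈ Q ∨ g * u ∈ Q}
      one_mem' := Or.inl (one_mem _)
      mul_mem' := by
        rintro a b (ha | ha) (hb | hb)
        · exact Or.inl (mul_mem ha hb)
        · exact Or.inr (by rw [mul_assoc]; exact mul_mem ha hb)
        · refine Or.inr ?_
          rw [show a * b * u = a * (b * u) by group, ← (huc b hb).eq, ← mul_assoc]
          exact mul_mem ha hb
        · refine Or.inl ?_
          have e : a * u * (b * u) = a * b := by
            rw [mul_assoc a u, (huc _ hb).eq, mul_assoc b u u, hu2, mul_one]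
          rw [← e]
          exact mul_mem ha hb
      inv_mem' := by
        rintro a (ha | ha)
        · exact Or.inl (inv_mem ha)
        · refine Or.inr ?_
          have e : a⁻¹ * u = (a * u)⁻¹ := by
            have h1 := (huc _ ha).eq
            rw [mul_assoc a u u, hu2, mul_one] at h1
            rw [eq_inv_iff_mul_eq_one, mul_assoc, h1, inv_mul_cancel]
          rw [e]; exact inv_mem ha }
  have hEΦ : E ≤ frattini T := by
    rintro a (ha | ha)
    · exact hQ ha
    · simpa using mul_mem (hQ ha) (inv_mem huΦ)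
  have hEm := isMetacyclic_of_le h.isMetacyclic_frattini hEΦ
  have hp : IsPGroup 2 E := h.p2.to_subgroup E
  have hidx := FusionMetacyclic.index_frattini_le hp hEm
  -- the squares and commutators lie in `⟨z⟩`
  let Z : Subgroup E := (Subgroup.zpowers z).subgroupOf E
  have hmod : ∀ a : E, ∃ g ∈ Q, (a : T) = g ∨ (a : T) = g * u := by
    intro a
    rcases a.2 with ha | ha
    · exact ⟨_, ha, Or.inl rfl⟩
    · exact ⟨_, ha, Or.inr (by rw [mul_assoc, hu2, mul_one])⟩
  have hle : frattini E ≤ Z := by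
    haveI : Z.Normal := ⟨fun w hw a => by
      obtain ⟨k, hk⟩ := hw
      change z ^ k = (w : T) at hk
      show (a : T) * w * (a : T)⁻¹ ∈ Subgroup.zpowers z
      have hcomm : Commute (a : T) z := by
        obtain ⟨g, hg, e | e⟩ := hmod a
        · rw [e]
          have h1 := hcz g hg z hzQ
          obtain ⟨j, hj⟩ := h1
          change z ^ j = _ at hj
          rcases Int.even_or_odd j with ⟨m, rfl⟩ | ⟨m, rfl⟩
          · rw [← two_mul, zpow_mul, zpow_ofNat, sq, hzz, one_zpow, eq_comm,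
              commutatorElement_eq_one_iff_mul_comm] at hj
            exact hj
          · rw [zpow_add, zpow_mul, zpow_ofNat, sq, hzz, one_zpow, one_mul, zpow_one,
              commutatorElement_def, eq_mul_inv_iff_mul_eq, hzz, eq_comm, mul_inv_eq_one,
              mul_eq_left] at hj
            rw [hj]; exact Commute.one_right g
        · rw [e]
          refine Commute.mul_left ?_ (huc z hzQ)
          have h1 := hcz g hg z hzQ
          obtain ⟨j, hj⟩ := h1
          change z ^ j = _ at hj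
          rcases Int.even_or_odd j with ⟨m, rfl⟩ | ⟨m, rfl⟩
          · rw [← two_mul, zpow_mul, zpow_ofNat, sq, hzz, one_zpow, eq_comm,
              commutatorElement_eq_one_iff_mul_comm] at hj
            exact hj
          · rw [zpow_add, zpow_mul, zpow_ofNat, sq, hzz, one_zpow, one_mul, zpow_one,
              commutatorElement_def, eq_mul_inv_iff_mul_eq, hzz, eq_comm, mul_inv_eq_one,
              mul_eq_left] at hj
            rw [hj]; exact Commute.one_right g
      rw [← hk, ((hcomm.zpow_right k)).eq, mul_inv_cancel_right]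
      exact ⟨k, rfl⟩⟩
    refine Solvable.frattini_le_of_elementary (p := 2) ?_ fun a => ?_
    · rw [commutator_def, Subgroup.commutator_le]
      intro a _ b _
      show ⁅(a : T), (b : T)⁆ ∈ Subgroup.zpowers z
      obtain ⟨g, hg, e⟩ := hmod a
      obtain ⟨g', hg', e'⟩ := hmod b
      have hgu : ∀ (w : T), Commute u w → ∀ r, ⁅r * u, w⁆ = ⁅r, w⁆ := fun w hw r => by
        rw [commutatorElement_def, commutatorElement_def, mul_inv_rev, mul_assoc r u w, hw.eq]
        group
      have hgu' : ∀ (w : T), Commute u w → ∀ r, ⁅w, r * u⁆ = ⁅w, r⁆ := fun w hw r => by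
        rw [← commutatorElement_inv, hgu w hw r, commutatorElement_inv]
      rcases e with e | e <;> rcases e' with e' | e' <;> rw [e, e']
      · exact hcz g hg g' hg'
      · rw [hgu' g (huc g hg)]; exact hcz g hg g' hg'
      · rw [hgu g' (huc g' hg')]; exact hcz g hg g' hg'
      · rw [hgu _ ((huc g' hg').mul_right (Commute.refl u)), hgu' g (huc g hg)]
        exact hcz g hg g' hg'
    · show (a : T) ^ 2 ∈ Subgroup.zpowers z
      obtain ⟨g, hg, e | e⟩ := hmod a
      · rw [e, sq]; exact hQz g hg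
      · rw [e, (huc g hg).symm.mul_pow, sq u, hu2, mul_one, sq]; exact hQz g hg
  obtain ⟨a, ha, b, hb, hab⟩ := hnc
  -- five cosets of `⟨z⟩`
  have haE : a ∈ E := Or.inl ha
  have hbE : b ∈ E := Or.inl hb
  have huE : u ∈ E := Or.inr (by rw [hu2]; exact one_mem _)
  have hzin : ∀ g : T, g ∈ Subgroup.zpowers z → g ∈ Q ∧ Commute g a ∧ Commute g b := by
    intro g hg
    obtain ⟨k, rfl⟩ := hg
    refine ⟨zpow_mem hzQ k, ?_, ?_⟩ <;>
    · refine Commute.zpow_left ?_ k
      rw [← commutatorElement_eq_one_iff_commute]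
      by_contra hne
      have h1 := hcz z hzQ
      first
        | obtain ⟨j, hj⟩ := h1 a ha
          change z ^ j = _ at hj
          rcases Int.even_or_odd j with ⟨m, rfl⟩ | ⟨m, rfl⟩
          · rw [← two_mul, zpow_mul, zpow_ofNat, sq, hzz, one_zpow] at hj
            exact hne hj.symm
          · rw [zpow_add, zpow_mul, zpow_ofNat, sq, hzz, one_zpow, one_mul, zpow_one,
              commutatorElement_def] at hj
            have e : a * z⁻¹ * a⁻¹ = 1 := by
              rw [← left_eq_mul (a := z)]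
              conv_lhs => rw [hj]
              group
            rw [mul_inv_eq_one, mul_eq_left, inv_eq_one] at e
            exact hne (by rw [e]; simp)
        | obtain ⟨j, hj⟩ := h1 b hb
          change z ^ j = _ at hj
          rcases Int.even_or_odd j with ⟨m, rfl⟩ | ⟨m, rfl⟩
          · rw [← two_mul, zpow_mul, zpow_ofNat, sq, hzz, one_zpow] at hj
            exact hne hj.symm
          · rw [zpow_add, zpow_mul, zpow_ofNat, sq, hzz, one_zpow, one_mul, zpow_one,
              commutatorElement_def] at hj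
            have e : b * z⁻¹ * b⁻¹ = 1 := by
              rw [← left_eq_mul (a := z)]
              conv_lhs => rw [hj]
              group
            rw [mul_inv_eq_one, mul_eq_left, inv_eq_one] at e
            exact hne (by rw [e]; simp)
  let f : Fin 5 → E ⧸ frattini E :=
    ![((1 : E) : E ⧸ frattini E), ((⟨a, haE⟩ : E) : E ⧸ frattini E),
      ((⟨b, hbE⟩ : E) : E ⧸ frattini E), ((⟨a * b, mul_mem haE hbE⟩ : E) : E ⧸ frattini E),
      ((⟨u, huE⟩ : E) : E ⧸ frattini E)]
  have hdiff : ∀ v w : E, (v : E ⧸ frattini E) = w → (v : T)⁻¹ * w ∈ Subgroup.zpowers z :=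
    fun v w hvw => hle (QuotientGroup.eq.1 hvw)
  have habne : ∀ g, g ∈ Subgroup.zpowers z → g ≠ a ∧ g ≠ b ∧ g ≠ a * b ∧ g ≠ a⁻¹ * b := by
    intro g hg
    obtain ⟨-, hga, hgb⟩ := hzin g hg
    refine ⟨fun e => hab ?_, fun e => hab ?_, fun e => hab ?_, fun e => hab ?_⟩
    · rw [e] at hgb; exact hgb
    · rw [e] at hga; exact hga.symm
    · rw [e] at hga
      exact mul_left_cancel (hga.eq.symm.trans (mul_assoc a b a))
    · rw [e] at hga
      have h1 : a⁻¹ * b * a = b := by rw [hga.eq, mul_inv_cancel_left]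
      calc a * b = a * (a⁻¹ * b * a) := by rw [h1]
        _ = b * a := by group
  have hf : Function.Injective f := by
    have k01 : ((1 : E) : E ⧸ frattini E) ≠ ((⟨a, haE⟩ : E) : E ⧸ frattini E) := fun e => by
      have := hdiff _ _ e
      simp at this
      exact (habne _ this).1 rfl
    have k02 : ((1 : E) : E ⧸ frattini E) ≠ ((⟨b, hbE⟩ : E) : E ⧸ frattini E) := fun e => by
      have := hdiff _ _ e
      simp at this
      exact (habne _ this).2.1 rfl
    have k03 : ((1 : E) : E ⧸ frattini E) ≠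
        ((⟨a * b, mul_mem haE hbE⟩ : E) : E ⧸ frattini E) := fun e => by
      have := hdiff _ _ e
      simp at this
      exact (habne _ this).2.2.1 rfl
    have k12 : ((⟨a, haE⟩ : E) : E ⧸ frattini E) ≠ ((⟨b, hbE⟩ : E) : E ⧸ frattini E) := fun e =>
      (habne _ (hdiff _ _ e)).2.2.2 rfl
    have k13 : ((⟨a, haE⟩ : E) : E ⧸ frattini E) ≠
        ((⟨a * b, mul_mem haE hbE⟩ : E) : E ⧸ frattini E) := fun e => by
      have := hdiff _ _ e
      simp at this
      exact (habne _ this).2.1 rfl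
    have k23 : ((⟨b, hbE⟩ : E) : E ⧸ frattini E) ≠
        ((⟨a * b, mul_mem haE hbE⟩ : E) : E ⧸ frattini E) := fun e => by
      have h1 := hdiff _ _ e
      obtain ⟨-, -, hgb⟩ := hzin _ h1
      refine (habne _ h1).1 ?_
      show b⁻¹ * (a * b) = a
      have h2 : b⁻¹ * (a * b) * b = b * (b⁻¹ * (a * b)) := hgb.eq
      rw [mul_inv_cancel_left] at h2
      exact mul_right_cancel h2
    have ku : ∀ (g : T) (hg : g ∈ E), g ∈ Q →
        ((⟨g, hg⟩ : E) : E ⧸ frattini E) ≠ ((⟨u, huE⟩ : E) : E ⧸ frattini E) := fun g hg hgQ e => by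
      refine huQ ?_
      have h1 := (hzin _ (hdiff _ _ e)).1
      simpa using mul_mem hgQ h1
    have k04 := ku 1 (one_mem _) (one_mem _)
    have k14 := ku a haE ha
    have k24 := ku b hbE hb
    have k34 := ku (a * b) (mul_mem haE hbE) (mul_mem ha hb)
    intro i j hij
    fin_cases i <;> fin_cases j <;>
      first
        | rfl
        | exact absurd hij k01 | exact absurd hij.symm k01 | exact absurd hij k02
        | exact absurd hij.symm k02 | exact absurd hij k03 | exact absurd hij.symm k03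
        | exact absurd hij k12 | exact absurd hij.symm k12 | exact absurd hij k13
        | exact absurd hij.symm k13 | exact absurd hij k23 | exact absurd hij.symm k23
        | exact absurd hij k04 | exact absurd hij.symm k04 | exact absurd hij k14
        | exact absurd hij.symm k14 | exact absurd hij k24 | exact absurd hij.symm k24
        | exact absurd hij k34 | exact absurd hij.symm k34
  have h5 := (Nat.card_le_card_of_injective f hf).trans
    ((Subgroup.index_eq_card _).symm.le.trans hidx)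
  simp at h5

/-- The standing situation. -/
structure Sit (h : Std x y) {P : Subgroup T} (𝒜 Y : Subgroup (MulAut P)) (s : T) (ω : MulAut P)
    (n : Subgroup.normalizer (P : Set T)) : Prop where
  ess : Ess P 𝒜 Y
  sN : s ∈ Subgroup.normalizer (P : Set T)
  sP : s ∉ P
  s2 : s * s ∈ P
  ns : (n : T) * s⁻¹ ∈ P
  mem : ω ∈ 𝒜
  notY : ω ∉ Y
  three : ω ^ 3 = 1
  inv : P.normalizerMonoidHom n * ω * (P.normalizerMonoidHom n)⁻¹ = ω⁻¹

/-- `[P, ω]` is elementary abelian of order four. -/
structure IsElem {P : Subgroup T} (ω : MulAut P) : Prop where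
  comm : ∀ a ∈ xs ω, ∀ b ∈ xs ω, a * b = b * a
  sq : ∀ a ∈ xs ω, a * a = 1
  frat : zs ω = ⊥
  card : Nat.card (xs ω) = 4

/-- `[P, ω]` is quaternion of order eight. -/
structure IsQuat {P : Subgroup T} (ω : MulAut P) (z : T) : Prop where
  mem : z ∈ xs ω
  ne_one : z ≠ 1
  zz : z * z = 1
  unique : ∀ a ∈ xs ω, a * a = 1 → a = 1 ∨ a = z
  central : ∀ a ∈ xs ω, z * a = a * z
  frat : zs ω ≤ Subgroup.zpowers z
  noncomm : ∃ a ∈ xs ω, ∃ b ∈ xs ω, a * b ≠ b * a
  inverts : ∀ a ∈ xs ω, ∀ b ∈ xs ω, a * b ≠ b * a → a * b * a⁻¹ = b⁻¹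

variable {h : Std x y} {P : Subgroup T} {𝒜 Y : Subgroup (MulAut P)} {s : T} {ω : MulAut P}
  {n : Subgroup.normalizer (P : Set T)}

theorem Sit.exists (E : Ess P 𝒜 Y) (hs : s ∈ Subgroup.normalizer (P : Set T)) (hsP : s ∉ P)
    (hs2 : s * s ∈ P) : ∃ (ω : MulAut P) (n : Subgroup.normalizer (P : Set T)),
    Sit h 𝒜 Y s ω n := by
  obtain ⟨ω, n, h1, h2, h3, h4, h5⟩ := E.exists_omega h hs hsP hs2
  exact ⟨ω, n, E, hs, hsP, hs2, h1, h2, h3, h4, h5⟩

variable (S : Sit h 𝒜 Y s ω n)
include S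

theorem Sit.omega_ne_one : ω ≠ 1 := fun e => S.notY (e ▸ one_mem _)

theorem Sit.notMem : (n : T) ∉ P := fun hn => S.sP (by
  have := mul_mem (inv_mem (mul_mem S.ns (inv_mem (one_mem P)))) hn
  simpa using this)

theorem Sit.xs_le : xs ω ≤ P := Subgroup.map_subtype_le _

theorem Sit.cs_le : cs ω ≤ P := Subgroup.map_subtype_le _

theorem Sit.conj_xs {p : T} (hp : p ∈ P) {v : T} (hv : v ∈ xs ω) : p * v * p⁻¹ ∈ xs ω := by
  obtain ⟨hvP, hv'⟩ := mem_xs.1 hv
  exact mem_xs.2 ⟨_, (comSub_normal ω).conj_mem _ hv' ⟨p, hp⟩⟩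

theorem Sit.nconj_xs {v : T} (hv : v ∈ xs ω) : (n : T) * v * (n : T)⁻¹ ∈ xs ω := by
  obtain ⟨hvP, hv'⟩ := mem_xs.1 hv
  exact mem_xs.2 ⟨_, comSub_map S.inv _ hv'⟩

theorem Sit.nconj_cs {v : T} (hv : v ∈ cs ω) : (n : T) * v * (n : T)⁻¹ ∈ cs ω := by
  obtain ⟨hvP, hv'⟩ := mem_cs.1 hv
  refine mem_cs.2 ⟨_, show ω (P.normalizerMonoidHom n ⟨v, hvP⟩) = P.normalizerMonoidHom n ⟨v, hvP⟩
    from ?_⟩
  have h1 := inverts_apply S.inv (⟨v, hvP⟩ : P)
  rw [hv'] at h1
  conv_lhs => rw [h1, MulAut.apply_inv_self]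

theorem Sit.decomp {p : T} (hp : p ∈ P) : ∃ v ∈ xs ω, ∃ c ∈ cs ω, p = v * c := by
  obtain ⟨c, hc, hm⟩ := exists_fixed_mul (h.p2.to_subgroup P) S.three (⟨p, hp⟩ : P)
  refine ⟨p * (c : T)⁻¹, ?_, c, mem_cs.2 ⟨c.2, hc⟩, (inv_mul_cancel_right p c).symm⟩
  have h1 := (comSub_normal ω).conj_mem _ hm c
  rw [mul_inv_cancel_left] at h1
  exact mem_xs.2 ⟨_, h1⟩

theorem Sit.exists_cyclic :
    ∃ c₀ ∈ cs ω, ∀ p ∈ P, ∃ v ∈ xs ω, ∃ j : ℤ, p = v * c₀ ^ j := by
  classical
  haveI : Fact (Nat.Prime 2) := ⟨Nat.prime_two⟩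
  have hPp := h.p2.to_subgroup P
  haveI := comSub_normal ω
  set L := comSub ω ⊔ frattini P with hL
  have hLinv : ∀ a ∈ L, ω a ∈ L := fun a ha => by
    have hle : L ≤ L.comap ω.toMonoidHom :=
      sup_le (fun b hb => Subgroup.mem_sup_left (comSub_invariant ω b hb))
        fun b hb => Subgroup.mem_sup_right (frattini_invariant ω b hb)
    exact hle ha
  -- `ω` moves `L` modulo the Frattini subgroup
  have hnle : ¬ comSub ω ≤ frattini P := fun hle => S.omega_ne_one
    (FusionMetacyclic.eq_one_of_trivial_frattini hPp (odd_orderOf_of_cube S.three) fun q => by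
      have := (inferInstance : (frattini P).Normal).conj_mem _ (hle (mem_comSub ω q)) q
      rwa [mul_inv_cancel_left] at this)
  have hLidx : L.index ≤ 2 := by
    have h8 := S.ess.index_frattini_le h
    have hmul := Subgroup.relIndex_mul_index (le_sup_right : frattini P ≤ L)
    have hrel : ¬ (frattini P).relIndex L ≤ 2 := by
      intro hr
      -- an invariant two-element quotient is fixed
      obtain ⟨q, hq⟩ : ∃ q, q⁻¹ * ω q ∉ frattini P := by
        by_contra hc
        push Not at hc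
        exact hnle ((Subgroup.closure_le _).2 (by rintro _ ⟨q, rfl⟩; exact hc q))
      obtain ⟨c, hc, hm⟩ := exists_fixed_mul hPp S.three q
      have hd : ω (c⁻¹ * q) * (c⁻¹ * q)⁻¹ ∈ frattini P := by
        have hd1 : c⁻¹ * q ∈ L := Subgroup.mem_sup_left hm
        have hd2 : ω (c⁻¹ * q) ∈ L := hLinv _ hd1
        by_cases hf : c⁻¹ * q ∈ frattini P
        · exact mul_mem (frattini_invariant ω _ hf) (inv_mem hf)
        have hf' : ω (c⁻¹ * q) ∉ frattini P := fun h1 => hf (by
          have := frattini_invariant ω⁻¹ _ h1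
          rwa [MulAut.inv_apply_self] at this)
        rcases Nat.lt_or_ge ((frattini P).relIndex L) 2 with h1 | h1
        · have h0 : (frattini P).relIndex L ≠ 0 := Subgroup.index_ne_zero_of_finite
          exact absurd ((Subgroup.relIndex_eq_one.1 (by omega)) hd1) hf
        · have h2 : ((frattini P).subgroupOf L).index = 2 := by
            show (frattini P).relIndex L = 2
            omega
          exact Subgroup.mem_subgroupOf.1 ((Subgroup.mul_mem_iff_of_index_two h2
            (a := (⟨ω (c⁻¹ * q), hd2⟩ : L)) (b := (⟨c⁻¹ * q, hd1⟩ : L)⁻¹)).2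
              (by
                simp only [Subgroup.mem_subgroupOf, Subgroup.coe_inv, inv_mem_iff]
                exact iff_of_false hf' hf))
      refine hq ?_
      have h1 := (inferInstance : (frattini P).Normal).conj_mem _ hd (c⁻¹ * q)⁻¹
      rw [map_mul, map_inv, hc] at h1
      rwa [show (c⁻¹ * q)⁻¹ * (c⁻¹ * ω q * (c⁻¹ * q)⁻¹) * (c⁻¹ * q)⁻¹⁻¹ = q⁻¹ * ω q by group] at h1
    have h4 : 4 ≤ (frattini P).relIndex L := by
      obtain ⟨k, hk⟩ := (h.p2.to_subgroup P |>.to_subgroup L).index ((frattini P).subgroupOf L)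
      change (frattini P).relIndex L = 2 ^ k at hk
      rw [hk] at hrel ⊢
      rcases k with _ | _ | k
      · simp at hrel
      · simp at hrel
      · calc 4 = 2 ^ 2 := rfl
          _ ≤ 2 ^ (k + 1 + 1) := Nat.pow_le_pow_right two_pos (by omega)
    nlinarith
  by_cases htop : L = ⊤
  · refine ⟨1, one_mem _, fun p hp => ⟨p, ?_, 0, by simp⟩⟩
    have h1 : comSub ω = ⊤ := by
      have := closure_eq_top_of_frattini (T := P) (S := (comSub ω : Set P))
        (by rw [Subgroup.closure_eq]; exact htop)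
      rwa [Subgroup.closure_eq] at this
    exact mem_xs.2 ⟨hp, h1 ▸ Subgroup.mem_top _⟩
  obtain ⟨q, hq⟩ : ∃ q, q ∉ L := by
    by_contra hc
    push Not at hc
    exact htop (eq_top_iff.2 fun q _ => hc q)
  obtain ⟨c, hc, hm⟩ := exists_fixed_mul hPp S.three q
  have hcL : c ∉ L := fun hcL => hq (by
    simpa using mul_mem hcL (Subgroup.mem_sup_left hm : c⁻¹ * q ∈ L))
  have hL2 : L.index = 2 := by
    have h1 : L.index ≠ 1 := fun e => htop (Subgroup.index_eq_one.1 e)
    have h0 : L.index ≠ 0 := Subgroup.index_ne_zero_of_finite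
    omega
  have hgen : comSub ω ⊔ Subgroup.zpowers c = ⊤ := by
    have h1 : (comSub ω ⊔ Subgroup.zpowers c) ⊔ frattini P = ⊤ := by
      refine eq_top_iff.2 fun r _ => ?_
      have hle : L ≤ (comSub ω ⊔ Subgroup.zpowers c) ⊔ frattini P :=
        sup_le (le_sup_left.trans le_sup_left) le_sup_right
      have hc' : c ∈ (comSub ω ⊔ Subgroup.zpowers c) ⊔ frattini P :=
        Subgroup.mem_sup_left (Subgroup.mem_sup_right (Subgroup.mem_zpowers c))
      by_cases hr : r ∈ L
      · exact hle hr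
      · have h2 : c * r ∈ L := (Subgroup.mul_mem_iff_of_index_two hL2).2 (by simp [hcL, hr])
        simpa using mul_mem (inv_mem hc') (hle h2)
    have := closure_eq_top_of_frattini (T := P) (S := ((comSub ω ⊔ Subgroup.zpowers c : Subgroup P) :
      Set P)) (by rw [Subgroup.closure_eq]; exact h1)
    rwa [Subgroup.closure_eq] at this
  refine ⟨c, mem_cs.2 ⟨c.2, hc⟩, fun p hp => ?_⟩
  obtain ⟨v, hv, _, ⟨j, rfl⟩, e⟩ := Subgroup.mem_sup_of_normal_left.1
    (show (⟨p, hp⟩ : P) ∈ comSub ω ⊔ Subgroup.zpowers c by rw [hgen]; exact Subgroup.mem_top _)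
  exact ⟨v, ⟨v, hv, rfl⟩, j, (congrArg Subtype.val e).symm⟩

theorem Sit.xs_facts :
    IsPGroup 2 (comSub ω) ∧ resAut (comSub ω) ω (comSub_invariant ω) ^ 3 = 1 ∧
      resAut (comSub ω) ω (comSub_invariant ω) ≠ 1 ∧
      comSub (resAut (comSub ω) ω (comSub_invariant ω)) = ⊤ ∧
      (frattini (comSub ω)).index = 4 ∧ Cfsg.IsMetacyclic (comSub ω) := by
  haveI : Fact (Nat.Prime 2) := ⟨Nat.prime_two⟩
  have hPp := h.p2.to_subgroup P
  have hp : IsPGroup 2 (comSub ω) := hPp.to_subgroup _
  set r := resAut (comSub ω) ω (comSub_invariant ω) with hr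
  have h3 : r ^ 3 = 1 := resAut_pow_eq_one S.three
  have htop : comSub r = ⊤ := comSub_resAut hPp S.three
  have hne : r ≠ 1 := by
    intro e
    refine S.omega_ne_one (MulEquiv.ext fun q => ?_)
    obtain ⟨c, hc, hm⟩ := exists_fixed_mul hPp S.three q
    have h1 : ω (c⁻¹ * q) = c⁻¹ * q :=
      congrArg (fun f : MulAut (comSub ω) => ((f ⟨c⁻¹ * q, hm⟩ : comSub ω) : P)) e
    rw [map_mul, map_inv, hc, mul_right_inj] at h1
    rw [h1, MulAut.one_apply]
  let f : comSub ω →* T := P.subtype.comp (comSub ω).subtype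
  have hf : Function.Injective f := fun a b hab => Subtype.ext (Subtype.ext hab)
  let H : Subgroup (comSub ω) := (frattini T).comap f
  have hH : Cfsg.IsMetacyclic H :=
    isMetacyclic_of_injective ((f.comp H.subtype).codRestrict (frattini T) fun a => a.2)
      (fun a b hab => Subtype.ext (hf (congrArg Subtype.val hab :))) h.isMetacyclic_frattini
  have h8 : (frattini (comSub ω)).index ≤ 8 :=
    index_frattini_le_eight hp H hH fun a b ha hb =>
      S.ess.mul_mem_frattini h.toPair (a : P).2 (b : P).2 ha hb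
  have hidx := index_frattini_eq_four hp h3 htop hne h8
  have hle : frattini (comSub ω) ≤ H := by
    haveI : H.Normal := (inferInstance : (frattini T).Normal).comap f
    refine Solvable.frattini_le_of_elementary (p := 2) ?_ fun a => ?_
    · rw [commutator_def, Subgroup.commutator_le]
      intro a _ b _
      show f ⁅a, b⁆ ∈ frattini T
      rw [map_commutatorElement]
      exact h.toPair.commutator_le (Subgroup.commutator_mem_commutator (Subgroup.mem_top _)
        (Subgroup.mem_top _))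
    · show f (a ^ 2) ∈ frattini T
      rw [map_pow]
      exact h.toPair.sq_mem_frattini _
  have hZ : (frattini (frattini (comSub ω))).index ≤ 4 :=
    FusionMetacyclic.index_frattini_le (hp.to_subgroup _)
      (isMetacyclic_of_injective (Subgroup.inclusion hle) (Subgroup.inclusion_injective hle) hH)
  exact ⟨hp, h3, hne, htop, hidx, isMetacyclic_of_three hp h3 hne htop hidx hZ⟩

theorem Sit.comm_or_quat : (∀ a ∈ xs ω, ∀ b ∈ xs ω, a * b = b * a) ∨ ∃ z, IsQuat ω z := by
  classical
  obtain ⟨hp, h3, hne, -, -, hm⟩ := S.xs_facts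
  by_cases hc : ∀ a ∈ xs ω, ∀ b ∈ xs ω, a * b = b * a
  · exact Or.inl hc
  refine Or.inr ?_
  push Not at hc
  rcases comm_or_quaternion hp hm h3 hne with hcomm | ⟨z, hz1, hzz, hu, hcz, hle, hinv⟩
  · exfalso
    obtain ⟨a, ha, b, hb, hab⟩ := hc
    obtain ⟨_, ha'⟩ := mem_xs.1 ha
    obtain ⟨_, hb'⟩ := mem_xs.1 hb
    exact hab (congrArg (fun g : comSub ω => ((g : P) : T)) (hcomm ⟨_, ha'⟩ ⟨_, hb'⟩))
  refine ⟨((z : P) : T), mem_xs.2 ⟨_, z.2⟩, fun e => hz1 (Subtype.ext (Subtype.ext e)),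
    congrArg (fun g : comSub ω => ((g : P) : T)) hzz, ?_, ?_, ?_, hc, ?_⟩
  · intro a ha ha2
    obtain ⟨haP, ha'⟩ := mem_xs.1 ha
    exact (hu ⟨_, ha'⟩ (Subtype.ext (Subtype.ext ha2))).imp
      (congrArg fun g : comSub ω => ((g : P) : T)) (congrArg fun g : comSub ω => ((g : P) : T))
  · intro a ha
    obtain ⟨haP, ha'⟩ := mem_xs.1 ha
    exact congrArg (fun g : comSub ω => ((g : P) : T)) (hcz ⟨_, ha'⟩)
  · intro v hv
    obtain ⟨a, ha, rfl⟩ := mem_zs.1 hv
    obtain ⟨k, rfl⟩ := hle ha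
    exact ⟨k, by simp⟩
  · intro a ha b hb hab
    obtain ⟨haP, ha'⟩ := mem_xs.1 ha
    obtain ⟨hbP, hb'⟩ := mem_xs.1 hb
    exact congrArg (fun g : comSub ω => ((g : P) : T)) (hinv ⟨_, ha'⟩ ⟨_, hb'⟩ fun e =>
      hab (congrArg (fun g : comSub ω => ((g : P) : T)) e))

/-- In the abelian case `ω` fixes nothing. -/
theorem Sit.eq_one_of_mem (hc : ∀ a ∈ xs ω, ∀ b ∈ xs ω, a * b = b * a) {v : T} (hv : v ∈ xs ω)
    (hv' : v ∈ cs ω) : v = 1 := by
  obtain ⟨hp, h3, -, htop, -, -⟩ := S.xs_facts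
  obtain ⟨hvP, hvm⟩ := mem_xs.1 hv
  obtain ⟨_, hfix⟩ := mem_cs.1 hv'
  have h1 := fixed_eq_one hp h3 htop (fun a b => Subtype.ext (Subtype.ext
    (hc _ (mem_xs.2 ⟨_, a.2⟩) _ (mem_xs.2 ⟨_, b.2⟩)))) (x := ⟨_, hvm⟩) (Subtype.ext hfix)
  exact congrArg (fun g : comSub ω => ((g : P) : T)) h1

theorem Sit.elem_or_frattini (hc : ∀ a ∈ xs ω, ∀ b ∈ xs ω, a * b = b * a) :
    IsElem ω ∨ ∀ v ∈ xs ω, v * v = 1 → v ∈ frattini T := by
  obtain ⟨hp, h3, hne, -, hidx, -⟩ := S.xs_facts
  rcases elementary_or_mem_frattini hp h3 hne hidx (fun a b => Subtype.ext (Subtype.ext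
    (hc _ (mem_xs.2 ⟨_, a.2⟩) _ (mem_xs.2 ⟨_, b.2⟩)))) with ⟨hsq, hbot, hcard⟩ | hall
  · refine Or.inl ⟨hc, fun a ha => ?_, ?_, ?_⟩
    · obtain ⟨haP, ha'⟩ := mem_xs.1 ha
      exact congrArg (fun g : comSub ω => ((g : P) : T)) (hsq ⟨_, ha'⟩)
    · rw [zs, hbot, Subgroup.map_bot, Subgroup.map_bot]
    · rw [xs, ← Nat.card_congr ((comSub ω).equivMapOfInjective P.subtype P.subtype_injective).toEquiv,
        hcard]
  · refine Or.inr fun v hv hv2 => ?_
    obtain ⟨hvP, hvm⟩ := mem_xs.1 hv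
    have h1 := hall ⟨_, hvm⟩ (Subtype.ext (Subtype.ext hv2))
    haveI : Fact (Nat.Prime 2) := ⟨Nat.prime_two⟩
    let f : comSub ω →* T := P.subtype.comp (comSub ω).subtype
    haveI : ((frattini T).comap f).Normal := (inferInstance : (frattini T).Normal).comap f
    have hle : frattini (comSub ω) ≤ (frattini T).comap f := by
      refine Solvable.frattini_le_of_elementary (p := 2) ?_ fun a => ?_
      · rw [commutator_def, Subgroup.commutator_le]
        intro a _ b _
        show f ⁅a, b⁆ ∈ frattini T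
        rw [map_commutatorElement]
        exact h.toPair.commutator_le (Subgroup.commutator_mem_commutator (Subgroup.mem_top _)
          (Subgroup.mem_top _))
      · show f (a ^ 2) ∈ frattini T
        rw [map_pow]
        exact h.toPair.sq_mem_frattini _
    exact hle h1

theorem Sit.zs_le_frattini : zs ω ≤ frattini T := by
  haveI : Fact (Nat.Prime 2) := ⟨Nat.prime_two⟩
  intro v hv
  obtain ⟨a, ha, rfl⟩ := mem_zs.1 hv
  let f : comSub ω →* T := P.subtype.comp (comSub ω).subtype
  haveI : ((frattini T).comap f).Normal := (inferInstance : (frattini T).Normal).comap f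
  have hle : frattini (comSub ω) ≤ (frattini T).comap f := by
    refine Solvable.frattini_le_of_elementary (p := 2) ?_ fun a => ?_
    · rw [commutator_def, Subgroup.commutator_le]
      intro a _ b _
      show f ⁅a, b⁆ ∈ frattini T
      rw [map_commutatorElement]
      exact h.toPair.commutator_le (Subgroup.commutator_mem_commutator (Subgroup.mem_top _)
        (Subgroup.mem_top _))
    · show f (a ^ 2) ∈ frattini T
      rw [map_pow]
      exact h.toPair.sq_mem_frattini _
  exact hle ha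

/-- When the involutions lie in the Frattini subgroup, they make up `U`. -/
theorem Sit.uSub_le (hA : ¬ IsCyclic ↥(commutator T)) (hc : ∀ a ∈ xs ω, ∀ b ∈ xs ω, a * b = b * a)
    (hI : ∀ v ∈ xs ω, v * v = 1 → v ∈ frattini T) : uSub h.toPair ≤ xs ω := by
  classical
  haveI : Fact (Nat.Prime 2) := ⟨Nat.prime_two⟩
  obtain ⟨hp, h3, hne, htop, -, -⟩ := S.xs_facts
  set r := resAut (comSub ω) ω (comSub_invariant ω) with hr
  obtain ⟨v, hv2, hv1, hmv⟩ := exists_moved_involution hp h3 hne htop (fun a b => Subtype.ext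
    (Subtype.ext (hc _ (mem_xs.2 ⟨_, a.2⟩) _ (mem_xs.2 ⟨_, b.2⟩))))
  let K := uSub h.toPair ⊓ xs ω
  have hmem : ∀ w : comSub ω, w * w = 1 → ((w : P) : T) ∈ K := fun w hw =>
    ⟨h.mem_uSub hA (hI _ (mem_xs.2 ⟨_, w.2⟩) (congrArg (fun g : comSub ω => ((g : P) : T)) hw))
      (by rw [sq]; exact congrArg (fun g : comSub ω => ((g : P) : T)) hw), mem_xs.2 ⟨_, w.2⟩⟩
  let f : Fin 3 → K := ![1, ⟨_, hmem v hv2⟩, ⟨_, hmem (r v) (by rw [← map_mul, hv2, map_one])⟩]
  have hf : Function.Injective f := by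
    have e1 : (1 : K) ≠ ⟨_, hmem v hv2⟩ := fun e =>
      hv1 (Subtype.ext (Subtype.ext (congrArg Subtype.val e).symm))
    have e2 : (1 : K) ≠ ⟨_, hmem (r v) (by rw [← map_mul, hv2, map_one])⟩ := fun e =>
      hv1 (r.map_eq_one_iff.1 (Subtype.ext (Subtype.ext (congrArg Subtype.val e).symm)))
    have e3 : (⟨_, hmem v hv2⟩ : K) ≠ ⟨_, hmem (r v) (by rw [← map_mul, hv2, map_one])⟩ := fun e =>
      hmv (Subtype.ext (Subtype.ext (congrArg Subtype.val e).symm))
    intro i j hij
    fin_cases i <;> fin_cases j <;>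
      first
        | rfl | exact absurd hij e1 | exact absurd hij.symm e1 | exact absurd hij e2
        | exact absurd hij.symm e2 | exact absurd hij e3 | exact absurd hij.symm e3
  have h3' : 3 ≤ Nat.card K := by simpa using Nat.card_le_card_of_injective f hf
  have h4 := h.card_uSub hA
  have hdvd : Nat.card K ∣ 4 := h4 ▸ Subgroup.card_dvd_of_le inf_le_left
  have hK4 : Nat.card K = 4 := by
    have := Nat.le_of_dvd (by norm_num) hdvd
    rcases (show Nat.card K = 3 ∨ Nat.card K = 4 by omega) with h5 | h5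
    · rw [h5] at hdvd
      omega
    · exact h5
  have hKeq : K = uSub h.toPair :=
    Subgroup.eq_of_le_of_card_ge inf_le_left (by rw [hK4, h4])
  exact hKeq ▸ inf_le_right

/-- `n` cannot centralize the involutions of an abelian `[P, ω]`. -/
theorem Sit.false_of_fix_involutions (hc : ∀ a ∈ xs ω, ∀ b ∈ xs ω, a * b = b * a)
    (hfix : ∀ v ∈ xs ω, v * v = 1 → (n : T) * v * (n : T)⁻¹ = v) : False := by
  obtain ⟨hp, h3, hne, htop, -, -⟩ := S.xs_facts
  obtain ⟨v, hv2, -, hmv⟩ := exists_moved_involution hp h3 hne htop (fun a b => Subtype.ext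
    (Subtype.ext (hc _ (mem_xs.2 ⟨_, a.2⟩) _ (mem_xs.2 ⟨_, b.2⟩))))
  set σ := P.normalizerMonoidHom n with hσ
  have hσv : ∀ w : comSub ω, w * w = 1 → σ (w : P) = w := fun w hw => Subtype.ext
    (hfix _ (mem_xs.2 ⟨_, w.2⟩) (congrArg (fun g : comSub ω => ((g : P) : T)) hw))
  refine hmv (eq_self_of_apply_apply (odd_orderOf_of_cube h3) (Subtype.ext ?_))
  rw [coe_resAut, coe_resAut]
  have h1 := inverts_apply S.inv (v : P)
  rw [hσv v hv2, ← coe_resAut (comSub ω) ω (comSub_invariant ω),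
    hσv _ (by rw [← map_mul, hv2, map_one]), coe_resAut] at h1
  rw [h1, MulAut.apply_inv_self]

/-- `n` acts nontrivially on `[P, ω]` modulo its Frattini subgroup. -/
theorem Sit.false_of_trivial_quot (hall : ∀ v ∈ xs ω, ⁅(n : T), v⁆ ∈ zs ω) : False := by
  obtain ⟨hp, h3, hne, htop, hidx, -⟩ := S.xs_facts
  obtain ⟨a, ha⟩ : ∃ a : comSub ω, a ∉ frattini (comSub ω) := by
    by_contra hc
    push Not at hc
    rw [show frattini (comSub ω) = ⊤ from eq_top_iff.2 fun g _ => hc g, Subgroup.index_top] at hidx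
    omega
  refine ha (mem_frattini_of_fixed hp h3 htop ?_)
  set σ := P.normalizerMonoidHom n with hσ
  set r := resAut (comSub ω) ω (comSub_invariant ω) with hr
  set σr := resAut (comSub ω) σ (comSub_map S.inv) with hσr
  have hd : ∀ w : comSub ω, σr w * w⁻¹ ∈ frattini (comSub ω) := fun w => by
    obtain ⟨b, hb, e⟩ := mem_zs.1 (hall _ (mem_xs.2 ⟨_, w.2⟩))
    have : σr w * w⁻¹ = b := Subtype.ext (Subtype.ext e.symm)
    rwa [this]
  let π := QuotientGroup.mk' (frattini (comSub ω))
  have hπ : ∀ w, π (σr w) = π w := fun w => by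
    rw [← mul_inv_eq_one, ← map_inv, ← map_mul]
    exact (QuotientGroup.eq_one_iff _).2 (hd w)
  have h2 : r (σr (r a)) = σr a := Subtype.ext (by
    rw [coe_resAut, coe_resAut, coe_resAut, coe_resAut, inverts_apply S.inv, MulAut.apply_inv_self])
  have hra : π (r (r a)) = π a := by
    rw [← hπ a, ← h2]
    have h1 := frattini_invariant r _ (hd (r a))
    rw [map_mul, map_inv] at h1
    rw [eq_comm, ← mul_inv_eq_one, ← map_inv, ← map_mul]
    exact (QuotientGroup.eq_one_iff _).2 h1
  -- an element fixed by `r ^ 2` is fixed by `r`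
  have e4 : π (r (r (r a))) = π a := by rw [apply_three h3]
  have e5 : π (r (r (r a))) = π (r a) := by
    have h1 : r (r a) * a⁻¹ ∈ frattini (comSub ω) := by
      rw [← QuotientGroup.eq_one_iff, ← QuotientGroup.mk'_apply, map_mul, map_inv]
      exact mul_inv_eq_one.2 hra
    have h1' := frattini_invariant r _ h1
    rw [map_mul, map_inv] at h1'
    rw [← mul_inv_eq_one, ← map_inv, ← map_mul]
    exact (QuotientGroup.eq_one_iff _).2 h1'
  exact QuotientGroup.eq.1 (e4.symm.trans e5)

omit S in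
theorem comm_of_commute_apply {G : Type*} [Group G] {ω γ : MulAut G}
    (h : ∀ g, γ (ω g) = ω (γ g)) : γ * ω = ω * γ :=
  MulEquiv.ext fun g => by rw [MulAut.mul_apply, MulAut.mul_apply, h]

/-- `C_P(ω)` centralizes the involutions of an abelian `[P, ω]`. -/
theorem Sit.cs_comm_involution (hc : ∀ a ∈ xs ω, ∀ b ∈ xs ω, a * b = b * a) {c v : T}
    (hcm : c ∈ cs ω) (hv : v ∈ xs ω) (hv2 : v * v = 1) : c * v = v * c := by
  classical
  haveI : Fact (Nat.Prime 2) := ⟨Nat.prime_two⟩
  obtain ⟨hp, h3, -, htop, -, -⟩ := S.xs_facts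
  obtain ⟨hcP, hcfix⟩ := mem_cs.1 hcm
  obtain ⟨hvP, hvm⟩ := mem_xs.1 hv
  set r := resAut (comSub ω) ω (comSub_invariant ω) with hr
  have hcomm : ∀ a b : comSub ω, a * b = b * a := fun a b => Subtype.ext (Subtype.ext
    (hc _ (mem_xs.2 ⟨_, a.2⟩) _ (mem_xs.2 ⟨_, b.2⟩)))
  let V : Subgroup (comSub ω) :=
    { carrier := {a | a * a = 1}
      one_mem' := mul_one 1
      mul_mem' := fun {a b} (ha : a * a = 1) (hb : b * b = 1) => by
        show a * b * (a * b) = 1
        rw [(show Commute b a from hcomm b a).mul_mul_mul_comm, ha, hb, one_mul]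
      inv_mem' := fun {a} (ha : a * a = 1) => by
        show a⁻¹ * a⁻¹ = 1
        rw [← mul_inv_rev, ha, inv_one] }
  have hVr : ∀ a ∈ V, r a ∈ V := fun a (ha : a * a = 1) => by
    show r a * r a = 1
    rw [← map_mul, ha, map_one]
  let γ : MulAut (comSub ω) := resAut (comSub ω) (MulAut.conj (⟨c, hcP⟩ : P))
    fun a ha => (comSub_normal ω).conj_mem a ha _
  have hVγ : ∀ a ∈ V, γ a ∈ V := fun a (ha : a * a = 1) => by
    show γ a * γ a = 1
    rw [← map_mul, ha, map_one]
  have hVp : IsPGroup 2 V := hp.to_subgroup V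
  obtain ⟨k, hk⟩ := h.p2.to_subgroup P ⟨c, hcP⟩
  have hγk : resAut V γ hVγ ^ 2 ^ k = 1 :=
    resAut_pow_eq_one (resAut_pow_eq_one (by rw [← map_pow, hk, map_one]))
  have hbot : frattini V = ⊥ := eq_bot_iff.2 (Solvable.frattini_le_of_elementary (p := 2) (by
    rw [commutator_def, Subgroup.commutator_le]
    intro a _ b _
    rw [Subgroup.mem_bot, commutatorElement_eq_one_iff_mul_comm]
    exact Subtype.ext (hcomm a b)) fun a => Subgroup.mem_bot.2 (Subtype.ext (by
      rw [SubgroupClass.coe_pow, sq]; exact a.2)))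
  have hfpf : ∀ a : V, resAut V r hVr a = a → a = 1 := fun a ha =>
    Subtype.ext (fixed_eq_one hp h3 htop hcomm (congrArg Subtype.val ha))
  have h3V : resAut V r hVr ^ 3 = 1 := resAut_pow_eq_one h3
  by_cases hV1 : ∀ a : V, a = 1
  · have h1 := congrArg (fun a : V => (((a : comSub ω) : P) : T)) (hV1 ⟨⟨_, hvm⟩, Subtype.ext
      (Subtype.ext hv2)⟩)
    change v = 1 at h1
    rw [h1, mul_one, one_mul]
  have hne : resAut V r hVr ≠ 1 := fun e => hV1 fun a => hfpf a (by rw [e, MulAut.one_apply])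
  have htopV : comSub (resAut V r hVr) = ⊤ := by
    refine eq_top_iff.2 fun a _ => ?_
    have hinj : Function.Injective fun b : V => b⁻¹ * resAut V r hVr b := by
      intro b b' hbb
      change b⁻¹ * resAut V r hVr b = b'⁻¹ * resAut V r hVr b' at hbb
      have h1 : resAut V r hVr (b' * b⁻¹) = b' * b⁻¹ := by
        have hcV : ∀ p q : V, p * q = q * p := fun p q => Subtype.ext (hcomm p q)
        calc resAut V r hVr (b' * b⁻¹) = resAut V r hVr b' * (resAut V r hVr b)⁻¹ := by
              rw [map_mul, map_inv]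
          _ = b' * (b'⁻¹ * resAut V r hVr b') * (b⁻¹ * resAut V r hVr b)⁻¹ * b⁻¹ := by
              rw [mul_inv_rev, inv_inv]; group
          _ = b' * b⁻¹ := by rw [hbb]; group
      exact (mul_inv_eq_one.1 (hfpf _ h1)).symm
    obtain ⟨b, hb⟩ := Finite.surjective_of_injective hinj a
    exact hb ▸ mem_comSub _ b
  have hidx : (frattini V).index = 4 :=
    index_frattini_eq_four hVp h3V htopV hne (by
      have hE : Nat.card V ≤ 8 := by
        let fT : comSub ω →* T := P.subtype.comp (comSub ω).subtype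
        have hfT : Function.Injective fT := fun a b hab => Subtype.ext (Subtype.ext hab)
        let H : Subgroup V := (frattini T).comap (fT.comp V.subtype)
        have hH : Cfsg.IsMetacyclic H :=
          isMetacyclic_of_injective (((fT.comp V.subtype).comp H.subtype).codRestrict (frattini T)
            fun a => a.2)
            (fun a b hab => Subtype.ext (Subtype.ext (hfT (congrArg Subtype.val hab :))))
            h.isMetacyclic_frattini
        have := index_frattini_le_eight hVp H hH fun a b ha hb =>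
          S.ess.mul_mem_frattini h.toPair ((a : comSub ω) : P).2 ((b : comSub ω) : P).2 ha hb
        rwa [hbot, Subgroup.index_bot] at this
      rwa [hbot, Subgroup.index_bot])
  have hcomγ : resAut V γ hVγ * resAut V r hVr = resAut V r hVr * resAut V γ hVγ := by
    refine comm_of_commute_apply fun a => Subtype.ext (Subtype.ext ?_)
    show (⟨c, hcP⟩ : P) * ω ((a : comSub ω) : P) * (⟨c, hcP⟩ : P)⁻¹ =
      ω ((⟨c, hcP⟩ : P) * ((a : comSub ω) : P) * (⟨c, hcP⟩ : P)⁻¹)
    rw [map_mul, map_mul, map_inv, hcfix]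
  have hall := eq_one_of_commute hVp h3V hne htopV hidx
    (fun z hz g => by rw [hbot, Subgroup.mem_bot] at hz; rw [hz, one_mul, mul_one])
    (fun z hz => by rw [hbot, Subgroup.mem_bot] at hz; rw [hz, map_one]) hcomγ hγk
    ⟨⟨_, hvm⟩, Subtype.ext (Subtype.ext hv2)⟩
  have h1 : c * v * c⁻¹ = v := congrArg (fun a : V => (((a : comSub ω) : P) : T)) hall
  exact mul_inv_eq_iff_eq_mul.1 h1

/-- `C_P(ω)` centralizes a quaternion `[P, ω]`. -/
theorem Sit.cs_comm_quat {z : T} (hQ : IsQuat ω z) {c v : T} (hcm : c ∈ cs ω) (hv : v ∈ xs ω) :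
    c * v = v * c := by
  classical
  obtain ⟨hp, h3, hne, htop, hidx, -⟩ := S.xs_facts
  obtain ⟨hcP, hcfix⟩ := mem_cs.1 hcm
  obtain ⟨hvP, hvm⟩ := mem_xs.1 hv
  set r := resAut (comSub ω) ω (comSub_invariant ω) with hr
  let γ : MulAut (comSub ω) := resAut (comSub ω) (MulAut.conj (⟨c, hcP⟩ : P))
    fun a ha => (comSub_normal ω).conj_mem a ha _
  obtain ⟨k, hk⟩ := h.p2.to_subgroup P ⟨c, hcP⟩
  have hγk : γ ^ 2 ^ k = 1 := resAut_pow_eq_one (by rw [← map_pow, hk, map_one])
  have hzin : ∀ a ∈ frattini (comSub ω), ((a : P) : T) = 1 ∨ ((a : P) : T) = z := by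
    intro a ha
    refine hQ.unique _ (mem_xs.2 ⟨_, a.2⟩) ?_
    obtain ⟨j, hj⟩ := hQ.frat (mem_zs.2 ⟨a, ha, rfl⟩)
    change z ^ j = _ at hj
    rw [← hj, ← zpow_add, ← two_mul, zpow_mul, zpow_ofNat, sq, hQ.zz, one_zpow]
  have hcomγ : γ * r = r * γ := by
    refine comm_of_commute_apply fun a => Subtype.ext ?_
    show (⟨c, hcP⟩ : P) * ω (a : P) * (⟨c, hcP⟩ : P)⁻¹ =
      ω ((⟨c, hcP⟩ : P) * (a : P) * (⟨c, hcP⟩ : P)⁻¹)
    rw [map_mul, map_mul, map_inv, hcfix]
  have hall := eq_one_of_commute hp h3 hne htop hidx (fun a ha g => by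
      refine Subtype.ext (Subtype.ext ?_)
      rcases hzin a ha with e | e <;>
        simp only [Subgroup.coe_mul, e, one_mul, mul_one, hQ.central _ (mem_xs.2 ⟨_, g.2⟩)])
    (fun a ha => by
      rcases hzin a ha with e | e
      · rw [show a = 1 from Subtype.ext (Subtype.ext e), map_one]
      · have h1 : ∀ b : comSub ω, b * b = 1 → b = 1 ∨ b = a := fun b hb => by
          rcases hQ.unique _ (mem_xs.2 ⟨_, b.2⟩)
            (congrArg (fun g : comSub ω => ((g : P) : T)) hb) with e' | e'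
          · exact Or.inl (Subtype.ext (Subtype.ext e'))
          · exact Or.inr (Subtype.ext (Subtype.ext (e'.trans e.symm)))
        have haa : a * a = 1 := Subtype.ext (Subtype.ext (by
          show ((a : P) : T) * ((a : P) : T) = 1
          rw [e]; exact hQ.zz))
        rcases h1 (r a) (by rw [← map_mul, haa, map_one]) with e' | e'
        · exact absurd (r.map_eq_one_iff.1 e') fun h2 =>
            hQ.ne_one (by rw [← e, h2]; rfl)
        · exact e')
    hcomγ hγk ⟨_, hvm⟩
  have h1 : c * v * c⁻¹ = v := congrArg (fun a : comSub ω => ((a : P) : T)) hall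
  exact mul_inv_eq_iff_eq_mul.1 h1

end CfsgLib.Bicyclic
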