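import Cfsg.Agent.Bicyclic.Outer
import Cfsg.Agent.Bicyclic.Eight

/-!
# An element of `Φ(T)` normalizing an essential subgroup with small `[P, ω]`

The derived group is then a four-group, and the final configurations are impossible.
-/

set_option autoImplicit false
set_option linter.style.haveILetI false
set_option linter.unusedSectionVars false

namespace CfsgLib.Bicyclic

open scoped commutatorElement

variable {T : Type*} [Group T] [Finite T] {x y : T}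

theorem mem_normalizer_of_conj_le {P : Subgroup T} {g : T} (h : ∀ p ∈ P, g * p * g⁻¹ ∈ P) :
    g ∈ Subgroup.normalizer (P : Set T) := by
  refine Subgroup.mem_normalizer_iff.2 fun v => ⟨fun hv => h v hv, fun hv => ?_⟩
  obtain ⟨w, hw⟩ := Finite.surjective_of_injective
    (f := fun v : P => (⟨g * v * g⁻¹, h v v.2⟩ : P))
    (fun a b e => Subtype.ext (by simpa using congrArg Subtype.val e)) ⟨_, hv⟩
  have h1 : (w : T) = v := by simpa using congrArg Subtype.val hw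
  exact h1 ▸ w.2

/-- The standing hypotheses. -/
structure Small (h : Std x y) {P : Subgroup T} (𝒜 Y : Subgroup (MulAut P)) (s : T) (ω : MulAut P)
    (n : Subgroup.normalizer (P : Set T)) (τ z : T) : Prop where
  sit : Sit h 𝒜 Y s ω n
  nc : ¬ IsCyclic ↥(commutator T)
  shape : IsElem ω ∨ ∃ z', IsQuat ω z'
  uP : uSub h.toPair ≤ P
  sΦ : s ∈ frattini T
  τX : τ ∈ xs ω
  τΦ : τ ∉ frattini T
  zX : z ∈ xs ω
  z1 : z ≠ 1
  zU : z ∈ uSub h.toPair
  unique : ∀ v ∈ xs ω, v ∈ frattini T → v * v = 1 → v = 1 ∨ v = z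
  zsz : ∀ v ∈ zs ω, v = 1 ∨ v = z
  zc : ∀ a ∈ xs ω, z * a = a * z
  τω : IsElem ω → ∀ hz : z ∈ P, τ = (ω ⟨z, hz⟩ : T)

variable {h : Std x y} {P : Subgroup T} {𝒜 Y : Subgroup (MulAut P)} {s : T} {ω : MulAut P}
  {n : Subgroup.normalizer (P : Set T)} {τ z : T} (M : Small h 𝒜 Y s ω n τ z)
include M

theorem Small.zP : z ∈ P := M.sit.xs_le M.zX

theorem Small.zΦ : z ∈ frattini T := h.toPair.commutator_le M.zU.1

theorem Small.zz : z * z = 1 := by rw [← sq]; exact M.zU.2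

theorem Small.z_comm_frattini {g : T} (hg : g ∈ frattini T) : g * z = z * g :=
  (h.uSub_central M.nc z M.zU g hg).symm

theorem Small.fix_frattini {g v : T} (hg : g ∈ frattini T) (hv : v ∈ zs ω) : g * v * g⁻¹ = v := by
  rcases M.zsz v hv with rfl | rfl
  · group
  · exact mul_inv_eq_iff_eq_mul.2 (M.z_comm_frattini hg)

theorem Small.fix_P {p v : T} (hp : p ∈ P) (hv : v ∈ zs ω) : p * v * p⁻¹ = v := by
  rcases M.zsz v hv with rfl | rfl
  · group
  · exact mul_inv_eq_iff_eq_mul.2 (M.sit.commute_of_central M.shape M.zX M.zc hp).eq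

theorem Small.τP : τ ∈ P := M.sit.xs_le M.τX

theorem Small.sq_τ : τ * τ = 1 ∨ τ * τ = z := M.zsz _ (M.sit.sq_mem_zs M.τX)

theorem Small.split {p : T} (hp : p ∈ P) : p ∈ frattini T ∨ τ⁻¹ * p ∈ frattini T := by
  by_cases hpΦ : p ∈ frattini T
  · exact Or.inl hpΦ
  · exact Or.inr (M.sit.ess.mul_mem_frattini h.toPair (inv_mem M.τP) hp
      (fun h' => M.τΦ (inv_mem_iff.1 h')) hpΦ)

theorem Small.mem_normalizer {g : T} (hK : ∀ k ∈ P, k ∈ frattini T → g * k * g⁻¹ ∈ P)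
    (hτ : g * τ * g⁻¹ ∈ P) : g ∈ Subgroup.normalizer (P : Set T) := by
  refine mem_normalizer_of_conj_le fun p hp => ?_
  rcases M.split hp with hp' | hp'
  · exact hK p hp hp'
  · rw [show g * p * g⁻¹ = g * τ * g⁻¹ * (g * (τ⁻¹ * p) * g⁻¹) by group]
    exact mul_mem hτ (hK _ (mul_mem (inv_mem M.τP) hp) hp')

theorem Small.conj_notMem {g : Subgroup.normalizer (P : Set T)} (hg : (g : T) ∉ P) :
    P.normalizerMonoidHom g ∉ (MulAut.conj : P →* MulAut P).range :=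
  M.sit.ess.conj_notMem g hg

theorem Small.pow_two (g : Subgroup.normalizer (P : Set T)) :
    ∃ k, P.normalizerMonoidHom g ^ 2 ^ k = 1 := by
  obtain ⟨k, hk⟩ := h.p2.to_subgroup _ g
  exact ⟨k, by rw [← map_pow, hk, map_one]⟩

/-- In the elementary case `P = [P, ω] × C_P(ω)`. -/
theorem Small.elem_facts (hE : IsElem ω) :
    (∀ p ∈ P, ∀ q ∈ P, p * q = q * p) ∧ ∃ c₀ ∈ cs ω, c₀ ≠ 1 ∧
      ∀ p ∈ P, ∃ v ∈ xs ω, ∃ j : ℤ, p = v * c₀ ^ j := by
  obtain ⟨c₀, hc₀, hdec⟩ := M.sit.exists_cyclic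
  refine ⟨?_, c₀, hc₀, fun e => ?_, hdec⟩
  · intro p hp q hq
    obtain ⟨v, hv, i, rfl⟩ := hdec p hp
    obtain ⟨w, hw, j, rfl⟩ := hdec q hq
    have h1 : Commute (c₀ ^ i) w := M.sit.cs_comm M.shape (zpow_mem hc₀ i) hw
    have h2 : Commute (c₀ ^ j) v := M.sit.cs_comm M.shape (zpow_mem hc₀ j) hv
    have h3 : Commute v w := hE.comm v hv w hw
    exact ((h3.mul_right h2.symm).mul_left (h1.mul_right ((Commute.refl c₀).zpow_zpow i j))).eq
  · have hPX : ∀ p ∈ P, p ∈ xs ω := fun p hp => by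
      obtain ⟨v, hv, i, rfl⟩ := hdec p hp
      rwa [e, one_zpow, mul_one]
    have hUX : uSub h.toPair = xs ω := Subgroup.eq_of_le_of_card_ge (fun u hu => hPX u (M.uP hu))
      (by rw [hE.card, h.card_uSub M.nc])
    exact M.τΦ (h.toPair.commutator_le (hUX ▸ M.τX : τ ∈ uSub h.toPair).1)

/-- `N(P) / P` has order two when `[P, ω]` is quaternion. -/
theorem Small.mul_mem_quat {z' : T} (hQ : IsQuat ω z') (g m : Subgroup.normalizer (P : Set T))
    (hg : (g : T) ∉ P) (hm : (m : T) ∉ P) : (g : T) * m ∈ P := by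
  classical
  haveI : Fact (Nat.Prime 2) := ⟨Nat.prime_two⟩
  have S := M.sit
  obtain ⟨hp, -, -, -, hidx, -⟩ := S.xs_facts
  obtain ⟨c₀, hc₀, hdec⟩ := S.exists_cyclic
  have hX : IsElem ω ∨ ∃ z', IsQuat ω z' := Or.inr ⟨z', hQ⟩
  have hzin : ∀ v, v = 1 ∨ v = z' → v ∈ zs ω := by
    rintro v (rfl | rfl)
    · exact one_mem _
    · exact S.quat_mem_zs hQ
  have hcenX : ∀ v ∈ xs ω, (∀ a ∈ xs ω, v * a = a * v) → v ∈ zs ω := by
    intro v hv hvc
    obtain ⟨a, ha, b, hb, hab⟩ := hQ.noncomm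
    have hba : a * b * a⁻¹ = b⁻¹ := hQ.inverts a ha b hb hab
    have e1 : a * (v * b) * a⁻¹ = v * b⁻¹ := by
      rw [← hba, show a * (v * b) * a⁻¹ = a * v * b * a⁻¹ by group, ← hvc a ha]
      simp only [mul_assoc]
    by_cases hcm : a * (v * b) = v * b * a
    · rw [hcm, mul_inv_cancel_right, mul_right_inj] at e1
      exfalso
      refine hab ?_
      rcases hQ.unique b hb (eq_inv_iff_mul_eq_one.1 e1) with rfl | rfl
      · rw [one_mul, mul_one]
      · exact (hQ.central a ha).symm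
    · have e2 := hQ.inverts a ha _ (mul_mem hv hb) hcm
      rw [e1, mul_inv_rev, ← (show Commute v⁻¹ b⁻¹ from
        ((show Commute v b from hvc b hb).inv_left).inv_right).eq, mul_left_inj,
        eq_inv_iff_mul_eq_one] at e2
      exact hzin v (hQ.unique v hv e2)
  have hcentral : ∀ v ∈ zs ω, ∀ q : P, (q : T) * v = v * q := fun v hv q =>
    mul_inv_eq_iff_eq_mul.1 (M.fix_P q.2 hv)
  set Z := Subgroup.center P with hZ
  have hc₀P := S.cs_le hc₀
  have hc₀Z : (⟨c₀, hc₀P⟩ : P) ∈ Z := Subgroup.mem_center_iff.2 fun q => Subtype.ext (by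
    obtain ⟨v, hv, j, hq⟩ := hdec q q.2
    show (q : T) * c₀ = c₀ * q
    rw [hq]
    exact ((show Commute v c₀ from (S.cs_comm hX hc₀ hv).symm).mul_left
      ((Commute.refl c₀).zpow_left j)).eq)
  have hsplitZ : ∀ q ∈ Z, ∃ v ∈ zs ω, ∃ j : ℤ, (q : T) = v * c₀ ^ j := by
    intro q hq
    obtain ⟨v, hv, j, e⟩ := hdec q q.2
    refine ⟨v, hcenX v hv fun a ha => ?_, j, e⟩
    have h1 := congrArg Subtype.val (Subgroup.mem_center_iff.1 hq ⟨a, S.xs_le ha⟩)
    change a * (q : T) = q * a at h1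
    have hca : Commute (c₀ ^ j) a := S.cs_comm hX (zpow_mem hc₀ j) ha
    rw [e, mul_assoc v, hca.eq, ← mul_assoc, ← mul_assoc] at h1
    exact (mul_right_cancel h1).symm
  have hΦle : frattini P ≤ Z := by
    refine Solvable.frattini_le_of_elementary (p := 2) ?_ fun q => ?_
    · rw [commutator_def, Subgroup.commutator_le]
      intro a _ b _
      refine Subgroup.mem_center_iff.2 fun r => Subtype.ext ?_
      show (r : T) * ⁅(a : T), (b : T)⁆ = ⁅(a : T), (b : T)⁆ * r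
      refine hcentral _ ?_ r
      obtain ⟨v, hv, i, ea⟩ := hdec a a.2
      obtain ⟨w, hw, j, eb⟩ := hdec b b.2
      have h1 : Commute (c₀ ^ i) w := S.cs_comm hX (zpow_mem hc₀ i) hw
      have h2 : Commute (c₀ ^ j) v := S.cs_comm hX (zpow_mem hc₀ j) hv
      have h3 := (Commute.refl c₀).zpow_zpow i j
      rw [ea, eb, show ⁅v * c₀ ^ i, w * c₀ ^ j⁆ =
        v * (c₀ ^ i * (w * c₀ ^ j) * (c₀ ^ i)⁻¹) * v⁻¹ * (w * c₀ ^ j)⁻¹ by
          rw [commutatorElement_def]; group, (h1.mul_right h3).eq, mul_inv_cancel_right,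
        show v * (w * c₀ ^ j) * v⁻¹ * (w * c₀ ^ j)⁻¹ =
          v * w * (c₀ ^ j * v⁻¹ * (c₀ ^ j)⁻¹) * w⁻¹ by group, h2.inv_right.eq, mul_inv_cancel_right,
        ← commutatorElement_def]
      exact S.commutator_mem_zs hv hw
    · refine Subgroup.mem_center_iff.2 fun r => Subtype.ext ?_
      obtain ⟨v, hv, j, e⟩ := hdec q q.2
      have h2 : Commute (c₀ ^ j) v := S.cs_comm hX (zpow_mem hc₀ j) hv
      show (r : T) * (q : T) ^ 2 = (q : T) ^ 2 * r
      rw [e, h2.symm.mul_pow, sq v]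
      have h3 := congrArg Subtype.val
        (Subgroup.mem_center_iff.1 (pow_mem (zpow_mem hc₀Z j) 2) r)
      change (r : T) * (c₀ ^ j) ^ 2 = (c₀ ^ j) ^ 2 * r at h3
      exact ((show Commute (r : T) (v * v) from hcentral _ (S.sq_mem_zs hv) r).mul_right h3).eq
  refine S.ess.mul_mem_of_char h Z (fun α r hr => Subgroup.mem_center_iff.2 fun q => ?_) hΦle
    (Or.inl ⟨?_, ?_⟩) g m hg hm
  · rw [← α.apply_symm_apply q, ← map_mul, ← map_mul, Subgroup.mem_center_iff.1 hr]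
  · let f : comSub ω →* P ⧸ Z := (QuotientGroup.mk' Z).comp (comSub ω).subtype
    have hf : Function.Surjective f := by
      intro q
      obtain ⟨q, rfl⟩ := QuotientGroup.mk_surjective q
      obtain ⟨v, hv, j, e⟩ := hdec q q.2
      obtain ⟨hvP, hv'⟩ := mem_xs.1 hv
      refine ⟨⟨_, hv'⟩, ?_⟩
      show ((⟨v, hvP⟩ : P) : P ⧸ Z) = q
      rw [show q = ⟨v, hvP⟩ * (⟨c₀, hc₀P⟩ : P) ^ j from Subtype.ext e, QuotientGroup.mk_mul,
        (QuotientGroup.eq_one_iff _).2 (zpow_mem hc₀Z j), mul_one]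
    have hker : f.ker = frattini (comSub ω) := by
      ext a
      rw [MonoidHom.mem_ker]
      show ((a : P) : P ⧸ Z) = 1 ↔ a ∈ frattini (comSub ω)
      rw [QuotientGroup.eq_one_iff]
      constructor
      · intro ha
        obtain ⟨b, hb, e⟩ := mem_zs.1 (hcenX _ (mem_xs.2 ⟨_, a.2⟩) fun r hr =>
          (congrArg Subtype.val (Subgroup.mem_center_iff.1 ha ⟨r, S.xs_le hr⟩)).symm)
        rwa [show a = b from Subtype.ext (Subtype.ext e.symm)]
      · exact fun ha => Subgroup.mem_center_iff.2 fun r =>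
          Subtype.ext (hcentral _ (mem_zs.2 ⟨a, ha, rfl⟩) r)
    rw [Subgroup.index_eq_card, ← hidx, ← hker, Subgroup.index_ker,
      MonoidHom.range_eq_top.2 hf, Subgroup.card_top]
  · have hzP : ∀ v (hv : v ∈ zs ω), (⟨v, S.xs_le (zs_le_xs ω hv)⟩ : P) ∈ frattini P := by
      intro v hv
      obtain ⟨a, ha, b, hb, hab⟩ := hQ.noncomm
      rcases M.zsz v hv with e | e
      · rw [show (⟨v, _⟩ : P) = 1 from Subtype.ext e]; exact one_mem _
      · have h1 : ⁅a, b⁆ = v := by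
          rcases M.zsz _ (S.commutator_mem_zs ha hb) with e' | e'
          · exact absurd (commutatorElement_eq_one_iff_mul_comm.1 e') hab
          · rw [e', e]
        rw [show (⟨v, _⟩ : P) = ⁅(⟨a, S.xs_le ha⟩ : P), ⟨b, S.xs_le hb⟩⁆ from Subtype.ext h1.symm]
        exact Solvable.commutator_le_frattini (h.p2.to_subgroup P)
          (Subgroup.commutator_mem_commutator (Subgroup.mem_top _) (Subgroup.mem_top _))
    show ((frattini P).subgroupOf Z).index ≤ 2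
    rw [Subgroup.index_eq_card]
    refine (Nat.card_le_card_of_surjective
      (fun i : Fin 2 => (((⟨_, hc₀Z⟩ : Z) ^ (i : ℕ) : Z) : Z ⧸ (frattini P).subgroupOf Z)) ?_).trans
      (by simp)
    intro q
    obtain ⟨⟨q, hq⟩, rfl⟩ := QuotientGroup.mk_surjective q
    obtain ⟨v, hv, j, e⟩ := hsplitZ q hq
    obtain ⟨i, rfl | rfl⟩ := Int.even_or_odd' j
    · refine ⟨0, QuotientGroup.eq.2 (Subgroup.mem_subgroupOf.2 ?_)⟩
      simp only [Fin.val_zero, pow_zero, inv_one, one_mul]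
      rw [show q = ⟨v, S.xs_le (zs_le_xs ω hv)⟩ * ((⟨c₀, hc₀P⟩ : P) ^ 2) ^ i from Subtype.ext (by
        rw [e, zpow_mul, zpow_ofNat]; rfl)]
      exact mul_mem (hzP v hv) (zpow_mem (Solvable.pow_mem_frattini (h.p2.to_subgroup P) _) i)
    · refine ⟨1, QuotientGroup.eq.2 (Subgroup.mem_subgroupOf.2 ?_)⟩
      simp only [Fin.val_one, pow_one]
      show (⟨c₀, hc₀P⟩ : P)⁻¹ * q ∈ frattini P
      rw [show (⟨c₀, hc₀P⟩ : P)⁻¹ * q = ⟨v, S.xs_le (zs_le_xs ω hv)⟩ * ((⟨c₀, hc₀P⟩ : P) ^ 2) ^ i from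
        Subtype.ext (by
          show c₀⁻¹ * (q : T) = v * (c₀ ^ 2) ^ i
          have h1 : Commute v c₀ := hcentral v hv ⟨c₀, hc₀P⟩ |>.symm
          rw [e, ← mul_assoc, ← h1.inv_right.eq, mul_assoc, zpow_add_one, zpow_mul, zpow_ofNat,
            ((Commute.refl c₀).pow_left 2).zpow_left i |>.eq, inv_mul_cancel_left])]
      exact mul_mem (hzP v hv) (zpow_mem (Solvable.pow_mem_frattini (h.p2.to_subgroup P) _) i)

/-- `N(P) / P` has order two when `[P, ω]` is elementary and `P` is not. -/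
theorem Small.mul_mem_elem (hE : IsElem ω) (hP : ∃ p ∈ P, p * p ≠ 1)
    (g m : Subgroup.normalizer (P : Set T)) (hg : (g : T) ∉ P) (hm : (m : T) ∉ P) :
    (g : T) * m ∈ P := by
  classical
  haveI : Fact (Nat.Prime 2) := ⟨Nat.prime_two⟩
  have S := M.sit
  obtain ⟨hcomm, c₀, hc₀, hc1, hdec⟩ := M.elem_facts hE
  have hc₀P := S.cs_le hc₀
  have hsqv : ∀ v ∈ xs ω, ∀ j : ℤ, (v * c₀ ^ j) * (v * c₀ ^ j) = c₀ ^ (2 * j) := fun v hv j => by
    have h1 : Commute (c₀ ^ j) v := hcomm _ (zpow_mem hc₀P j) _ (S.xs_le hv)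
    rw [h1.mul_mul_mul_comm, hE.sq v hv, one_mul, ← zpow_add, two_mul]
  obtain ⟨k, hk⟩ : ∃ k, orderOf c₀ = 2 ^ (k + 2) := by
    obtain ⟨k, hk⟩ := IsPGroup.iff_orderOf.1 h.p2 c₀
    rcases k with _ | _ | k
    · exact absurd (orderOf_eq_one_iff.1 (by rw [hk, pow_zero])) hc1
    · obtain ⟨p, hp, hp2⟩ := hP
      obtain ⟨v, hv, j, rfl⟩ := hdec p hp
      refine absurd ?_ hp2
      rw [hsqv v hv j, zpow_mul, zpow_ofNat, show c₀ ^ 2 = 1 by
        have := pow_orderOf_eq_one c₀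
        rwa [hk, zero_add, pow_one] at this, one_zpow]
    · exact ⟨k, hk⟩
  set e := 2 ^ (k + 1) with he
  let N : Subgroup P :=
    { carrier := {p | p ^ e = 1}
      one_mem' := one_pow e
      mul_mem' := fun {a b} (ha : a ^ e = 1) (hb : b ^ e = 1) => by
        show (a * b) ^ e = 1
        rw [(show Commute a b from Subtype.ext (hcomm a a.2 b b.2)).mul_pow, ha, hb, one_mul]
      inv_mem' := fun {a} (ha : a ^ e = 1) => by
        show a⁻¹ ^ e = 1
        rw [inv_pow, ha, inv_one] }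
  have hpow : ∀ v ∈ xs ω, ∀ j : ℤ, (v * c₀ ^ j) ^ e = 1 ↔ Even j := by
    intro v hv j
    rw [show e = 2 * 2 ^ k by rw [he, pow_succ'], pow_mul, sq, hsqv v hv j, ← zpow_natCast,
      ← zpow_mul, ← orderOf_dvd_iff_zpow_eq_one, hk]
    push_cast
    rw [show 2 * j * 2 ^ k = 2 ^ (k + 1) * j by ring, show (2 : ℤ) ^ (k + 2) = 2 ^ (k + 1) * 2 by ring,
      mul_dvd_mul_iff_left (by positivity), even_iff_two_dvd]
  have hN : ∀ p : P, ∀ v ∈ xs ω, ∀ j : ℤ, (p : T) = v * c₀ ^ j → (p ∈ N ↔ Even j) := fun p v hv j e' => by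
    rw [← hpow v hv j, ← e']
    exact ⟨fun h' => congrArg Subtype.val h', fun h' => Subtype.ext h'⟩
  have hΦe : ∀ p ∈ frattini P, ∃ j : ℤ, (p : T) = c₀ ^ (2 * j) := by
    let K : Subgroup P := (Subgroup.zpowers (c₀ ^ 2)).subgroupOf P
    haveI : K.Normal := ⟨fun a ha b => by
      rw [show b * a * b⁻¹ = a from Subtype.ext (mul_inv_eq_iff_eq_mul.2 (hcomm b b.2 a a.2))]
      exact ha⟩
    have hle : frattini P ≤ K := by
      refine Solvable.frattini_le_of_elementary (p := 2) ?_ fun p => ?_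
      · rw [commutator_def, Subgroup.commutator_le]
        intro a _ b _
        rw [commutatorElement_eq_one_iff_mul_comm.2 (Subtype.ext (hcomm a a.2 b b.2))]
        exact one_mem _
      · obtain ⟨v, hv, j, e'⟩ := hdec p p.2
        refine Subgroup.mem_subgroupOf.2 ⟨j, ?_⟩
        show (c₀ ^ 2) ^ j = ((p ^ 2 : P) : T)
        rw [SubgroupClass.coe_pow, sq (p : T), e', hsqv v hv j, zpow_mul, zpow_ofNat]
    intro p hp
    obtain ⟨j, hj⟩ := Subgroup.mem_subgroupOf.1 (hle hp)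
    change (c₀ ^ 2) ^ j = (p : T) at hj
    exact ⟨j, by rw [← hj, zpow_mul, zpow_ofNat]⟩
  refine S.ess.mul_mem_of_char h N (fun α r (hr : r ^ e = 1) => show α r ^ e = 1 by
    rw [← map_pow, hr, map_one]) ?_ (Or.inr ⟨?_, ?_⟩) g m hg hm
  · intro p hp
    obtain ⟨j, hj⟩ := hΦe p hp
    exact (hN p 1 (one_mem _) _ (by rw [one_mul, hj])).2 (even_two_mul j)
  · refine Subgroup.index_eq_two_iff.2 ⟨⟨c₀, hc₀P⟩, fun q => ?_⟩
    obtain ⟨v, hv, j, e'⟩ := hdec q q.2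
    rw [hN q v hv j e', hN (q * ⟨c₀, hc₀P⟩) v hv (j + 1) (by
      rw [Subgroup.coe_mul, e', mul_assoc, zpow_add_one])]
    simp [Int.even_add_one, xor_iff_iff_not]
  · show ((frattini P).subgroupOf N).index = 4
    have hxN : ∀ a : comSub ω, (a : P) ∈ N := fun a =>
      (hN a _ (mem_xs.2 ⟨_, a.2⟩) 0 (by rw [zpow_zero, mul_one])).2 (by simp)
    let f : comSub ω → N ⧸ (frattini P).subgroupOf N := fun a => ((⟨a, hxN a⟩ : N) : _ ⧸ _)
    have hf : Function.Bijective f := by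
      constructor
      · intro a b hab
        obtain ⟨j, hj⟩ := hΦe _ (Subgroup.mem_subgroupOf.1 (QuotientGroup.eq.1 hab))
        have h1 : ((a : P) : T)⁻¹ * ((b : P) : T) ∈ xs ω :=
          mul_mem (inv_mem (mem_xs.2 ⟨_, a.2⟩)) (mem_xs.2 ⟨_, b.2⟩)
        have h2 : ((a : P) : T)⁻¹ * ((b : P) : T) ∈ cs ω := by
          rw [show ((a : P) : T)⁻¹ * ((b : P) : T) = c₀ ^ (2 * j) from hj]
          exact zpow_mem hc₀ _
        exact Subtype.ext (Subtype.ext (inv_mul_eq_one.1 (S.eq_one_of_mem hE.comm h1 h2)))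
      · intro q
        obtain ⟨⟨q, hq⟩, rfl⟩ := QuotientGroup.mk_surjective q
        obtain ⟨v, hv, j, e'⟩ := hdec q q.2
        obtain ⟨i, rfl⟩ := (hN q v hv j e').1 hq
        obtain ⟨hvP, hv'⟩ := mem_xs.1 hv
        refine ⟨⟨_, hv'⟩, QuotientGroup.eq.2 (Subgroup.mem_subgroupOf.2 ?_)⟩
        show (⟨v, hvP⟩ : P)⁻¹ * q ∈ frattini P
        rw [show (⟨v, hvP⟩ : P)⁻¹ * q = ((⟨c₀, hc₀P⟩ : P) ^ 2) ^ i from Subtype.ext (by
          show v⁻¹ * (q : T) = (c₀ ^ 2) ^ i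
          rw [e', inv_mul_cancel_left, ← two_mul, zpow_mul, zpow_ofNat])]
        exact zpow_mem (Solvable.pow_mem_frattini (h.p2.to_subgroup P) _) i
    rw [Subgroup.index_eq_card, ← Nat.card_eq_of_bijective f hf, ← hE.card, xs,
      ← Nat.card_congr ((comSub ω).equivMapOfInjective P.subtype P.subtype_injective).toEquiv]

/-- The basis of an elementary `P`. -/
theorem Small.exists_eight (hE : IsElem ω) (hP : ∀ p ∈ P, p * p = 1) :
    ∃ c ∈ uSub h.toPair, ∃ hc : c ∈ P,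
      Eight ω (⟨τ, M.τP⟩ : P) ⟨c, hc⟩ ⟨z, M.zP⟩ := by
  classical
  haveI : Fact (Nat.Prime 2) := ⟨Nat.prime_two⟩
  have S := M.sit
  obtain ⟨hcomm, c, hc, hc1, hdec⟩ := M.elem_facts hE
  have hcP := S.cs_le hc
  have hcs : ∀ q ∈ cs ω, q = 1 ∨ q = c := by
    intro q hq
    obtain ⟨v, hv, j, rfl⟩ := hdec q (S.cs_le hq)
    have h1 := mul_mem hq (inv_mem (zpow_mem hc j))
    rw [mul_inv_cancel_right] at h1
    rw [S.eq_one_of_mem hE.comm hv h1, one_mul]
    obtain ⟨i, rfl | rfl⟩ := Int.even_or_odd' j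
    · exact Or.inl (by rw [zpow_mul, zpow_ofNat, sq, hP c hcP, one_zpow])
    · exact Or.inr (by rw [zpow_add_one, zpow_mul, zpow_ofNat, sq, hP c hcP, one_zpow, one_mul])
  have hτz : τ * z ≠ 1 := fun e => M.τΦ (by
    rw [eq_inv_of_mul_eq_one_left e]; exact inv_mem M.zΦ)
  have hτ1 : τ ≠ 1 := fun e => M.τΦ (e ▸ one_mem _)
  have hτz' : τ ≠ z := fun e => M.τΦ (e ▸ M.zΦ)
  -- `c` lies in `U`
  have hcΦ : c ∈ frattini T := by
    by_contra hcΦ
    have hτcP : τ * c ∈ P := mul_mem M.τP hcP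
    have hτcΦ := S.ess.mul_mem_frattini h.toPair M.τP hcP M.τΦ hcΦ
    have hτcU := h.mem_uSub M.nc hτcΦ (by rw [sq]; exact hP _ hτcP)
    refine S.sP (S.ess.cent s fun q hq => ?_)
    have hfix : ∀ u ∈ uSub h.toPair, s * u = u * s := fun u hu =>
      (h.uSub_central M.nc u hu s M.sΦ).symm
    have hsc : s * c = c * s := by
      have e : s * c * s⁻¹ = (n : T) * c * (n : T)⁻¹ := by
        have h1 := hcomm _ S.ns _ ((Subgroup.mem_normalizer_iff.1 S.sN c).1 hcP)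
        rw [show (n : T) * c * (n : T)⁻¹ = (n : T) * s⁻¹ * (s * c * s⁻¹) * ((n : T) * s⁻¹)⁻¹ by group,
          h1, mul_inv_cancel_right]
      rcases hcs _ (S.nconj_cs hc) with e' | e'
      · exact absurd (conj_eq_one_iff.1 e') hc1
      · exact mul_inv_eq_iff_eq_mul.1 (e.trans e')
    have hsτ : s * τ = τ * s := by
      have h1 : Commute s (τ * c * c⁻¹) :=
        (show Commute s (τ * c) from hfix _ hτcU).mul_right (show Commute s c from hsc).inv_right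
      rwa [mul_inv_cancel_right] at h1
    have hsz := hfix z M.zU
    obtain ⟨v, hv, j, rfl⟩ := hdec q hq
    have hsv : Commute s v := by
      rcases mem_four hE.card M.τX M.zX hv hτ1 M.z1 hτz' hτz with rfl | rfl | rfl | rfl
      · exact Commute.one_right s
      · exact hsτ
      · exact hsz
      · exact (show Commute s τ from hsτ).mul_right hsz
    exact (hsv.mul_right ((show Commute s c from hsc).zpow_right j)).eq
  have hcz : c ≠ z := fun e => hc1 (S.eq_one_of_mem hE.comm (e ▸ M.zX) hc)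
  refine ⟨c, h.mem_uSub M.nc hcΦ (by rw [sq]; exact hP c hcP), hcP,
    ⟨fun p q => Subtype.ext (hcomm p p.2 q q.2), fun p => Subtype.ext (hP p p.2), fun p => ?_, ?_,
      Subtype.ext ?_, ?_, fun e => hc1 (congrArg Subtype.val e),
      fun e => M.z1 (congrArg Subtype.val e), fun e => hcz (congrArg Subtype.val e)⟩⟩
  · obtain ⟨v, hv, j, e⟩ := hdec p p.2
    obtain ⟨hvP, -⟩ := mem_xs.1 hv
    rw [show p = ⟨v, hvP⟩ * (⟨c, hcP⟩ : P) ^ j from Subtype.ext e]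
    refine mul_mem ?_ (zpow_mem (Subgroup.subset_closure (by simp)) j)
    rcases mem_four hE.card M.τX M.zX hv hτ1 M.z1 hτz' hτz with rfl | rfl | rfl | rfl
    · exact one_mem _
    · exact Subgroup.subset_closure (by simp)
    · exact Subgroup.subset_closure (by simp)
    · exact mul_mem (Subgroup.subset_closure (Or.inl rfl : (⟨τ, M.τP⟩ : P) ∈ _))
        (Subgroup.subset_closure (by simp) : (⟨z, M.zP⟩ : P) ∈ _)
  · -- `ω τ = τ z`
    obtain ⟨hp, h3, -, htop, -, -⟩ := S.xs_facts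
    obtain ⟨_, hzm⟩ := mem_xs.1 M.zX
    have hbot : frattini (comSub ω) = ⊥ := by
      have h1 := hE.frat
      rw [zs, Subgroup.map_eq_bot_iff_of_injective _ P.subtype_injective,
        Subgroup.map_eq_bot_iff_of_injective _ (comSub ω).subtype_injective] at h1
      exact h1
    have h1 := triple_mem_frattini hp h3 htop (⟨_, hzm⟩ : comSub ω)
    rw [hbot, Subgroup.mem_bot] at h1
    have h2 : (⟨z, M.zP⟩ : P) * ω ⟨z, M.zP⟩ * ω (ω ⟨z, M.zP⟩) = 1 :=
      congrArg (fun a : comSub ω => (a : P)) h1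
    rw [show ω ⟨z, M.zP⟩ = ⟨τ, M.τP⟩ from Subtype.ext (M.τω hE M.zP).symm] at h2
    rw [eq_inv_of_mul_eq_one_right h2, mul_inv_rev]
    exact Subtype.ext (by
      show τ⁻¹ * z⁻¹ = τ * z
      rw [inv_eq_of_mul_eq_one_right (hP τ M.τP), inv_eq_of_mul_eq_one_right M.zz])
  · obtain ⟨_, hfix⟩ := mem_cs.1 hc
    exact congrArg Subtype.val hfix
  · exact Subtype.ext (M.τω hE M.zP).symm

/-- `N(P) ∩ Φ(T)` modulo `P` has order at most two. -/
theorem Small.mul_mem_inner (g m : Subgroup.normalizer (P : Set T)) (hg : (g : T) ∉ P)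
    (hm : (m : T) ∉ P) (hgΦ : (g : T) ∈ frattini T) (hmΦ : (m : T) ∈ frattini T) :
    (g : T) * m ∈ P := by
  classical
  haveI : Fact (Nat.Prime 2) := ⟨Nat.prime_two⟩
  rcases M.shape with hE | ⟨z', hQ⟩
  swap
  · exact M.mul_mem_quat hQ g m hg hm
  by_cases hP : ∀ p ∈ P, p * p = 1
  swap
  · push Not at hP
    exact M.mul_mem_elem hE hP g m hg hm
  by_contra hgm
  obtain ⟨c, hcU, hcP, B⟩ := M.exists_eight hE hP
  have hττ : τ⁻¹ = τ := inv_eq_of_mul_eq_one_right (hP τ M.τP)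
  -- the map `g ↦ ⁅τ, g⁆`
  have hδ : ∀ f : Subgroup.normalizer (P : Set T), (f : T) ∈ frattini T → (f : T) ∉ P →
      ⁅τ, (f : T)⁆ ∈ uSub h.toPair ∧ ⁅τ, (f : T)⁆ ≠ 1 := by
    intro f hfΦ hfP
    refine ⟨?_, fun e => hfP (M.sit.ess.cent f fun q hq => ?_)⟩
    · have hdP : ⁅τ, (f : T)⁆ ∈ P := by
        rw [show ⁅τ, (f : T)⁆ = τ * ((f : T) * τ⁻¹ * (f : T)⁻¹) by rw [commutatorElement_def]; group]
        exact mul_mem M.τP ((Subgroup.mem_normalizer_iff.1 f.2 _).1 (inv_mem M.τP))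
      exact h.mem_uSub M.nc (h.toPair.commutator_le (Subgroup.commutator_mem_commutator
        (Subgroup.mem_top _) (Subgroup.mem_top _))) (by rw [sq]; exact hP _ hdP)
    · have hle : Subgroup.closure {(⟨τ, M.τP⟩ : P), ⟨c, hcP⟩, ⟨z, M.zP⟩} ≤
          (Subgroup.centralizer {(f : T)}).comap P.subtype := by
        rw [Subgroup.closure_le]
        rintro r (rfl | rfl | rfl)
        · exact Subgroup.mem_centralizer_singleton_iff.2 (commutatorElement_eq_one_iff_mul_comm.1 e)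
        · exact Subgroup.mem_centralizer_singleton_iff.2 (h.uSub_central M.nc c hcU _ hfΦ)
        · exact Subgroup.mem_centralizer_singleton_iff.2 (h.uSub_central M.nc z M.zU _ hfΦ)
      exact (Subgroup.mem_centralizer_singleton_iff.1 (hle (B.gen ⟨q, hq⟩) :
        q ∈ Subgroup.centralizer {(f : T)})).symm
  obtain ⟨gU, g1⟩ := hδ g hgΦ hg
  obtain ⟨mU, m1⟩ := hδ m hmΦ hm
  obtain ⟨-, gm1⟩ := hδ (g * m) (mul_mem hgΦ hmΦ) hgm
  have hmul : ⁅τ, (g : T) * m⁆ = ⁅τ, (g : T)⁆ * ⁅τ, (m : T)⁆ := by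
    rw [show ⁅τ, (g : T) * m⁆ = ⁅τ, (g : T)⁆ * ((g : T) * ⁅τ, (m : T)⁆ * (g : T)⁻¹) by
      rw [commutatorElement_def, commutatorElement_def, commutatorElement_def]; group,
      mul_inv_eq_iff_eq_mul.2 (h.uSub_central M.nc _ mU _ hgΦ).symm]
  have hne : ⁅τ, (g : T)⁆ ≠ ⁅τ, (m : T)⁆ := fun e => gm1 (by
    rw [show ((g * m : Subgroup.normalizer (P : Set T)) : T) = (g : T) * m from rfl, hmul, ← e, ← sq]
    exact gU.2)
  obtain ⟨f, hfΦ, hfP, hfc⟩ : ∃ f : Subgroup.normalizer (P : Set T),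
      (f : T) ∈ frattini T ∧ (f : T) ∉ P ∧ ⁅τ, (f : T)⁆ = c := by
    rcases mem_four (h.card_uSub M.nc) gU mU hcU g1 m1 hne (by
      rw [← hmul]; exact gm1) with e | e | e | e
    · exact absurd (Subtype.ext e : (⟨c, hcP⟩ : P) = 1) B.c1
    · exact ⟨g, hgΦ, hg, e.symm⟩
    · exact ⟨m, hmΦ, hm, e.symm⟩
    · exact ⟨g * m, mul_mem hgΦ hmΦ, hgm, (e.trans hmul.symm).symm⟩
  refine M.sit.notY (B.mem_of_transvection M.sit.ess M.sit.mem
    (M.sit.ess.conj_mem f) (M.pow_two f) (Subtype.ext ?_) (Subtype.ext ?_) (Subtype.ext ?_))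
  · show (f : T) * τ * (f : T)⁻¹ = τ * c
    calc (f : T) * τ * (f : T)⁻¹ = (f : T) * τ⁻¹ * (f : T)⁻¹ := by rw [hττ]
      _ = τ⁻¹ * ⁅τ, (f : T)⁆ := by rw [commutatorElement_def]; group
      _ = τ * c := by rw [hfc, hττ]
  · exact mul_inv_eq_iff_eq_mul.2 (h.uSub_central M.nc c hcU _ hfΦ).symm
  · exact mul_inv_eq_iff_eq_mul.2 (h.uSub_central M.nc z M.zU _ hfΦ).symm

/-- Elements of `N(P) ∩ Φ(T)` normalize `[P, ω]`. -/
theorem Small.conj_xs {g : T} (hg : g ∈ Subgroup.normalizer (P : Set T)) (hgΦ : g ∈ frattini T)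
    {v : T} (hv : v ∈ xs ω) : g * v * g⁻¹ ∈ xs ω := by
  have hs : ∀ v ∈ xs ω, s * v * s⁻¹ ∈ xs ω := fun v hv => by
    have h1 := M.sit.conj_xs (inv_mem M.sit.ns) (M.sit.nconj_xs hv)
    rwa [show ((n : T) * s⁻¹)⁻¹ * ((n : T) * v * (n : T)⁻¹) * ((n : T) * s⁻¹)⁻¹⁻¹ = s * v * s⁻¹ by
      group] at h1
  by_cases hgP : g ∈ P
  · exact M.sit.conj_xs hgP hv
  have hgs : g * s⁻¹ ∈ P :=
    M.mul_mem_inner ⟨g, hg⟩ ⟨s⁻¹, inv_mem M.sit.sN⟩ hgP (fun h' => M.sit.sP (inv_mem_iff.1 h')) hgΦ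
      (inv_mem M.sΦ)
  have h1 := M.sit.conj_xs hgs (hs v hv)
  rwa [show g * s⁻¹ * (s * v * s⁻¹) * (g * s⁻¹)⁻¹ = g * v * g⁻¹ by group] at h1

/-- The centralizer of `τ` modulo `zs` inside `Φ(T)` lies in `P`. -/
theorem Small.mem_of_comm {k : T} (hk : k ∈ frattini T) (hkc : ⁅τ, k⁆ ∈ zs ω) : k ∈ P := by
  classical
  haveI : Fact (Nat.Prime 2) := ⟨Nat.prime_two⟩
  have S := M.sit
  by_contra hkP
  let K : Subgroup T :=
    { carrier := {g | g ∈ frattini T ∧ ⁅τ, g⁆ ∈ zs ω}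
      one_mem' := ⟨one_mem _, by rw [commutatorElement_one_right]; exact one_mem _⟩
      mul_mem' := fun {a b} ha hb => ⟨mul_mem ha.1 hb.1, by
        rw [show ⁅τ, a * b⁆ = ⁅τ, a⁆ * (a * ⁅τ, b⁆ * a⁻¹) by simp only [commutatorElement_def]; group,
          M.fix_frattini ha.1 hb.2]
        exact mul_mem ha.2 hb.2⟩
      inv_mem' := fun {a} ha => ⟨inv_mem ha.1, by
        rw [show ⁅τ, a⁻¹⁆ = a⁻¹ * ⁅τ, a⁆⁻¹ * a⁻¹⁻¹ by simp only [commutatorElement_def]; group,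
          M.fix_frattini (inv_mem ha.1) (inv_mem ha.2)]
        exact inv_mem ha.2⟩ }
  have hle : P ⊓ frattini T ≤ K := fun q hq => ⟨hq.2, by
    rw [← commutatorElement_inv]
    exact inv_mem (S.commutator_left_mem M.shape hq.1 M.τX)⟩
  obtain ⟨f, ⟨hfΦ, hfc⟩, hfN, hfP, -⟩ :=
    exists_normalizer_step h.p2 hle (show k ∈ K from ⟨hk, hkc⟩) fun h' => hkP h'.1
  have hfN' : f ∈ Subgroup.normalizer (P : Set T) :=
    M.mem_normalizer (fun q hq hqΦ => ((Subgroup.mem_normalizer_iff.1 hfN q).1 ⟨hq, hqΦ⟩).1) (by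
      rw [show f * τ * f⁻¹ = ⁅τ, f⁆⁻¹ * τ by rw [commutatorElement_def]; group]
      exact mul_mem (inv_mem (S.xs_le (zs_le_xs ω hfc))) M.τP)
  have hfs := M.mul_mem_inner ⟨f, hfN'⟩ ⟨s, S.sN⟩ (fun h' => hfP ⟨h', hfΦ⟩) S.sP hfΦ M.sΦ
  have hsK : s ∈ K := by
    have h1 := mul_mem (inv_mem (show f ∈ K from ⟨hfΦ, hfc⟩))
      (hle ⟨hfs, mul_mem hfΦ M.sΦ⟩ : f * s ∈ K)
    rwa [inv_mul_cancel_left] at h1
  -- `s` centralizes `[P, ω]` modulo `zs`
  obtain ⟨hp, -, -, -, hidx, -⟩ := S.xs_facts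
  have hzle : zs ω ≤ xs ω ⊓ frattini T := le_inf (zs_le_xs ω) S.zs_le_frattini
  have hrel : (zs ω).relIndex (xs ω) = 4 := by
    rw [zs, xs, Subgroup.relIndex_map_map_of_injective _ _ P.subtype_injective,
      Subgroup.relIndex, Subgroup.subgroupOf, Subgroup.comap_map_eq_self_of_injective
        (comSub ω).subtype_injective, hidx]
  have hrel2 : (zs ω).relIndex (xs ω ⊓ frattini T) ≤ 2 := by
    have h1 := Subgroup.relIndex_mul_relIndex _ _ _ hzle (inf_le_left : xs ω ⊓ frattini T ≤ xs ω)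
    have h2 : (xs ω ⊓ frattini T).relIndex (xs ω) ≠ 1 := fun e =>
      M.τΦ ((Subgroup.relIndex_eq_one.1 e) M.τX).2
    have h3 : (xs ω ⊓ frattini T).relIndex (xs ω) ≠ 0 := Subgroup.index_ne_zero_of_finite
    rw [hrel] at h1
    by_contra hgt
    have h4 : 3 * 2 ≤ (zs ω).relIndex (xs ω ⊓ frattini T) *
        (xs ω ⊓ frattini T).relIndex (xs ω) := Nat.mul_le_mul (by omega) (by omega)
    omega
  have htrivΦ : ∀ v ∈ xs ω, v ∈ frattini T → ⁅s, v⁆ ∈ zs ω := by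
    intro v hv hvΦ
    have hw : s * v * s⁻¹ ∈ xs ω ⊓ frattini T :=
      ⟨M.conj_xs S.sN M.sΦ hv, (inferInstance : (frattini T).Normal).conj_mem v hvΦ s⟩
    by_cases hvz : v ∈ zs ω
    · rw [commutatorElement_def, M.fix_frattini M.sΦ hvz, mul_inv_cancel]; exact one_mem _
    have hwz : s * v * s⁻¹ ∉ zs ω := fun h' => hvz (by
      have h2 := M.fix_frattini (inv_mem M.sΦ) h'
      rw [show s⁻¹ * (s * v * s⁻¹) * s⁻¹⁻¹ = v by group] at h2
      rw [h2]; exact h')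
    have h0 : (zs ω).relIndex (xs ω ⊓ frattini T) ≠ 0 := Subgroup.index_ne_zero_of_finite
    have h1' : (zs ω).relIndex (xs ω ⊓ frattini T) ≠ 1 := fun e =>
      hvz (Subgroup.relIndex_eq_one.1 e ⟨hv, hvΦ⟩)
    have h2 : ((zs ω).subgroupOf (xs ω ⊓ frattini T)).index = 2 := by
      show (zs ω).relIndex (xs ω ⊓ frattini T) = 2
      omega
    exact Subgroup.mem_subgroupOf.1 ((Subgroup.mul_mem_iff_of_index_two h2
      (a := (⟨_, hw⟩ : ↥(xs ω ⊓ frattini T))) (b := (⟨v, hv, hvΦ⟩ : ↥(xs ω ⊓ frattini T))⁻¹)).2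
        (by
          simp only [Subgroup.mem_subgroupOf, Subgroup.coe_inv, inv_mem_iff]
          exact iff_of_false hwz hvz))
  have hstriv : ∀ v ∈ xs ω, ⁅s, v⁆ ∈ zs ω := by
    intro v hv
    rcases M.split (S.xs_le hv) with hvΦ | hvΦ
    · exact htrivΦ v hv hvΦ
    · rw [show ⁅s, v⁆ = ⁅τ, s⁆⁻¹ * (τ * ⁅s, τ⁻¹ * v⁆ * τ⁻¹) by
        simp only [commutatorElement_def]; group,
        M.fix_P M.τP (htrivΦ _ (mul_mem (inv_mem M.τX) hv) hvΦ)]
      exact mul_mem (inv_mem hsK.2) (htrivΦ _ (mul_mem (inv_mem M.τX) hv) hvΦ)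
  refine S.false_of_trivial_quot fun v hv => ?_
  rw [show ⁅(n : T), v⁆ = (n : T) * s⁻¹ * ⁅s, v⁆ * ((n : T) * s⁻¹)⁻¹ * ⁅(n : T) * s⁻¹, v⁆ by
    simp only [commutatorElement_def]; group, M.fix_P S.ns (hstriv v hv)]
  exact mul_mem (hstriv v hv) (S.commutator_left_mem M.shape S.ns hv)

/-- A value of `g ↦ ⁅τ, g⁆` in `U` lies in `⟨z⟩`. -/
theorem Small.comm_mem {f : T} (hf : f ∈ frattini T) (hd : ⁅τ, f⁆ ∈ uSub h.toPair) :
    ⁅τ, f⁆ = 1 ∨ ⁅τ, f⁆ = z := by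
  set d := ⁅τ, f⁆ with hdd
  have hdc : ∀ g ∈ frattini T, d * g * d⁻¹ = g := fun g hg =>
    mul_inv_eq_iff_eq_mul.2 (h.uSub_central M.nc d hd g hg)
  have hfτ : f * τ⁻¹ * f⁻¹ = τ⁻¹ * d := by rw [hdd, commutatorElement_def]; group
  have hfN : f ∈ Subgroup.normalizer (P : Set T) := by
    refine M.mem_normalizer (fun q hq hqΦ => ?_) ?_
    · have hε : ⁅τ, q⁆ ∈ zs ω := by
        rw [← commutatorElement_inv]
        exact inv_mem (M.sit.commutator_left_mem M.shape hq M.τX)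
      have hq' : f * q * f⁻¹ ∈ frattini T := mul_mem (mul_mem hf hqΦ) (inv_mem hf)
      refine M.mem_of_comm hq' ?_
      have e : τ * (f * q * f⁻¹) * τ⁻¹ = ⁅τ, q⁆ * (f * q * f⁻¹) := by
        calc τ * (f * q * f⁻¹) * τ⁻¹ = d * (f * (⁅τ, q⁆ * q) * f⁻¹) * d⁻¹ := by
              rw [hdd]; simp only [commutatorElement_def]; group
          _ = d * (⁅τ, q⁆ * (f * q * f⁻¹)) * d⁻¹ := by
              rw [show f * (⁅τ, q⁆ * q) * f⁻¹ = f * ⁅τ, q⁆ * f⁻¹ * (f * q * f⁻¹) by group,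
                M.fix_frattini hf hε]
          _ = ⁅τ, q⁆ * (f * q * f⁻¹) := hdc _ (mul_mem (M.sit.zs_le_frattini hε) hq')
      rw [commutatorElement_def τ (f * q * f⁻¹), e, mul_inv_cancel_right]
      exact hε
    · rw [show f * τ * f⁻¹ = (f * τ⁻¹ * f⁻¹)⁻¹ by group, hfτ]
      exact inv_mem (mul_mem (inv_mem M.τP) (M.uP hd))
  refine M.unique d ?_ (h.toPair.commutator_le hd.1) (by rw [← sq]; exact hd.2)
  rw [hdd, show ⁅τ, f⁆ = τ * (f * τ⁻¹ * f⁻¹) by rw [commutatorElement_def]; group]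
  exact mul_mem M.τX (M.conj_xs hfN hf (inv_mem M.τX))

/-- The configuration is impossible. -/
theorem Small.false : False := by
  classical
  haveI : Fact (Nat.Prime 2) := ⟨Nat.prime_two⟩
  have S := M.sit
  have hAc := h.toPair.commutator_comm
  obtain ⟨w, hwΦ, hτwΦ⟩ : ∃ w, w ∉ frattini T ∧ τ * w ∉ frattini T := by
    by_cases hτx : τ * x ∈ frattini T
    · refine ⟨y, fun hy => h.toPair.y_notMem (frattini_le_mSub x hy), fun hτy => h.toPair.y_notMem ?_⟩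
      have h1 := frattini_le_mSub x (mul_mem (inv_mem hτx) hτy)
      rw [show (τ * x)⁻¹ * (τ * y) = x⁻¹ * y by group] at h1
      simpa using mul_mem (self_mem_mSub x) h1
    · exact ⟨x, fun hx => h.toPair.x_notMem (frattini_le_mSub y hx), hτx⟩
  have hgen : Subgroup.closure {τ, w} = ⊤ := h.toPair.closure_eq_top M.τΦ hwΦ hτwΦ
  set A := commutator T with hAdef
  have hcA : ∀ a b : T, ⁅a, b⁆ ∈ A := fun a b =>
    Subgroup.commutator_mem_commutator (Subgroup.mem_top a) (Subgroup.mem_top b)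
  have hconjA : ∀ g, ∀ a ∈ A, g * a * g⁻¹ ∈ A := fun g a ha =>
    (inferInstance : (commutator T).Normal).conj_mem a ha g
  have hAΦ : ∀ a ∈ A, a ∈ frattini T := fun a ha => h.toPair.commutator_le ha
  set c₁ := ⁅τ, w⁆ with hc₁
  -- conjugation by `w` preserves inversion by `τ`
  have hinvw : ∀ a ∈ A, τ * a * τ⁻¹ = a⁻¹ → τ * (w * a * w⁻¹) * τ⁻¹ = (w * a * w⁻¹)⁻¹ := by
    intro a ha he
    rw [show τ * (w * a * w⁻¹) * τ⁻¹ = c₁ * (w * (τ * a * τ⁻¹) * w⁻¹) * c₁⁻¹ by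
      rw [hc₁, commutatorElement_def]; group, he,
      mul_inv_eq_iff_eq_mul.2 (hAc _ (hcA τ w) _ (hconjA w _ (inv_mem ha)))]
    group
  have hcomm_inv : ∀ a, τ * a * τ⁻¹ = a⁻¹ → ⁅τ, a⁆ = (a * a)⁻¹ := fun a he => by
    rw [commutatorElement_def, he, mul_inv_rev]
  -- `z` is centralized by `w` in the quaternion case
  have hwz : ∀ {z' : T}, IsQuat ω z' → w * z * w⁻¹ = z := by
    intro z' hQ
    set r := ⁅τ, s⁆ with hr
    have hrX : r ∈ xs ω := by
      rw [hr, show ⁅τ, s⁆ = τ * (s * τ⁻¹ * s⁻¹) by rw [commutatorElement_def]; group]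
      exact mul_mem M.τX (M.conj_xs S.sN M.sΦ (inv_mem M.τX))
    have hrΦ : r ∈ frattini T := hAΦ _ (hcA τ s)
    have hrz : r ∉ zs ω := fun h' => S.sP (M.mem_of_comm M.sΦ h')
    have hr2 : r * r = z := by
      rcases M.zsz _ (S.sq_mem_zs hrX) with e | e
      · refine absurd ?_ hrz
        rcases M.unique r hrX hrΦ e with e' | e' <;> rw [e']
        · exact one_mem _
        · obtain ⟨k, hk⟩ := hQ.frat (S.quat_mem_zs hQ)
          rcases hQ.unique z M.zX M.zz with e'' | e''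
          · exact absurd e'' M.z1
          · rw [e'']; exact S.quat_mem_zs hQ
      · exact e
    have hτ2 : τ * τ = z := by
      rcases M.sq_τ with e | e
      · rcases hQ.unique τ M.τX e with e' | e'
        · exact absurd (e' ▸ one_mem _ : τ ∈ frattini T) M.τΦ
        · exact absurd (e' ▸ S.zs_le_frattini (S.quat_mem_zs hQ) : τ ∈ frattini T) M.τΦ
      · exact e
    have hτr : τ * r * τ⁻¹ = r⁻¹ := by
      refine hQ.inverts τ M.τX r hrX fun e => M.τΦ ?_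
      have h2 : τ * r * (τ * r) = 1 := by
        rw [mul_assoc, ← mul_assoc r τ r, ← e, mul_assoc τ r r, hr2, ← mul_assoc, hτ2, M.zz]
      have h3 : τ * r ∈ frattini T := by
        rcases hQ.unique _ (mul_mem M.τX hrX) h2 with e' | e' <;> rw [e']
        · exact one_mem _
        · exact S.zs_le_frattini (S.quat_mem_zs hQ)
      simpa using mul_mem h3 (inv_mem hrΦ)
    set r' := w * r * w⁻¹ with hr'
    have hr'A : r' ∈ A := hconjA w r (hcA τ s)
    have hτr' : τ * r' * τ⁻¹ = r'⁻¹ := hinvw r (hcA τ s) hτr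
    have hrr' : Commute r r' := hAc r (hcA τ s) r' hr'A
    have hm : τ * (r * r') * τ⁻¹ = (r * r')⁻¹ := by
      rw [show τ * (r * r') * τ⁻¹ = τ * r * τ⁻¹ * (τ * r' * τ⁻¹) by group, hτr, hτr']
      exact hrr'.inv_inv.eq.trans (mul_inv_rev r r').symm
    have hm2 : r * r' * (r * r') = z * (w * z * w⁻¹) := by
      rw [hrr'.symm.mul_mul_mul_comm, hr2, show r' * r' = w * (r * r) * w⁻¹ by rw [hr']; group, hr2]
    have hzU' : w * z * w⁻¹ ∈ uSub h.toPair := (uSub_normal h.toPair).conj_mem z M.zU w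
    have hd := hcomm_inv _ hm
    rw [hm2] at hd
    rcases M.comm_mem (mul_mem hrΦ (hAΦ _ hr'A))
      (by rw [hd]; exact inv_mem (mul_mem M.zU hzU')) with e | e <;> rw [hd] at e
    · rw [inv_eq_one] at e
      rw [eq_inv_of_mul_eq_one_right e, inv_eq_of_mul_eq_one_right M.zz]
    · rw [inv_eq_iff_eq_inv, inv_eq_of_mul_eq_one_right M.zz, mul_eq_left, conj_eq_one_iff] at e
      exact absurd e M.z1
  have hεw : ∀ v ∈ zs ω, w * v * w⁻¹ = v := by
    intro v hv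
    rcases M.shape with hE | ⟨z', hQ⟩
    · rw [hE.frat, Subgroup.mem_bot] at hv
      rw [hv, mul_one, mul_inv_cancel]
    · rcases M.zsz v hv with rfl | rfl
      · rw [mul_one, mul_inv_cancel]
      · exact hwz hQ
  -- `τ` inverts the derived group
  have hc₁inv : τ * c₁ * τ⁻¹ = c₁⁻¹ := by
    have e : w * (τ * τ) * w⁻¹ = τ * τ := hεw _ (S.sq_mem_zs M.τX)
    calc τ * c₁ * τ⁻¹ = τ * τ * w * τ⁻¹ * w⁻¹ * τ⁻¹ := by rw [hc₁, commutatorElement_def]; group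
      _ = w * (τ * τ) * w⁻¹ * w * τ⁻¹ * w⁻¹ * τ⁻¹ := by rw [e]
      _ = c₁⁻¹ := by rw [hc₁, commutatorElement_def]; group
  let I : Subgroup T :=
    { carrier := {a | a ∈ A ∧ τ * a * τ⁻¹ = a⁻¹}
      one_mem' := ⟨one_mem _, by group⟩
      mul_mem' := fun {a b} ha hb => ⟨mul_mem ha.1 hb.1, by
        rw [show τ * (a * b) * τ⁻¹ = τ * a * τ⁻¹ * (τ * b * τ⁻¹) by group, ha.2, hb.2,
          hAc a ha.1 b hb.1, mul_inv_rev]⟩
      inv_mem' := fun {a} ha => ⟨inv_mem ha.1, by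
        rw [show τ * a⁻¹ * τ⁻¹ = (τ * a * τ⁻¹)⁻¹ by group, ha.2]⟩ }
  have hnormal : ∀ (B : Subgroup T), (∀ b ∈ B, τ * b * τ⁻¹ ∈ B) → (∀ b ∈ B, w * b * w⁻¹ ∈ B) →
      B.Normal := by
    intro B h1 h2
    refine Subgroup.normalizer_eq_top_iff.1 (eq_top_iff.2 ?_)
    rw [← hgen, Subgroup.closure_le, Set.insert_subset_iff, Set.singleton_subset_iff]
    exact ⟨mem_normalizer_of_conj_le h1, mem_normalizer_of_conj_le h2⟩
  have hgen_le : ∀ (B : Subgroup T) [B.Normal], c₁ ∈ B → A ≤ B := fun B _ hB =>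
    commutator_le_of_gen hgen (by
      rintro _ (rfl | rfl) _ (rfl | rfl)
      · simp
      · exact hB
      · rw [← commutatorElement_inv]; exact inv_mem hB
      · simp)
  have hinvA : ∀ a ∈ A, τ * a * τ⁻¹ = a⁻¹ := by
    haveI := hnormal I (fun b hb => by rw [hb.2]; exact inv_mem hb)
      (fun b hb => ⟨hconjA w b hb.1, hinvw b hb.1 hb.2⟩)
    exact fun a ha => (hgen_le I ⟨hcA τ w, hc₁inv⟩ ha).2
  -- the squares
  let Sq : Subgroup T :=
    { carrier := {g | ∃ a ∈ A, a * a = g}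
      one_mem' := ⟨1, one_mem _, one_mul 1⟩
      mul_mem' := by
        rintro _ _ ⟨a, ha, rfl⟩ ⟨b, hb, rfl⟩
        exact ⟨a * b, mul_mem ha hb,
          (show Commute b a from hAc b hb a ha).mul_mul_mul_comm a b⟩
      inv_mem' := by
        rintro _ ⟨a, ha, rfl⟩
        exact ⟨a⁻¹, inv_mem ha, (mul_inv_rev a a).symm⟩ }
  have hSqA : ∀ g ∈ Sq, g ∈ A := by rintro _ ⟨a, ha, rfl⟩; exact mul_mem ha ha
  have hSqinv : ∀ g ∈ Sq, g * g = 1 → g = 1 ∨ g = z := by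
    rintro _ ⟨a, ha, rfl⟩ h2
    have hgU : a * a ∈ uSub h.toPair := ⟨mul_mem ha ha, by rw [sq]; exact h2⟩
    have hd := hcomm_inv a (hinvA a ha)
    rw [inv_eq_of_mul_eq_one_right h2] at hd
    rw [← hd]
    exact M.comm_mem (hAΦ a ha) (by rw [hd]; exact hgU)
  set c₂ := ⁅τ, w * w⁆ with hc₂
  have hc₂e : c₂ = c₁ * (w * c₁ * w⁻¹) := by
    rw [hc₂, hc₁]; simp only [commutatorElement_def]; group
  have hc₂Sq : c₂ ∉ Sq := by
    intro hc
    let B : Subgroup T := Subgroup.zpowers c₁ ⊔ Sq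
    have hBA : B ≤ A := sup_le (Subgroup.zpowers_le.2 (hcA τ w)) hSqA
    haveI : B.Normal := by
      refine hnormal B (fun b hb => by rw [hinvA b (hBA hb)]; exact inv_mem hb) fun b hb => ?_
      have hle : B ≤ B.comap (MulAut.conj w).toMonoidHom := by
        refine sup_le (Subgroup.zpowers_le.2 ?_) ?_
        · show w * c₁ * w⁻¹ ∈ B
          rw [show w * c₁ * w⁻¹ = c₁⁻¹ * c₂ by rw [hc₂e, inv_mul_cancel_left]]
          exact mul_mem (inv_mem (Subgroup.mem_sup_left (Subgroup.mem_zpowers c₁)))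
            (Subgroup.mem_sup_right hc)
        · rintro _ ⟨a, ha, rfl⟩
          show w * (a * a) * w⁻¹ ∈ B
          exact Subgroup.mem_sup_right ⟨w * a * w⁻¹, hconjA w a ha, by group⟩
      exact hle hb
    have hAB := hgen_le B (Subgroup.mem_sup_left (Subgroup.mem_zpowers c₁))
    refine M.nc ?_
    have hA2 : IsPGroup 2 A := h.p2.to_subgroup A
    have htop : Subgroup.closure {(⟨c₁, hcA τ w⟩ : A)} = ⊤ := by
      refine closure_eq_top_of_frattini (eq_top_iff.2 fun a _ => ?_)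
      let L : Subgroup T := (Subgroup.closure {(⟨c₁, hcA τ w⟩ : A)} ⊔ frattini A).map A.subtype
      have hBL : B ≤ L := by
        refine sup_le (Subgroup.zpowers_le.2 ⟨⟨c₁, hcA τ w⟩,
          Subgroup.mem_sup_left (Subgroup.subset_closure rfl), rfl⟩) ?_
        rintro _ ⟨b, hb, rfl⟩
        exact ⟨(⟨b, hb⟩ : A) ^ 2, Subgroup.mem_sup_right (Solvable.pow_mem_frattini hA2 _),
          by rw [sq]; rfl⟩
      obtain ⟨b, hb, e⟩ := hBL (hAB a.2)
      rwa [show b = a from Subtype.ext e] at hb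
    rw [← Subgroup.zpowers_eq_closure] at htop
    exact ⟨⟨c₁, hcA τ w⟩, fun a => show a ∈ Subgroup.zpowers _ by rw [htop]; exact Subgroup.mem_top _⟩
  by_cases hA2 : ∀ a ∈ A, a * a = 1
  swap
  · -- the derived group is not elementary
    have hSqc : IsCyclic Sq := TwoGroupsQ.isCyclic_of_comm (h.p2.to_subgroup Sq)
      (TwoGroupsQ.hasUniqueOrderP_two fun a b ha ha1 hb hb1 => by
        have hz' : ∀ c : Sq, c ^ 2 = 1 → c ≠ 1 → (c : T) = z := fun c hc hc1 =>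
          (hSqinv c c.2 (by rw [← sq]; exact congrArg Subtype.val hc)).resolve_left
            fun e => hc1 (Subtype.ext e)
        exact Subtype.ext ((hz' a ha ha1).trans (hz' b hb hb1).symm))
      fun a b => Subtype.ext (hAc a (hSqA a a.2) b (hSqA b b.2))
    obtain ⟨⟨g₀, hg₀⟩, hgen₀⟩ := hSqc.exists_generator
    have hpow₀ : ∀ g ∈ Sq, ∃ i : ℤ, g₀ ^ i = g := fun g hg => by
      obtain ⟨i, hi⟩ := hgen₀ ⟨g, hg⟩
      exact ⟨i, congrArg Subtype.val hi⟩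
    obtain ⟨a₀, ha₀, rfl⟩ := hg₀
    have hne : a₀ * a₀ ≠ 1 := fun e => hA2 fun a ha => by
      obtain ⟨i, hi⟩ := hpow₀ (a * a) ⟨a, ha, rfl⟩
      rw [← hi, e, one_zpow]
    have hzSq : z ∈ Sq := by
      obtain ⟨k, hk, hk1⟩ := exists_involution_pow h.p2 hne
      have hm : (a₀ * a₀) ^ k ∈ Sq := pow_mem (show a₀ * a₀ ∈ Sq from ⟨a₀, ha₀, rfl⟩) k
      exact ((hSqinv _ hm hk).resolve_left hk1) ▸ hm
    obtain ⟨k, hk⟩ := hpow₀ (w * (a₀ * a₀) * w⁻¹) ⟨w * a₀ * w⁻¹, hconjA w a₀ ha₀, by group⟩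
    obtain ⟨m, rfl⟩ : Odd k := by
      rcases Int.even_or_odd k with ⟨m, rfl⟩ | ho
      swap
      · exact ho
      obtain ⟨e, he⟩ := hpow₀ z hzSq
      have h1 : w * z * w⁻¹ = 1 := by
        rw [← he, ← conj_zpow, ← hk, ← zpow_mul, mul_comm, zpow_mul, he, ← two_mul, zpow_mul,
          zpow_ofNat, sq, M.zz, one_zpow]
      exact absurd (conj_eq_one_iff.1 h1) M.z1
    obtain ⟨i, hi⟩ := hpow₀ (c₁ * c₁) ⟨c₁, hcA τ w, rfl⟩
    set b := a₀ ^ (i * (m + 1)) with hb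
    have hbA : b ∈ A := zpow_mem ha₀ _
    have hc₂A : c₂ ∈ A := hcA _ _
    have hbb : c₂ * c₂ = b * b * (b * b) := by
      have e1 : c₂ * c₂ = c₁ * c₁ * (w * (c₁ * c₁) * w⁻¹) := by
        rw [hc₂e, (show Commute (w * c₁ * w⁻¹) c₁ from
          hAc _ (hconjA w _ (hcA τ w)) _ (hcA τ w)).mul_mul_mul_comm c₁ (w * c₁ * w⁻¹)]
        group
      rw [e1, ← hi, ← conj_zpow, ← hk, ← zpow_mul, ← zpow_add,
        show i + (2 * m + 1) * i = i * (m + 1) + i * (m + 1) by ring, zpow_add, hb,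
        (Commute.refl a₀).mul_zpow]
    set v := c₂ * (b * b)⁻¹ with hv
    have hvU : v ∈ uSub h.toPair := by
      refine ⟨mul_mem hc₂A (inv_mem (mul_mem hbA hbA)), ?_⟩
      rw [sq, hv, (show Commute (b * b)⁻¹ c₂ from
        hAc _ (inv_mem (mul_mem hbA hbA)) _ hc₂A).mul_mul_mul_comm, hbb, ← mul_inv_rev,
        mul_inv_cancel]
    set a := (w * w)⁻¹ * b * (w * w) with ha
    have haA : a ∈ A := by
      have := hconjA (w * w)⁻¹ b hbA
      rwa [inv_inv] at this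
    have hd : ⁅τ, w * w * a⁆ = v := by
      rw [show ⁅τ, w * w * a⁆ = c₂ * (w * w * ⁅τ, a⁆ * (w * w)⁻¹) by
        rw [hc₂]; simp only [commutatorElement_def]; group, hcomm_inv a (hinvA a haA), hv, ha]
      group
    have hwa : w * w * a ∈ frattini T :=
      mul_mem (by rw [← sq]; exact h.toPair.sq_mem_frattini w) (hAΦ a haA)
    rcases M.comm_mem hwa (by rw [hd]; exact hvU) with e | e <;> rw [hd, hv] at e
    · exact hc₂Sq (mul_inv_eq_one.1 e ▸ ⟨b, hbA, rfl⟩)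
    · refine hc₂Sq ?_
      rw [mul_inv_eq_iff_eq_mul.1 e]
      exact mul_mem hzSq ⟨b, hbA, rfl⟩
  -- the derived group is `U`
  have hAU : ∀ a ∈ A, a ∈ uSub h.toPair := fun a ha => ⟨ha, by rw [sq]; exact hA2 a ha⟩
  have hc₁U := hAU c₁ (hcA τ w)
  have hwwΦ : w * w ∈ frattini T := by rw [← sq]; exact h.toPair.sq_mem_frattini w
  have hc₂z : c₂ = z :=
    (M.comm_mem hwwΦ (hAU _ (hcA _ _))).resolve_left fun e => hc₂Sq (by rw [hc₂, e]; exact one_mem _)
  have hwc₁ : w * c₁ * w⁻¹ = c₁ * z := by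
    rw [← hc₂z, hc₂e, ← mul_assoc, hA2 c₁ (hcA τ w), one_mul]
  have hwz' : w * z * w⁻¹ = z := by
    have e1 : w * w * c₁ * (w * w)⁻¹ = c₁ :=
      mul_inv_eq_iff_eq_mul.2 (h.uSub_central M.nc c₁ hc₁U _ hwwΦ).symm
    rw [show w * w * c₁ * (w * w)⁻¹ = w * (w * c₁ * w⁻¹) * w⁻¹ by group, hwc₁,
      show w * (c₁ * z) * w⁻¹ = w * c₁ * w⁻¹ * (w * z * w⁻¹) by group, hwc₁, mul_assoc,
      mul_eq_left] at e1
    rw [eq_inv_of_mul_eq_one_right e1, inv_eq_of_mul_eq_one_right M.zz]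
  have hwτ : w * τ⁻¹ * w⁻¹ = τ⁻¹ * c₁ := by rw [hc₁, commutatorElement_def]; group
  have hwN : w ∈ Subgroup.normalizer (P : Set T) := by
    refine M.mem_normalizer (fun q hq hqΦ => ?_) ?_
    · have hε : ⁅τ, q⁆ ∈ zs ω := by
        rw [← commutatorElement_inv]
        exact inv_mem (S.commutator_left_mem M.shape hq M.τX)
      have hq' : w * q * w⁻¹ ∈ frattini T :=
        (inferInstance : (frattini T).Normal).conj_mem q hqΦ w
      refine M.mem_of_comm hq' ?_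
      have e : τ * (w * q * w⁻¹) * τ⁻¹ = ⁅τ, q⁆ * (w * q * w⁻¹) := by
        calc τ * (w * q * w⁻¹) * τ⁻¹ = c₁ * (w * (⁅τ, q⁆ * q) * w⁻¹) * c₁⁻¹ := by
              rw [hc₁]; simp only [commutatorElement_def]; group
          _ = c₁ * (⁅τ, q⁆ * (w * q * w⁻¹)) * c₁⁻¹ := by
              rw [show w * (⁅τ, q⁆ * q) * w⁻¹ = w * ⁅τ, q⁆ * w⁻¹ * (w * q * w⁻¹) by group,
                hεw _ hε]
          _ = ⁅τ, q⁆ * (w * q * w⁻¹) := mul_inv_eq_iff_eq_mul.2
              (h.uSub_central M.nc c₁ hc₁U _ (mul_mem (S.zs_le_frattini hε) hq'))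
      rw [commutatorElement_def τ (w * q * w⁻¹), e, mul_inv_cancel_right]
      exact hε
    · rw [show w * τ * w⁻¹ = (w * τ⁻¹ * w⁻¹)⁻¹ by group, hwτ]
      exact inv_mem (mul_mem (inv_mem M.τP) (M.uP hc₁U))
  have hout : ∀ f ∈ frattini T, w * f ∉ P := by
    intro f hf hfP
    rcases M.split hfP with h1 | h1
    · exact hwΦ (by simpa using mul_mem h1 (inv_mem hf))
    · refine hτwΦ ?_
      rw [show τ * w = τ * τ * (τ⁻¹ * (w * f) * f⁻¹) by group]
      exact mul_mem (S.zs_le_frattini (S.sq_mem_zs M.τX)) (mul_mem h1 (inv_mem hf))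
  have hwP : w ∉ P := fun h' => hout 1 (one_mem _) (by rwa [mul_one])
  have hws := hout s M.sΦ
  rcases M.shape with hE | ⟨z', hQ⟩
  swap
  · exact hws (M.mul_mem_quat hQ ⟨w, hwN⟩ ⟨s, S.sN⟩ hwP S.sP)
  by_cases hP : ∀ p ∈ P, p * p = 1
  swap
  · push Not at hP
    exact hws (M.mul_mem_elem hE hP ⟨w, hwN⟩ ⟨s, S.sN⟩ hwP S.sP)
  -- the single Jordan block
  obtain ⟨c, hcU, hcP, B⟩ := M.exists_eight hE hP
  have hττ : τ⁻¹ = τ := inv_eq_of_mul_eq_one_right (hP τ M.τP)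
  have hPc : ∀ p ∈ P, ∀ q ∈ P, p * q = q * p := (M.elem_facts hE).1
  have hzc₁ := hPc _ (M.uP hc₁U) _ M.zP
  have hc₁1 : c₁ ≠ 1 := fun e => hc₂Sq (by rw [hc₂e, e]; simp)
  have hc₁z : c₁ ≠ z := fun e => hc₂Sq (by rw [hc₂e, e, hwz', M.zz]; exact one_mem _)
  have hwwτ : w * w * τ * (w * w)⁻¹ = τ * z := by
    have e : ⁅τ, w * w⁆ = z := hc₂z
    calc w * w * τ * (w * w)⁻¹ = w * w * τ⁻¹ * (w * w)⁻¹ := by rw [hττ]
      _ = τ⁻¹ * ⁅τ, w * w⁆ := by rw [commutatorElement_def]; group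
      _ = τ * z := by rw [e, hττ]
  have hwτ' : w * τ * w⁻¹ = τ * c₁ := by
    conv_lhs => rw [← hττ]
    rw [hwτ, hττ]
  have hc₁cases : c₁ = c ∨ c₁ = c * z := by
    have hc1 : c ≠ 1 := fun e => B.c1 (Subtype.ext e)
    have hcz : c ≠ z := fun e => B.cz (Subtype.ext e)
    rcases mem_four (h.card_uSub M.nc) hcU M.zU hc₁U hc1 M.z1 hcz (fun e => hcz (by
      rw [eq_inv_of_mul_eq_one_left e, inv_eq_of_mul_eq_one_right M.zz])) with e | e | e | e
    · exact absurd e hc₁1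
    · exact Or.inl e
    · exact absurd e hc₁z
    · exact Or.inr e
  have hwc : w * c * w⁻¹ = c * z := by
    rcases hc₁cases with e | e
    · rwa [e] at hwc₁
    · rw [e, show w * (c * z) * w⁻¹ = w * c * w⁻¹ * (w * z * w⁻¹) by group, hwz'] at hwc₁
      calc w * c * w⁻¹ = w * c * w⁻¹ * z * z := by rw [mul_assoc _ z z, M.zz, mul_one]
        _ = c * z * z * z := by rw [hwc₁]
        _ = c * z := by rw [mul_assoc (c * z), M.zz, mul_one]
  obtain ⟨f, hfP, hfτ, hfc, hfz⟩ : ∃ f : Subgroup.normalizer (P : Set T), (f : T) ∉ P ∧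
      (f : T) * τ * (f : T)⁻¹ = τ * c ∧ (f : T) * c * (f : T)⁻¹ = c * z ∧
        (f : T) * z * (f : T)⁻¹ = z := by
    rcases hc₁cases with e | e
    · exact ⟨⟨w, hwN⟩, hwP, e ▸ hwτ', hwc, hwz'⟩
    · refine ⟨⟨w, hwN⟩ * (⟨w, hwN⟩ * ⟨w, hwN⟩), hout _ hwwΦ, ?_, ?_, ?_⟩
      · show w * (w * w) * τ * (w * (w * w))⁻¹ = τ * c
        rw [show w * (w * w) * τ * (w * (w * w))⁻¹ = w * (w * w * τ * (w * w)⁻¹) * w⁻¹ by group,
          hwwτ, show w * (τ * z) * w⁻¹ = w * τ * w⁻¹ * (w * z * w⁻¹) by group, hwτ', hwz', e]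
        simp only [mul_assoc, M.zz, mul_one]
      · show w * (w * w) * c * (w * (w * w))⁻¹ = c * z
        rw [show w * (w * w) * c * (w * (w * w))⁻¹ = w * (w * w * c * (w * w)⁻¹) * w⁻¹ by group,
          mul_inv_eq_iff_eq_mul.2 (h.uSub_central M.nc c hcU _ hwwΦ).symm, hwc]
      · show w * (w * w) * z * (w * (w * w))⁻¹ = z
        rw [show w * (w * w) * z * (w * (w * w))⁻¹ = w * (w * w * z * (w * w)⁻¹) * w⁻¹ by group,
          mul_inv_eq_iff_eq_mul.2 (h.uSub_central M.nc z M.zU _ hwwΦ).symm, hwz']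
  exact S.notY (B.mem_of_jordan S.ess S.mem (S.ess.conj_mem f) (M.pow_two f) (Subtype.ext hfτ)
    (Subtype.ext hfc) (Subtype.ext hfz))

end CfsgLib.Bicyclic
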